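import Mathlib
import Cfsg.Agent.Lib.FieldFour
import Cfsg.Agent.ClassicalGeometry.AutPSL.Auto
import Cfsg.Agent.S2690
import Cfsg.Agent.H906.Cover_m3
import Cfsg.Agent.S0243
import Cfsg.Agent.H921.M22.Final_m3
import Cfsg.Agent.LieClassical.FieldTransfer
import Cfsg.Agent.H920.SympA
import Cfsg.Agent.H13.M22.Twelve
import Cfsg.Agent.H13.M22.Stab
import Cfsg.Agent.FastGrp
import Cfsg.Agent.Prune
set_option linter.all false

section
prune_inst 0x7f00000000000000000000000000000000000000000000000000000000000000000000000000000000000000000000000000000000000000000000000000000000000000000000000000000000000000003fffffffffffffffffffffffffffbeffbdffffffff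

section
prune_inst 0xbeedfbeff8a9dfdfff7e7fa6decffdfdb93fffe6fffdcb7fe061ff0bdf4b1acdc5ab8d8fe832fc1fd7421410f87b53fffffeffea6fdc7ffffd5ff41ffbffcfedf7b508519c88b40fbc0ffe03f0778e7f000000000000000000000000000000000200000000

-- part: H840/L34/Conf
section
prune_inst 0x4012040007162020000180592130000244c00019000230801c9c00b4002484322254727010cc034028a1a2e502800000000000150022000000a000c0000010120808810063140010020001f009084000000000000000000000000000000000004000000000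
set_option linter.all false
open scoped Cfsg.Agent.FastGrp

-- part: H840/L34/Grp
section
/-!
# Double covers of `PSL_3(4)` : canonical lifts of root groups
-/

set_option autoImplicit false

namespace Cfsg.Agent.H840.L34

open Cfsg.Agent.Lib.FieldFour

abbrev S := Matrix.SpecialLinearGroup (Fin 3) F4
abbrev L := Matrix.ProjectiveSpecialLinearGroup (Fin 3) F4

/-- the projection -/
abbrev q : S →* L := QuotientGroup.mk' _

def x12 (s : F4) : S := ⟨!![1, s, 0; 0, 1, 0; 0, 0, 1], by rw [Matrix.det_fin_three]; revert s; decide⟩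
def x23 (s : F4) : S := ⟨!![1, 0, 0; 0, 1, s; 0, 0, 1], by rw [Matrix.det_fin_three]; revert s; decide⟩
def x13 (s : F4) : S := ⟨!![1, 0, s; 0, 1, 0; 0, 0, 1], by rw [Matrix.det_fin_three]; revert s; decide⟩
def x21 (s : F4) : S := ⟨!![1, 0, 0; s, 1, 0; 0, 0, 1], by rw [Matrix.det_fin_three]; revert s; decide⟩
def hh : S := ⟨!![F4.w, 0, 0; 0, F4.v, 0; 0, 0, 1], by rw [Matrix.det_fin_three]; decide⟩
def wa : S := ⟨!![0, 1, 0; 1, 0, 0; 0, 0, 1], by rw [Matrix.det_fin_three]; decide⟩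
def wb : S := ⟨!![1, 0, 0; 0, 0, 1; 0, 1, 0], by rw [Matrix.det_fin_three]; decide⟩
/-- a scalar -/
def sc : S := ⟨!![F4.w, 0, 0; 0, F4.w, 0; 0, 0, F4.w], by rw [Matrix.det_fin_three]; decide⟩

theorem q_sc : q sc = 1 := by
  change ((sc : S) : L) = 1
  rw [QuotientGroup.eq_one_iff, Matrix.SpecialLinearGroup.mem_center_iff]
  exact ⟨F4.w, by decide, by decide⟩

theorem x12_add (s t : F4) : x12 (s + t) = x12 s * x12 t := by
  apply Subtype.ext; revert s t; decide +kernel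
theorem x23_add (s t : F4) : x23 (s + t) = x23 s * x23 t := by
  apply Subtype.ext; revert s t; decide +kernel
theorem x13_add (s t : F4) : x13 (s + t) = x13 s * x13 t := by
  apply Subtype.ext; revert s t; decide +kernel

theorem hh_x12 (s : F4) : hh * x12 s = x12 (F4.v * s) * hh := by
  apply Subtype.ext; revert s; decide +kernel
theorem hh_x23 (s : F4) : hh * x23 s = x23 (F4.v * s) * hh := by
  apply Subtype.ext; revert s; decide +kernel
theorem hh_x13 (s : F4) : hh * x13 s = x13 (F4.w * s) * hh := by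
  apply Subtype.ext; revert s; decide +kernel
theorem hh_cube : hh * hh * hh = 1 := by
  apply Subtype.ext; decide

theorem wb_sq : wb * wb = 1 := by apply Subtype.ext; decide
theorem wa_x13 (s : F4) : wa * x13 s = x23 s * wa := by
  apply Subtype.ext; revert s; decide +kernel
theorem wa_x23 (s : F4) : wa * x23 s = x13 s * wa := by
  apply Subtype.ext; revert s; decide +kernel
theorem wb_x12 (s : F4) : wb * x12 s = x13 s * wb := by
  apply Subtype.ext; revert s; decide +kernel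
theorem wb_x13 (s : F4) : wb * x13 s = x12 s * wb := by
  apply Subtype.ext; revert s; decide +kernel
theorem braid : wa * wb * wa = wb * wa * wb := by apply Subtype.ext; decide +kernel
theorem comm_a (s t : F4) : x12 s * x13 t = x13 t * x12 s := by
  apply Subtype.ext; revert s t; decide +kernel
theorem comm_b (s t : F4) : x23 s * x13 t = x13 t * x23 s := by
  apply Subtype.ext; revert s t; decide +kernel

/-- a double cover of `PSL_3(4)` (possibly split) -/
structure Cv (G : Type*) [Group G] where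
  π : G →* L
  z : G
  surj : Function.Surjective π
  zc : ∀ g, z * g = g * z
  zz : z * z = 1
  z1 : z ≠ 1
  ker : ∀ g, π g = 1 ↔ g = 1 ∨ g = z

variable {G : Type*} [Group G] (C : Cv G)

namespace Cv

theorem πz : C.π C.z = 1 := (C.ker _).2 (Or.inr rfl)

theorem zinv : C.z⁻¹ = C.z := by
  rw [inv_eq_iff_mul_eq_one]; exact C.zz

theorem eq_or {g g' : G} (h : C.π g = C.π g') : g = g' ∨ g = C.z * g' := by
  have h1 : C.π (g * g'⁻¹) = 1 := by rw [map_mul, map_inv, h, mul_inv_cancel]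
  rcases (C.ker _).1 h1 with h2 | h2
  · left; exact mul_inv_eq_one.1 h2
  · right; exact mul_inv_eq_iff_eq_mul.1 h2

theorem ne_zmul (g : G) : C.z * g ≠ g := fun h => C.z1 (mul_eq_right.1 h)

theorem zmul_zmul (g g' : G) : (C.z * g) * (C.z * g') = g * g' := by
  rw [mul_assoc, ← mul_assoc g, ← C.zc g, mul_assoc C.z g, ← mul_assoc C.z C.z, C.zz, one_mul]

theorem zconj (g y : G) : g * (C.z * y) * g⁻¹ = C.z * (g * y * g⁻¹) := by
  rw [← mul_assoc g, ← C.zc g]; simp only [mul_assoc]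

theorem exists_lift (s : S) : ∃ g, C.π g = q s := C.surj _

theorem sq_or {y : G} {t : S} (hy : C.π y = q t) (ht : t * t = 1) : y * y = 1 ∨ y * y = C.z := by
  apply (C.ker _).1
  rw [map_mul, hy, ← map_mul, ht, map_one]

/-- squares of lifts of conjugate elements -/
theorem sq_conj {y y' : G} {t t' g : S} (hy : C.π y = q t) (hy' : C.π y' = q t') (hg : g * t = t' * g)
    {c : G} (hc : c = 1 ∨ c = C.z) (h : y * y = c) : y' * y' = c := by
  obtain ⟨γ, hγ⟩ := C.exists_lift g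
  have hcc : γ * c * γ⁻¹ = c := by
    rcases hc with rfl | rfl
    · simp
    · rw [← C.zc, mul_assoc, mul_inv_cancel, mul_one]
  have h1 : C.π (γ * y * γ⁻¹) = C.π y' := by
    rw [map_mul, map_mul, map_inv, hγ, hy, hy', ← map_mul, hg, map_mul, mul_assoc, mul_inv_cancel, mul_one]
  have h2 : (γ * y * γ⁻¹) * (γ * y * γ⁻¹) = c := by
    rw [← hcc, ← h]; group
  rcases C.eq_or h1.symm with h3 | h3
  · rw [h3, h2]
  · rw [h3, C.zmul_zmul, h2]

/-- the key commutator computation in an extraspecial-like group -/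
theorem no_quad {a b c : G} (ha : a * a = C.z) (hb : b * b = C.z) (hc : c * c = C.z) (hab : (a * b) * (a * b) = C.z)
    (hac : (a * c) * (a * c) = C.z) (hbc : (b * c) * (b * c) = C.z) (habc : (a * (b * c)) * (a * (b * c)) = C.z) :
    False := by
  have key : ∀ x y : G, x * x = C.z → y * y = C.z → (x * y) * (x * y) = C.z → x * y = C.z * (y * x) := by
    intro x y hx hy hxy
    have h1 : (x * y) * (y * x) = 1 := by
      rw [mul_assoc, ← mul_assoc y y, hy, C.zc, ← mul_assoc, hx, C.zz]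
    have h2 : (x * y) * (C.z * (y * x)) = C.z := by
      rw [← mul_assoc, ← C.zc, mul_assoc, h1, mul_one]
    exact mul_left_cancel (hxy.trans h2.symm)
  have h1 := key a b ha hb hab
  have h2 := key a c ha hc hac
  have h3 : a * (b * c) = (b * c) * a := by
    rw [← mul_assoc, h1, mul_assoc, mul_assoc, h2, ← mul_assoc b, ← C.zc b]
    rw [mul_assoc C.z b, ← mul_assoc C.z C.z, C.zz, one_mul, mul_assoc]
  have h4 : (a * (b * c)) * (a * (b * c)) = 1 := by
    calc (a * (b * c)) * (a * (b * c)) = (a * (b * c)) * ((b * c) * a) := by rw [← h3]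
      _ = a * ((b * c) * (b * c)) * a := by simp only [mul_assoc]
      _ = 1 := by rw [hbc, ← C.zc, mul_assoc, ha, C.zz]
  exact C.z1 (habc.symm.trans h4)

/-- element of `E_a` -/
def ea (x y : F4) : S := ⟨!![1, 0, x; 0, 1, y; 0, 0, 1], by rw [Matrix.det_fin_three]; revert x y; decide +kernel⟩

theorem ea_sq (x y : F4) : ea x y * ea x y = 1 := by
  apply Subtype.ext; revert x y; decide +kernel

theorem conj_one (y : F4) : x21 y * ea 1 0 = ea 1 y * x21 y := by
  apply Subtype.ext; revert y; decide +kernel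

/-- lifts of the elements of `E_a` square to one -/
theorem sq_x23_one {y : G} (hy : C.π y = q (x23 1)) : y * y = 1 := by
  by_contra hne
  have hz : y * y = C.z := (C.sq_or hy (ea_sq 0 1)).resolve_left hne
  have hzz : C.z = 1 ∨ C.z = C.z := Or.inr rfl
  have e1 : ∀ {y' : G} {u : F4}, u = 1 ∨ u = F4.v ∨ u = F4.w → C.π y' = q (x23 u) → y' * y' = C.z := by
    intro y' u hu hy'
    rcases hu with rfl | rfl | rfl
    · exact C.sq_conj hy hy' (g := 1) (by rw [one_mul, mul_one]) hzz hz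
    · exact C.sq_conj hy hy' (g := hh) (by apply Subtype.ext; decide) hzz hz
    · exact C.sq_conj hy hy' (g := hh * hh) (by apply Subtype.ext; decide +kernel) hzz hz
  have e2 : ∀ {y' : G}, C.π y' = q (x13 1) → y' * y' = C.z := by
    intro y' hy'
    exact C.sq_conj hy hy' (g := wa) (wa_x23 1) hzz hz
  have e3 : ∀ {y' : G} (u : F4), C.π y' = q (ea 1 u) → y' * y' = C.z := by
    intro y' u hy'
    obtain ⟨y1, h1⟩ := C.exists_lift (x13 1)
    exact C.sq_conj h1 hy' (g := x21 u) (conj_one u) hzz (e2 h1)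
  obtain ⟨b, hb⟩ := C.exists_lift (x23 F4.w)
  obtain ⟨c, hc⟩ := C.exists_lift (x13 1)
  refine C.no_quad (a := y) (b := b) (c := c) hz (e1 (by simp) hb) (e2 hc) (e1 (u := F4.v) (by simp) ?_)
    (e3 1 ?_) (e3 F4.w ?_) (e3 F4.v ?_)
  · rw [map_mul, hy, hb, ← map_mul]; congr 1; apply Subtype.ext; decide
  · rw [map_mul, hy, hc, ← map_mul]; congr 1; apply Subtype.ext; decide
  · rw [map_mul, hb, hc, ← map_mul]; congr 1; apply Subtype.ext; decide
  · rw [map_mul, map_mul, hy, hb, hc, ← map_mul, ← map_mul]; congr 1; apply Subtype.ext; decide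

theorem sq_of_conj {t g : S} (hg : g * x23 1 = t * g) {y : G} (hy : C.π y = q t) : y * y = 1 := by
  obtain ⟨y1, h1⟩ := C.exists_lift (x23 1)
  exact C.sq_conj h1 hy hg (Or.inl rfl) (C.sq_x23_one h1)

/-- a lift of order three of the torus element -/
theorem exists_h : ∃ h, C.π h = q hh ∧ h * h * h = 1 := by
  obtain ⟨h, hh1⟩ := C.exists_lift hh
  have h2 : C.π (h * h * h) = 1 := by
    rw [map_mul, map_mul, hh1, ← map_mul, ← map_mul, hh_cube, map_one]
  rcases (C.ker _).1 h2 with h3 | h3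
  · exact ⟨h, hh1, h3⟩
  · refine ⟨C.z * h, by rw [map_mul, C.πz, one_mul, hh1], ?_⟩
    rw [C.zmul_zmul, ← mul_assoc, ← C.zc, mul_assoc, h3, C.zz]

theorem cube_unique {x y : G} (h : C.π x = C.π y) (hx : x * x * x = 1) (hy : y * y * y = 1) : x = y := by
  rcases C.eq_or h with h1 | h1
  · exact h1
  · exfalso
    rw [h1, C.zmul_zmul, ← mul_assoc, ← C.zc, mul_assoc, hy, mul_one] at hx
    exact C.z1 hx

/-- an additive family of lifts, equivariant under `h` -/
structure Fam (h : G) (m : F4) (x : F4 → L) (X : F4 → G) : Prop where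
  lift : ∀ t, C.π (X t) = x t
  add : ∀ s t, X (s + t) = X s * X t
  conj : ∀ t, h * X t * h⁻¹ = X (m * t)

theorem exists_fam {h : G} (h3 : h * h * h = 1) {m : F4} (hm : m = F4.w ∨ m = F4.v) {x : F4 → L}
    (hx : ∀ s t, x (s + t) = x s * x t) (hc : ∀ t, C.π h * x t = x (m * t) * C.π h)
    (hs : ∀ y, C.π y = x 1 → y * y = 1) : ∃ X, C.Fam h m x X := by
  have hm2 : (1 : F4) + m = m * m := by rcases hm with rfl | rfl <;> decide
  have hm3 : m * (m * m) = 1 := by rcases hm with rfl | rfl <;> decide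
  have hx0 : x 0 = 1 := by
    have h1 := hx 0 0
    rw [add_zero] at h1
    exact (mul_eq_left.1 h1.symm)
  have hcc : ∀ {t : F4} {y : G}, C.π y = x t → C.π (h * y * h⁻¹) = x (m * t) := by
    intro t y hy
    rw [map_mul, map_mul, map_inv, hy, hc, mul_assoc, mul_inv_cancel, mul_one]
  obtain ⟨y, hy, hyy⟩ : ∃ y, C.π y = x 1 ∧ y * (h * y * h⁻¹) = h * (h * y * h⁻¹) * h⁻¹ := by
    obtain ⟨y, hy⟩ := C.surj (x 1)
    have e1 := hcc hy
    have e2 := hcc e1
    have e3 : C.π (y * (h * y * h⁻¹)) = C.π (h * (h * y * h⁻¹) * h⁻¹) := by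
      rw [map_mul, e2, e1, hy, ← hx, mul_one, hm2]
    rcases C.eq_or e3 with e4 | e4
    · exact ⟨y, hy, e4⟩
    · refine ⟨C.z * y, by rw [map_mul, C.πz, one_mul, hy], ?_⟩
      rw [C.zconj, C.zmul_zmul, C.zconj, e4]
  set y1 := h * y * h⁻¹ with hy1
  set y2 := h * y1 * h⁻¹ with hy2
  have e1 : C.π y1 = x m := by rw [hcc hy, mul_one]
  have e2 : C.π y2 = x (m * m) := hcc e1
  have e0 : h * y2 * h⁻¹ = y := by
    rw [hy2, hy1]
    have : h * (h * (h * y * h⁻¹) * h⁻¹) * h⁻¹ = (h * h * h) * y * (h * h * h)⁻¹ := by group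
    rw [this, h3]; group
  have s0 : y * y = 1 := hs y hy
  have s1 : y1 * y1 = 1 := by
    have : y1 * y1 = h * (y * y) * h⁻¹ := by rw [hy1]; group
    rw [this, s0]; group
  have s2 : y2 * y2 = 1 := by
    have : y2 * y2 = h * (y1 * y1) * h⁻¹ := by rw [hy2]; group
    rw [this, s1]; group
  have p01 : y * y1 = y2 := hyy
  have p12 : y1 * y2 = y := by
    have : h * (y * y1) * h⁻¹ = h * y2 * h⁻¹ := by rw [p01]
    have h4 : h * (y * y1) * h⁻¹ = (h * y * h⁻¹) * (h * y1 * h⁻¹) := by group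
    rw [h4, e0] at this
    exact this
  have p20 : y2 * y = y1 := by
    have : h * (y1 * y2) * h⁻¹ = h * y * h⁻¹ := by rw [p12]
    have h4 : h * (y1 * y2) * h⁻¹ = (h * y1 * h⁻¹) * (h * y2 * h⁻¹) := by group
    rw [h4, e0] at this
    exact this
  have i0 : y⁻¹ = y := inv_eq_of_mul_eq_one_right s0
  have i1 : y1⁻¹ = y1 := inv_eq_of_mul_eq_one_right s1
  have i2 : y2⁻¹ = y2 := inv_eq_of_mul_eq_one_right s2
  have p10 : y1 * y = y2 := by
    have := congrArg (·⁻¹) p01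
    simpa only [mul_inv_rev, i0, i1, i2] using this
  have p21 : y2 * y1 = y := by
    have := congrArg (·⁻¹) p12
    simpa only [mul_inv_rev, i0, i1, i2] using this
  have p02 : y * y2 = y1 := by
    have := congrArg (·⁻¹) p20
    simpa only [mul_inv_rev, i0, i1, i2] using this
  rcases hm with rfl | rfl
  · refine ⟨fun t => match t with | F4.o => 1 | F4.i => y | F4.w => y1 | F4.v => y2, ?_, ?_, ?_⟩
    · intro t
      cases t
      · exact (map_one _).trans hx0.symm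
      · exact hy
      · exact e1
      · exact e2
    · intro s t
      cases s <;> cases t <;> simp only [show (F4.o : F4) + F4.o = F4.o from rfl] <;>
        first
          | exact (one_mul _).symm
          | exact (mul_one _).symm
          | exact s0.symm
          | exact s1.symm
          | exact s2.symm
          | exact p01.symm
          | exact p12.symm
          | exact p20.symm
          | exact p10.symm
          | exact p21.symm
          | exact p02.symm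
    · intro t
      cases t
      · change h * 1 * h⁻¹ = 1
        group
      · exact hy1.symm
      · exact hy2.symm
      · exact e0
  · refine ⟨fun t => match t with | F4.o => 1 | F4.i => y | F4.v => y1 | F4.w => y2, ?_, ?_, ?_⟩
    · intro t
      cases t
      · exact (map_one _).trans hx0.symm
      · exact hy
      · exact e2
      · exact e1
    · intro s t
      cases s <;> cases t <;>
        first
          | exact (one_mul _).symm
          | exact (mul_one _).symm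
          | exact s0.symm
          | exact s1.symm
          | exact s2.symm
          | exact p01.symm
          | exact p12.symm
          | exact p20.symm
          | exact p10.symm
          | exact p21.symm
          | exact p02.symm
    · intro t
      cases t
      · change h * 1 * h⁻¹ = 1
        group
      · exact hy1.symm
      · exact e0
      · exact hy2.symm

namespace Fam

variable {C} {h : G} {m : F4} {x : F4 → L} {X : F4 → G}

theorem zero (hX : C.Fam h m x X) : X 0 = 1 := by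
  have h1 := hX.add 0 0
  rw [add_zero] at h1
  exact mul_eq_left.1 h1.symm

theorem sq (hX : C.Fam h m x X) (t : F4) : X t * X t = 1 := by
  rw [← hX.add, show t + t = 0 by revert t; decide, hX.zero]

theorem inv (hX : C.Fam h m x X) (t : F4) : (X t)⁻¹ = X t := inv_eq_of_mul_eq_one_right (hX.sq t)

theorem comm (hX : C.Fam h m x X) (s t : F4) : X s * X t = X t * X s := by
  rw [← hX.add, ← hX.add, add_comm]

theorem unique (hm : m = F4.w ∨ m = F4.v) (hX : C.Fam h m x X) {X' : F4 → G} (hX' : C.Fam h m x X') : X' = X := by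
  have hm2 : (1 : F4) + m = m * m := by rcases hm with rfl | rfl <;> decide
  have key : X' 1 = X 1 := by
    rcases C.eq_or ((hX'.lift 1).trans (hX.lift 1).symm) with h1 | h1
    · exact h1
    · exfalso
      have h2 : X' m = C.z * X m := by
        have := hX'.conj 1
        rw [h1, C.zconj, hX.conj, mul_one] at this
        exact this.symm
      have h3 : X' (m * m) = C.z * X (m * m) := by
        have := hX'.conj m
        rw [h2, C.zconj, hX.conj] at this
        exact this.symm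
      have h4 := hX'.add 1 m
      rw [hm2, h1, h2, C.zmul_zmul, ← hX.add, hm2, h3] at h4
      exact C.ne_zmul _ h4
  have k1 : X' m = X m := by
    have := hX'.conj 1
    rw [key, hX.conj, mul_one] at this
    exact this.symm
  have k2 : X' (m * m) = X (m * m) := by
    have := hX'.conj m
    rw [k1, hX.conj] at this
    exact this.symm
  have k0 : X' 0 = X 0 := by rw [hX.zero, hX'.zero]
  funext t
  rcases hm with rfl | rfl <;> cases t
  · exact k0
  · exact key
  · exact k1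
  · exact k2
  · exact k0
  · exact key
  · exact k2
  · exact k1

end Fam

end Cv

end Cfsg.Agent.H840.L34
end

-- part: H840/L34/Conf
section
/-!
# Double covers of `PSL_3(4)` : the configuration of root groups
-/

set_option autoImplicit false

namespace Cfsg.Agent.H840.L34

open Cfsg.Agent.Lib.FieldFour
open Cfsg.Agent.ClassicalGeometry.AutPSL.Auto

variable {G : Type*} [Group G] {C : Cv G}

/-- canonical families of lifts -/
structure Conf (C : Cv G) where
  h : G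
  X12 : F4 → G
  X23 : F4 → G
  X13 : F4 → G
  h3 : h * h * h = 1
  hπ : C.π h = q hh
  f12 : C.Fam h F4.v (fun t => q (x12 t)) X12
  f23 : C.Fam h F4.v (fun t => q (x23 t)) X23
  f13 : C.Fam h F4.w (fun t => q (x13 t)) X13

theorem wa_g : (x12 1 * wa * wb * wa) * x23 1 = wa * (x12 1 * wa * wb * wa) := by apply Subtype.ext; decide +kernel
theorem wb_g : (x23 1 * wb) * x23 1 = wb * (x23 1 * wb) := by apply Subtype.ext; decide +kernel
theorem x13_g : wa * x23 1 = x13 1 * wa := by apply Subtype.ext; decide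
theorem x12_g : (wb * wa) * x23 1 = x12 1 * (wb * wa) := by apply Subtype.ext; decide +kernel

theorem exists_conf (C : Cv G) : Nonempty (Conf C) := by
  obtain ⟨h, hπ, h3⟩ := C.exists_h
  obtain ⟨X12, f12⟩ := C.exists_fam h3 (m := F4.v) (Or.inr rfl) (x := fun t => q (x12 t))
    (fun s t => by rw [x12_add, map_mul]) (fun t => by rw [hπ, ← map_mul, hh_x12, map_mul])
    (fun y hy => C.sq_of_conj x12_g hy)
  obtain ⟨X23, f23⟩ := C.exists_fam h3 (m := F4.v) (Or.inr rfl) (x := fun t => q (x23 t))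
    (fun s t => by rw [x23_add, map_mul]) (fun t => by rw [hπ, ← map_mul, hh_x23, map_mul])
    (fun y hy => C.sq_x23_one hy)
  obtain ⟨X13, f13⟩ := C.exists_fam h3 (m := F4.w) (Or.inl rfl) (x := fun t => q (x13 t))
    (fun s t => by rw [x13_add, map_mul]) (fun t => by rw [hπ, ← map_mul, hh_x13, map_mul])
    (fun y hy => C.sq_of_conj x13_g hy)
  exact ⟨⟨h, X12, X23, X13, h3, hπ, f12, f23, f13⟩⟩

/-- torus elements -/
def tor : F4 → S
  | F4.o => 1
  | F4.i => 1
  | F4.w => hh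
  | F4.v => hh * hh

theorem tor_ea (x y : F4) (hx : x ≠ 0) : (Cv.ea x y) * (x21 (y * x⁻¹) * (tor x * wa)) =
    (x21 (y * x⁻¹) * (tor x * wa)) * x23 1 := by
  apply Subtype.ext; revert x y; decide +kernel

theorem tor_eb (x y : F4) (hx : x ≠ 0) : (x12 x * x13 y) * (x23 (y * x⁻¹) * (wb * (tor x * wa))) =
    (x23 (y * x⁻¹) * (wb * (tor x * wa))) * x23 1 := by
  apply Subtype.ext; revert x y; decide +kernel

theorem comm_of_sq {x y : G} (hx : x * x = 1) (hy : y * y = 1) (hxy : (x * y) * (x * y) = 1) : x * y = y * x := by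
  have h1 : (x * y)⁻¹ = x * y := inv_eq_of_mul_eq_one_right hxy
  rw [mul_inv_rev, inv_eq_of_mul_eq_one_right hx, inv_eq_of_mul_eq_one_right hy] at h1
  exact h1.symm

namespace Conf

variable (c : Conf C)

theorem comm_a (s t : F4) : c.X23 s * c.X13 t = c.X13 t * c.X23 s := by
  apply comm_of_sq (c.f23.sq s) (c.f13.sq t)
  by_cases ht : t = 0
  · rw [ht, c.f13.zero, mul_one, c.f23.sq]
  · apply C.sq_of_conj (t := Cv.ea t s) (g := x21 (s * t⁻¹) * (tor t * wa)) (tor_ea t s ht).symm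
    rw [map_mul, c.f23.lift, c.f13.lift, ← map_mul]
    congr 1
    apply Subtype.ext; clear ht; revert s t; decide +kernel

theorem comm_b (s t : F4) : c.X12 s * c.X13 t = c.X13 t * c.X12 s := by
  apply comm_of_sq (c.f12.sq s) (c.f13.sq t)
  by_cases hs : s = 0
  · rw [hs, c.f12.zero, one_mul, c.f13.sq]
  · apply C.sq_of_conj (t := x12 s * x13 t) (g := x23 (t * s⁻¹) * (wb * (tor s * wa))) (tor_eb s t hs).symm
    rw [map_mul, c.f12.lift, c.f13.lift, ← map_mul]

/-- the commutator sign -/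
def eps (s t : F4) : G := c.X12 s * c.X23 t * c.X12 s * c.X23 t * c.X13 (s * t)

theorem eps_or (s t : F4) : c.eps s t = 1 ∨ c.eps s t = C.z := by
  apply (C.ker _).1
  unfold eps
  rw [map_mul, map_mul, map_mul, map_mul, c.f12.lift, c.f23.lift, c.f13.lift, ← map_mul, ← map_mul, ← map_mul,
    ← map_mul]
  have : x12 s * x23 t * x12 s * x23 t * x13 (s * t) = 1 := by
    apply Subtype.ext; revert s t; decide +kernel
  rw [this, map_one]

theorem eps_comm (s t : F4) (g : G) : c.eps s t * g = g * c.eps s t := by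
  rcases c.eps_or s t with h | h
  · rw [h, one_mul, mul_one]
  · rw [h, C.zc]

theorem rel (s t : F4) : c.X12 s * c.X23 t = c.eps s t * (c.X13 (s * t) * (c.X23 t * c.X12 s)) := by
  unfold eps
  have h1 := c.f12.sq s
  have h2 := c.f23.sq t
  have h3 := c.f13.sq (s * t)
  calc c.X12 s * c.X23 t = c.X12 s * c.X23 t * c.X12 s * c.X23 t * (c.X13 (s * t) * c.X13 (s * t)) *
        (c.X23 t * c.X12 s) := by
        rw [h3, mul_one]
        simp only [mul_assoc]
        rw [← mul_assoc (c.X23 t) (c.X23 t), h2, one_mul, h1, mul_one]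
    _ = _ := by simp only [mul_assoc]

theorem eps_add (s t t' : F4) : c.eps s (t + t') = c.eps s t * c.eps s t' := by
  have h1 := c.rel s (t + t')
  have h2 : c.X12 s * c.X23 (t + t') = (c.eps s t * c.eps s t') * (c.X13 (s * (t + t')) * (c.X23 (t + t') * c.X12 s)) := by
    rw [c.f23.add, ← mul_assoc, c.rel s t, mul_assoc, mul_assoc, mul_assoc, c.rel s t', ← mul_assoc (c.X23 t),
      ← c.eps_comm, mul_assoc (c.eps s t'), ← mul_assoc (c.X13 (s * t)), ← c.eps_comm s t' (c.X13 (s * t)),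
      mul_assoc (c.eps s t'), ← mul_assoc (c.eps s t), mul_add, c.f13.add]
    congr 1
    rw [mul_assoc, ← mul_assoc (c.X23 t), c.comm_a t (s * t')]
    simp only [mul_assoc]
  exact mul_right_cancel (h1.symm.trans h2)

theorem eps_conj (s t : F4) : c.eps (F4.v * s) (F4.v * t) = c.eps s t := by
  have h1 : c.h * c.eps s t * c.h⁻¹ = c.eps s t := by
    rw [← c.eps_comm, mul_assoc, mul_inv_cancel, mul_one]
  have h2 : c.h * c.eps s t * c.h⁻¹ = (c.h * c.X12 s * c.h⁻¹) * (c.h * c.X23 t * c.h⁻¹) * (c.h * c.X12 s * c.h⁻¹) *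
      (c.h * c.X23 t * c.h⁻¹) * (c.h * c.X13 (s * t) * c.h⁻¹) := by
    unfold eps; group
  rw [h1, c.f12.conj, c.f23.conj, c.f13.conj] at h2
  rw [h2]
  unfold eps
  congr 2
  clear h1 h2
  revert s t; decide

/-- the sign as a function of one variable -/
def e (t : F4) : G := c.eps 1 t

theorem e_or (t : F4) : c.e t = 1 ∨ c.e t = C.z := c.eps_or 1 t

theorem e_add (s t : F4) : c.e (s + t) = c.e s * c.e t := c.eps_add 1 s t

theorem e_zero : c.e 0 = 1 := by
  have h1 := c.e_add 0 0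
  rw [add_zero] at h1
  exact mul_eq_left.1 h1.symm

theorem eps_eq (s t : F4) : c.eps s t = c.e (s * s * t) := by
  cases s
  · change c.eps 0 t = c.e (0 * 0 * t)
    rw [zero_mul, zero_mul, c.e_zero]
    unfold eps
    rw [c.f12.zero, one_mul, mul_one, zero_mul, c.f13.zero, mul_one, c.f23.sq]
  · change c.eps 1 t = c.e (1 * 1 * t)
    rw [one_mul, one_mul]; rfl
  · rw [← c.eps_conj, show (F4.v * F4.w : F4) = 1 from rfl]
    change c.e (F4.v * t) = _
    congr 1
  · rw [← c.eps_conj, show (F4.v * F4.v : F4) = F4.w from rfl, ← c.eps_conj,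
      show (F4.v * F4.w : F4) = 1 from rfl, ← mul_assoc]
    change c.e (F4.v * F4.v * t) = _
    congr 1

end Conf

/-! ### twisting by a diagonal automorphism -/

/-- `diag(m⁻¹, 1, 1)` -/
def DD (m : F4) : GL (Fin 3) F4 where
  val := !![if m = 0 then 1 else m⁻¹, 0, 0; 0, 1, 0; 0, 0, 1]
  inv := !![if m = 0 then 1 else m, 0, 0; 0, 1, 0; 0, 0, 1]
  val_inv := by revert m; decide +kernel
  inv_val := by revert m; decide +kernel

theorem cj_x12 (m s : F4) (hm : m ≠ 0) : cj (DD m) (x12 (m * s)) = x12 s := by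
  apply Subtype.ext
  rw [coe_cj]
  change !![if m = 0 then 1 else m⁻¹, 0, 0; 0, 1, 0; 0, 0, 1] * _ * !![if m = 0 then 1 else m, 0, 0; 0, 1, 0; 0, 0, 1] = _
  revert m s; decide +kernel

theorem cj_x13 (m s : F4) (hm : m ≠ 0) : cj (DD m) (x13 (m * s)) = x13 s := by
  apply Subtype.ext
  rw [coe_cj]
  change !![if m = 0 then 1 else m⁻¹, 0, 0; 0, 1, 0; 0, 0, 1] * _ * !![if m = 0 then 1 else m, 0, 0; 0, 1, 0; 0, 0, 1] = _
  revert m s; decide +kernel

theorem cj_x23 (m s : F4) (hm : m ≠ 0) : cj (DD m) (x23 s) = x23 s := by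
  apply Subtype.ext
  rw [coe_cj]
  change !![if m = 0 then 1 else m⁻¹, 0, 0; 0, 1, 0; 0, 0, 1] * _ * !![if m = 0 then 1 else m, 0, 0; 0, 1, 0; 0, 0, 1] = _
  revert m s; decide +kernel

theorem cj_hh (m : F4) (hm : m ≠ 0) : cj (DD m) hh = hh := by
  apply Subtype.ext
  rw [coe_cj]
  change !![if m = 0 then 1 else m⁻¹, 0, 0; 0, 1, 0; 0, 0, 1] * _ * !![if m = 0 then 1 else m, 0, 0; 0, 1, 0; 0, 0, 1] = _
  revert m; decide +kernel

/-- composition with an automorphism of `PSL_3(4)` -/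
def Cv.comp (C : Cv G) (α : MulAut L) : Cv G where
  π := α.toMonoidHom.comp C.π
  z := C.z
  surj := α.surjective.comp C.surj
  zc := C.zc
  zz := C.zz
  z1 := C.z1
  ker g := by
    rw [← C.ker g]
    exact α.map_eq_one_iff

theorem comp_π (C : Cv G) (α : MulAut L) (g : G) : (C.comp α).π g = α (C.π g) := rfl

theorem lift_q (D : MulAut S) (s : S) : lift D (q s) = q (D s) := rfl

namespace Conf

/-- the twisted configuration -/
def twist (c : Conf C) {m : F4} (hm : m ≠ 0) : Conf (C.comp (lift (cj (DD m)))) where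
  h := c.h
  X12 := fun s => c.X12 (m * s)
  X23 := c.X23
  X13 := fun s => c.X13 (m * s)
  h3 := c.h3
  hπ := by rw [comp_π, c.hπ, lift_q, cj_hh m hm]
  f12 := ⟨fun t => by rw [comp_π, c.f12.lift, lift_q, cj_x12 m t hm], fun s t => by rw [mul_add, c.f12.add],
    fun t => by rw [c.f12.conj, mul_left_comm]⟩
  f23 := ⟨fun t => by rw [comp_π, c.f23.lift, lift_q, cj_x23 m t hm], c.f23.add, c.f23.conj⟩
  f13 := ⟨fun t => by rw [comp_π, c.f13.lift, lift_q, cj_x13 m t hm], fun s t => by rw [mul_add, c.f13.add],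
    fun t => by rw [c.f13.conj, mul_left_comm]⟩

theorem twist_e (c : Conf C) {m : F4} (hm : m ≠ 0) (t : F4) : (c.twist hm).e t = c.e (m * m * t) := by
  rw [← c.eps_eq]
  change c.X12 (m * 1) * c.X23 t * c.X12 (m * 1) * c.X23 t * c.X13 (m * (1 * t)) =
    c.X12 m * c.X23 t * c.X12 m * c.X23 t * c.X13 (m * t)
  rw [mul_one, one_mul]

end Conf

theorem exists_good (C : Cv G) : ∃ (α : MulAut L) (c : Conf (C.comp α)), c.e 1 = 1 := by
  obtain ⟨c⟩ := exists_conf C
  have h1 := c.e_add 1 F4.w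
  have h0 := C.zz
  by_cases e1 : c.e 1 = 1
  · refine ⟨_, c.twist (m := 1) one_ne_zero, ?_⟩
    rw [c.twist_e]; exact e1
  by_cases e2 : c.e F4.w = 1
  · refine ⟨_, c.twist (m := F4.v) (by decide), ?_⟩
    rw [c.twist_e]; exact e2
  · refine ⟨_, c.twist (m := F4.w) (by decide), ?_⟩
    rw [c.twist_e]
    change c.e F4.v = 1
    change c.e F4.v = c.e 1 * c.e F4.w at h1
    rw [h1, (c.e_or 1).resolve_left e1, (c.e_or F4.w).resolve_left e2, C.zz]

/-! ### the Weyl group -/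

namespace Conf

variable (c : Conf C)

theorem h_inv (c : Conf C) : c.h⁻¹ * c.h⁻¹ * c.h⁻¹ = 1 := by
  have : c.h⁻¹ * c.h⁻¹ * c.h⁻¹ = (c.h * c.h * c.h)⁻¹ := by group
  rw [this, c.h3, inv_one]

theorem conj_h_a {a : G} (ha : C.π a = q wa) : a * c.h * a⁻¹ = c.h⁻¹ := by
  apply C.cube_unique _ _ c.h_inv
  · rw [map_mul, map_mul, map_inv, map_inv, ha, c.hπ, ← map_inv, ← map_inv, ← map_mul, ← map_mul]
    congr 1
    rw [mul_inv_eq_iff_eq_mul, eq_inv_mul_iff_mul_eq]
    apply Subtype.ext; decide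
  · have : a * c.h * a⁻¹ * (a * c.h * a⁻¹) * (a * c.h * a⁻¹) = a * (c.h * c.h * c.h) * a⁻¹ := by group
    rw [this, c.h3, mul_one, mul_inv_cancel]

theorem conj_h_b {b : G} (hb : C.π b = q wb) : b * c.h * b⁻¹ = c.h⁻¹ := by
  apply C.cube_unique _ _ c.h_inv
  · rw [map_mul, map_mul, map_inv, map_inv, hb, c.hπ, ← map_inv, ← map_inv, ← map_mul, ← map_mul]
    rw [← mul_one (q (wb * hh * wb⁻¹)), ← q_sc, ← map_mul]
    congr 1
    rw [eq_inv_iff_mul_eq_one]
    have : wb⁻¹ = wb := inv_eq_of_mul_eq_one_right wb_sq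
    rw [this]
    apply Subtype.ext; decide +kernel
  · have : b * c.h * b⁻¹ * (b * c.h * b⁻¹) * (b * c.h * b⁻¹) = b * (c.h * c.h * c.h) * b⁻¹ := by group
    rw [this, c.h3, mul_one, mul_inv_cancel]

theorem fam_inv {h : G} {m : F4} (hm : m ≠ 0) {x : F4 → L} {X : F4 → G} (hX : C.Fam h m x X) :
    C.Fam h⁻¹ m⁻¹ x X := by
  refine ⟨hX.lift, hX.add, fun t => ?_⟩
  have h1 := hX.conj (m⁻¹ * t)
  rw [← mul_assoc, mul_inv_cancel₀ hm, one_mul] at h1
  rw [← h1]; group

theorem fam_conj {h h' a : G} {m : F4} {x x' : F4 → L} {X : F4 → G} (hX : C.Fam h m x X) (ha : a * h * a⁻¹ = h')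
    (hx : ∀ t, C.π a * x t = x' t * C.π a) : C.Fam h' m x' (fun t => a * X t * a⁻¹) := by
  refine ⟨fun t => ?_, fun s t => ?_, fun t => ?_⟩
  · rw [map_mul, map_mul, map_inv, hX.lift, hx, mul_assoc, mul_inv_cancel, mul_one]
  · rw [hX.add]; group
  · rw [← hX.conj, ← ha]; group

theorem conj_a_13 {a : G} (ha : C.π a = q wa) (t : F4) : a * c.X13 t * a⁻¹ = c.X23 t := by
  have f1 : C.Fam c.h⁻¹ F4.w (fun t => q (x23 t)) c.X23 := fam_inv (by decide) c.f23
  have f2 := fam_conj c.f13 (c.conj_h_a ha) (x' := fun t => q (x23 t))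
    (fun t => by rw [ha, ← map_mul, wa_x13, map_mul])
  exact congrFun (f1.unique (Or.inl rfl) f2) t

theorem conj_a_23 {a : G} (ha : C.π a = q wa) (t : F4) : a * c.X23 t * a⁻¹ = c.X13 t := by
  have f1 : C.Fam c.h⁻¹ F4.v (fun t => q (x13 t)) c.X13 := fam_inv (by decide) c.f13
  have f2 := fam_conj c.f23 (c.conj_h_a ha) (x' := fun t => q (x13 t))
    (fun t => by rw [ha, ← map_mul, wa_x23, map_mul])
  exact congrFun (f1.unique (Or.inr rfl) f2) t

theorem conj_b_13 {b : G} (hb : C.π b = q wb) (t : F4) : b * c.X13 t * b⁻¹ = c.X12 t := by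
  have f1 : C.Fam c.h⁻¹ F4.w (fun t => q (x12 t)) c.X12 := fam_inv (by decide) c.f12
  have f2 := fam_conj c.f13 (c.conj_h_b hb) (x' := fun t => q (x12 t))
    (fun t => by rw [hb, ← map_mul, wb_x13, map_mul])
  exact congrFun (f1.unique (Or.inl rfl) f2) t

theorem conj_b_12 {b : G} (hb : C.π b = q wb) (t : F4) : b * c.X12 t * b⁻¹ = c.X13 t := by
  have f1 : C.Fam c.h⁻¹ F4.v (fun t => q (x13 t)) c.X13 := fam_inv (by decide) c.f13
  have f2 := fam_conj c.f12 (c.conj_h_b hb) (x' := fun t => q (x13 t))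
    (fun t => by rw [hb, ← map_mul, wb_x12, map_mul])
  exact congrFun (f1.unique (Or.inr rfl) f2) t

theorem sq_a {a : G} (ha : C.π a = q wa) : a * a = 1 := C.sq_of_conj wa_g ha
theorem sq_b {b : G} (hb : C.π b = q wb) : b * b = 1 := C.sq_of_conj wb_g hb

/-- conjugate of `X23 1` over a given element -/
theorem exists_conj {t g : S} (hg : g * x23 1 = t * g) : ∃ γ, C.π (γ * c.X23 1 * γ⁻¹) = q t := by
  obtain ⟨γ, hγ⟩ := C.exists_lift g
  refine ⟨γ, ?_⟩
  rw [map_mul, map_mul, map_inv, hγ, c.f23.lift, ← map_mul, hg, map_mul, mul_assoc, mul_inv_cancel, mul_one]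

end Conf

end Cfsg.Agent.H840.L34
end
end

-- part: H840/L34/Kill
section
prune_inst 0x100001000400000000000000000000000000000000000000000000000000000000000000200000000000000000000000000000000000000000000000000000000000000000000000000000000000000000000000000000000000000000000000000000000
set_option linter.all false
open scoped Cfsg.Agent.FastGrp

-- part: H840/L34/Wt
section
/-!
# Weights of an elementary abelian group of order sixteen
-/

set_option autoImplicit false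

namespace Cfsg.Agent.H840.L34

open Cfsg.Agent.Lib.FieldFour

section sign

variable {F : Type*} [Field F]

/-- the additive character of `F4` -/
def ps (F : Type*) [Field F] : F4 → F
  | F4.o => 1
  | F4.i => 1
  | F4.w => -1
  | F4.v => -1

@[simp] theorem ps_o : ps F F4.o = 1 := rfl
@[simp] theorem ps_i : ps F F4.i = 1 := rfl
@[simp] theorem ps_zero : ps F 0 = 1 := rfl
@[simp] theorem ps_one : ps F 1 = 1 := rfl
@[simp] theorem ps_w : ps F F4.w = -1 := rfl
@[simp] theorem ps_v : ps F F4.v = -1 := rfl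

theorem ps_add (s t : F4) : ps F (s + t) = ps F s * ps F t := by
  cases s <;> cases t <;> [exact (one_mul (1 : F)).symm; exact (one_mul (1 : F)).symm; exact (one_mul (-1 : F)).symm; exact (one_mul (-1 : F)).symm; exact (one_mul (1 : F)).symm;
                           exact (one_mul (1 : F)).symm; exact (one_mul (-1 : F)).symm; exact (one_mul (-1 : F)).symm; exact (mul_one (-1 : F)).symm;
                           exact (mul_one (-1 : F)).symm; exact (neg_mul_neg (1 : F) 1).trans (one_mul 1) |>.symm; exact (neg_mul_neg (1 : F) 1).trans (one_mul 1) |>.symm;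
                           exact (mul_one (-1 : F)).symm; exact (mul_one (-1 : F)).symm; exact (neg_mul_neg (1 : F) 1).trans (one_mul 1) |>.symm;
                           exact (neg_mul_neg (1 : F) 1).trans (one_mul 1) |>.symm]

theorem ps_sq (s : F4) : ps F (s * s) = ps F s := by cases s <;> rfl

theorem ps_mul_self (s : F4) : ps F s * ps F s = 1 := by
  rw [← ps_add, show s + s = 0 by revert s; decide]; rfl

theorem sum_F4 {M : Type*} [AddCommMonoid M] (f : F4 → M) : ∑ x, f x = f 0 + f 1 + f F4.w + f F4.v := by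
  have : (Finset.univ : Finset F4) = {F4.o, F4.i, F4.w, F4.v} := rfl
  rw [this, Finset.sum_insert (by decide), Finset.sum_insert (by decide), Finset.sum_insert (by decide),
    Finset.sum_singleton, add_assoc, add_assoc]
  rfl

theorem sum_ps (a : F4) : ∑ t, ps F (a * t) = if a = 0 then 4 else 0 := by
  rw [sum_F4]
  cases a
  · change (1 : F) + 1 + 1 + 1 = if (0 : F4) = 0 then 4 else 0
    rw [if_pos rfl]; norm_num
  · change (1 : F) + 1 + -1 + -1 = if (F4.i : F4) = 0 then 4 else 0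
    rw [if_neg (by decide)]; norm_num
  · change (1 : F) + -1 + -1 + 1 = if (F4.w : F4) = 0 then 4 else 0
    rw [if_neg (by decide)]; norm_num
  · change (1 : F) + -1 + 1 + -1 = if (F4.v : F4) = 0 then 4 else 0
    rw [if_neg (by decide)]; norm_num

end sign

section weights

variable {F : Type*} [Field F] {V : Type*} [AddCommGroup V] [Module F V]

/-- the character with parameter `i` -/
def ch (F : Type*) [Field F] (i x : F4 × F4) : F := ps F (i.1 * x.1) * ps F (i.2 * x.2)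

theorem ch_add (i x y : F4 × F4) : ch F i (x + y) = ch F i x * ch F i y := by
  unfold ch
  rw [Prod.fst_add, Prod.snd_add, mul_add, mul_add, ps_add, ps_add]
  ring

theorem ch_add_left (i j x : F4 × F4) : ch F (i + j) x = ch F i x * ch F j x := by
  unfold ch
  rw [Prod.fst_add, Prod.snd_add, add_mul, add_mul, ps_add, ps_add]
  ring

theorem ch_symm (i x : F4 × F4) : ch F i x = ch F x i := by
  unfold ch; rw [mul_comm i.1, mul_comm i.2]

theorem ch_self (i x : F4 × F4) : ch F i x * ch F i x = 1 := by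
  unfold ch
  rw [mul_mul_mul_comm, ps_mul_self, ps_mul_self, one_mul]

theorem sum_ch (i : F4 × F4) : ∑ x, ch F i x = if i = 0 then 16 else 0 := by
  rw [Fintype.sum_prod_type]
  simp only [ch]
  have h1 : ∀ x : F4, ∑ y, ps F (i.1 * x) * ps F (i.2 * y) = ps F (i.1 * x) * ∑ y, ps F (i.2 * y) := by
    intro x; rw [Finset.mul_sum]
  simp only [h1]
  rw [← Finset.sum_mul, sum_ps, sum_ps]
  obtain ⟨a, b⟩ := i
  by_cases ha : a = 0
  · by_cases hb : b = 0
    · subst ha hb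
      rw [if_pos rfl, if_pos (show ((0 : F4), (0 : F4)) = 0 from rfl)]; norm_num
    · rw [if_neg hb, mul_zero, if_neg]
      intro h; exact hb (Prod.ext_iff.1 h).2
  · rw [if_neg ha, zero_mul, if_neg]
    intro h; exact ha (Prod.ext_iff.1 h).1

/-- a representation of the elementary abelian group `F4 × F4` -/
structure Rp (T : F4 × F4 → V →ₗ[F] V) : Prop where
  add : ∀ x y v, T (x + y) v = T x (T y v)
  zero : ∀ v, T 0 v = v

/-- weight spaces -/
def W (T : F4 × F4 → V →ₗ[F] V) (i : F4 × F4) : Submodule F V where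
  carrier := {v | ∀ x, T x v = ch F i x • v}
  add_mem' := by
    intro u v hu hv x
    rw [map_add, hu, hv, smul_add]
  zero_mem' := by intro x; rw [map_zero, smul_zero]
  smul_mem' := by
    intro c v hv x
    rw [map_smul, hv, smul_comm]

/-- sixteen times the projection -/
def pr (T : F4 × F4 → V →ₗ[F] V) (i : F4 × F4) : V →ₗ[F] V := ∑ x, ch F i x • T x

theorem pr_apply (T : F4 × F4 → V →ₗ[F] V) (i : F4 × F4) (v : V) : pr T i v = ∑ x, ch F i x • T x v := by
  unfold pr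
  rw [LinearMap.sum_apply]
  rfl

variable {T : F4 × F4 → V →ₗ[F] V}

theorem pr_mem (hT : Rp T) (i : F4 × F4) (v : V) : pr T i v ∈ W T i := by
  intro y
  rw [pr_apply, map_sum, Finset.smul_sum, ← Equiv.sum_comp (Equiv.addLeft y) (fun x => ch F i y • ch F i x • T x v)]
  apply Finset.sum_congr rfl
  intro x _
  rw [Equiv.coe_addLeft, map_smul, ← hT.add, ch_add, smul_smul, ← mul_assoc, ch_self, one_mul]

theorem add_eq_zero_iff' (i j : F4 × F4) : i + j = 0 ↔ i = j := by revert i j; decide +kernel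

theorem pr_of_mem (i j : F4 × F4) {v : V} (hv : v ∈ W T j) : pr T i v = if i = j then (16 : F) • v else 0 := by
  rw [pr_apply]
  have h1 : ∀ x, ch F i x • T x v = ch F (i + j) x • v := by
    intro x
    rw [hv x, smul_smul, ch_add_left]
  simp only [h1]
  rw [← Finset.sum_smul, sum_ch]
  have h2 := add_eq_zero_iff' i j
  by_cases h : i = j
  · rw [if_pos (h2.2 h), if_pos h]
  · rw [if_neg (fun h' => h (h2.1 h')), if_neg h, zero_smul]

theorem sum_pr (hT : Rp T) (v : V) : ∑ i, pr T i v = (16 : F) • v := by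
  simp only [pr_apply]
  rw [Finset.sum_comm]
  have h1 : ∀ x, ∑ i, ch F i x • T x v = (if x = 0 then (16 : F) else 0) • T x v := by
    intro x
    rw [← Finset.sum_smul, ← sum_ch]
    congr 1
    exact Finset.sum_congr rfl fun i _ => ch_symm i x
  simp only [h1]
  rw [Finset.sum_eq_single 0]
  · rw [if_pos rfl, hT.zero]
  · intro x _ hx
    rw [if_neg hx, zero_smul]
  · intro h; exact absurd (Finset.mem_univ _) h

theorem sixteen_ne (h2 : (2 : F) ≠ 0) : (16 : F) ≠ 0 := by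
  have : (16 : F) = 2 ^ 4 := by norm_num
  rw [this]; exact pow_ne_zero _ h2

/-- the decomposition -/
noncomputable def decomp (hT : Rp T) (h2 : (2 : F) ≠ 0) : V ≃ₗ[F] ((i : F4 × F4) → W T i) where
  toFun v := fun i => (16 : F)⁻¹ • ⟨pr T i v, pr_mem hT i v⟩
  map_add' u v := by
    funext i
    apply Subtype.ext
    change (16 : F)⁻¹ • pr T i (u + v) = (16 : F)⁻¹ • pr T i u + (16 : F)⁻¹ • pr T i v
    rw [map_add, smul_add]
  map_smul' c v := by
    funext i
    apply Subtype.ext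
    change (16 : F)⁻¹ • pr T i (c • v) = c • (16 : F)⁻¹ • pr T i v
    rw [map_smul, smul_comm]
  invFun f := ∑ i, (f i : V)
  left_inv v := by
    change ∑ i, (16 : F)⁻¹ • pr T i v = v
    rw [← Finset.smul_sum, sum_pr hT, smul_smul, inv_mul_cancel₀ (sixteen_ne h2), one_smul]
  right_inv f := by
    funext i
    apply Subtype.ext
    change (16 : F)⁻¹ • pr T i (∑ j, (f j : V)) = f i
    rw [map_sum, Finset.sum_eq_single i]
    · rw [pr_of_mem i i (f i).2, if_pos rfl, smul_smul, inv_mul_cancel₀ (sixteen_ne h2), one_smul]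
    · intro j _ hj
      rw [pr_of_mem i j (f j).2, if_neg hj.symm]
    · intro h; exact absurd (Finset.mem_univ _) h

theorem finrank_eq [FiniteDimensional F V] (hT : Rp T) (h2 : (2 : F) ≠ 0) :
    Module.finrank F V = ∑ i, Module.finrank F (W T i) := by
  rw [(decomp hT h2).finrank_eq, Module.finrank_pi_fintype]

theorem finrank_le [FiniteDimensional F V] {i j : F4 × F4} {g g' : V →ₗ[F] V} (hg : ∀ v, g' (g v) = v)
    (h : ∀ v ∈ W T i, g v ∈ W T j) : Module.finrank F (W T i) ≤ Module.finrank F (W T j) := by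
  have hinj : Function.Injective (g.restrict h) := by
    intro u v huv
    apply Subtype.ext
    have h1 : g u = g v := congrArg Subtype.val huv
    rw [← hg u, h1, hg]
  exact LinearMap.finrank_le_finrank_of_injective hinj

theorem eq_smul {i : F4 × F4} (h1 : Module.finrank F (W T i) = 1) {u v : V} (hu : u ∈ W T i) (hu0 : u ≠ 0)
    (hv : v ∈ W T i) : ∃ c : F, v = c • u := by
  obtain ⟨c, hc⟩ := exists_smul_eq_of_finrank_eq_one h1 (x := (⟨u, hu⟩ : W T i)) (by
    intro h; exact hu0 (congrArg Subtype.val h)) ⟨v, hv⟩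
  exact ⟨c, (congrArg Subtype.val hc).symm⟩

/-- vectors of distinct weights are independent -/
theorem linInd (h2 : (2 : F) ≠ 0) {κ : Type*} {u : κ → V} {w : κ → F4 × F4} (hw : Function.Injective w)
    (hu : ∀ k, u k ∈ W T (w k)) (h0 : ∀ k, u k ≠ 0) : LinearIndependent F u := by
  classical
  rw [linearIndependent_iff']
  intro s g hg k hk
  have h1 := congrArg (pr T (w k)) hg
  rw [map_zero, map_sum, Finset.sum_eq_single k] at h1
  · rw [map_smul, pr_of_mem _ _ (hu k), if_pos rfl, smul_smul] at h1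
    rcases smul_eq_zero.1 h1 with h3 | h3
    · exact (mul_eq_zero.1 h3).resolve_right (sixteen_ne h2)
    · exact absurd h3 (h0 k)
  · intro j _ hj
    rw [map_smul, pr_of_mem _ _ (hu j), if_neg (fun h => hj (hw h).symm), smul_zero]
  · intro h; exact absurd hk h

end weights

end Cfsg.Agent.H840.L34
end

-- part: H840/L34/Rep
section
/-!
# Ten-dimensional representations of double covers of `PSL_3(4)` : weights
-/

set_option autoImplicit false
set_option linter.constructorNameAsVariable false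

namespace Cfsg.Agent.H840.L34

open Cfsg.Agent.Lib.FieldFour

variable {G : Type*} [Group G] {C : Cv G}
variable {F : Type*} [Field F] {V : Type*} [AddCommGroup V] [Module F V]

theorem vcube (i : F4) : F4.v * (F4.v * (F4.v * i)) = i := by revert i; decide
theorem wcube (i : F4) : F4.w * (F4.w * (F4.w * i)) = i := by revert i; decide
theorem cancel5 (i j s : F4) : j + i * s + s * s + i * s + s * s = j := by revert i j s; decide +kernel

/-- a faithful ten-dimensional representation, `z ↦ -1` -/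
structure RH (C : Cv G) (ρ : G →* Module.End F V) : Prop where
  z : ρ C.z = -1
  two : (2 : F) ≠ 0
  dim : Module.finrank F V = 10
  faith : ∀ g, ρ g = 1 → g = 1

namespace RH

variable {ρ : G →* Module.End F V} (R : RH C ρ) (c : Conf C)

theorem fin (R : RH C ρ) : FiniteDimensional F V := Module.finite_of_finrank_pos (by rw [R.dim]; norm_num)

theorem mul_apply (g g' : G) (v : V) : ρ (g * g') v = ρ g (ρ g' v) := by rw [map_mul]; rfl

theorem inv_apply (g : G) (v : V) : ρ g⁻¹ (ρ g v) = v := by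
  rw [← mul_apply, inv_mul_cancel, map_one]; rfl

theorem z_apply (R : RH C ρ) (v : V) : ρ C.z v = -v := by rw [R.z]; rfl

/-- the first elementary abelian group -/
def Ta (ρ : G →* Module.End F V) (c : Conf C) (x : F4 × F4) : V →ₗ[F] V := ρ (c.X13 x.1 * c.X23 x.2)

/-- the second elementary abelian group -/
def Tb (ρ : G →* Module.End F V) (c : Conf C) (x : F4 × F4) : V →ₗ[F] V := ρ (c.X13 x.1 * c.X12 x.2)

theorem rpa : Rp (Ta ρ c) := by
  constructor
  · intro x y v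
    unfold Ta
    rw [← mul_apply, Prod.fst_add, Prod.snd_add, c.f13.add, c.f23.add]
    congr 2
    rw [mul_assoc, mul_assoc, ← mul_assoc (c.X13 y.1), ← c.comm_a, mul_assoc]
  · intro v
    unfold Ta
    rw [Prod.fst_zero, Prod.snd_zero, c.f13.zero, c.f23.zero, one_mul, map_one]; rfl

theorem rpb : Rp (Tb ρ c) := by
  constructor
  · intro x y v
    unfold Tb
    rw [← mul_apply, Prod.fst_add, Prod.snd_add, c.f13.add, c.f12.add]
    congr 2
    rw [mul_assoc, mul_assoc, ← mul_assoc (c.X13 y.1), ← c.comm_b, mul_assoc]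
  · intro v
    unfold Tb
    rw [Prod.fst_zero, Prod.snd_zero, c.f13.zero, c.f12.zero, one_mul, map_one]; rfl

theorem mem_a {a b : F4} {v : V} : v ∈ W (Ta ρ c) (a, b) ↔
    (∀ t, ρ (c.X13 t) v = ps F (a * t) • v) ∧ (∀ t, ρ (c.X23 t) v = ps F (b * t) • v) := by
  constructor
  · intro h
    constructor
    · intro t
      have := h (t, 0)
      unfold Ta ch at this
      simpa only [c.f23.zero, mul_one, mul_zero, ps_zero] using this
    · intro t
      have := h (0, t)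
      unfold Ta ch at this
      simpa only [c.f13.zero, one_mul, mul_zero, ps_zero] using this
  · rintro ⟨h1, h2⟩ ⟨s, t⟩
    unfold Ta ch
    rw [mul_apply, h2, map_smul, h1, smul_smul, mul_comm]

theorem mem_b {a b : F4} {v : V} : v ∈ W (Tb ρ c) (a, b) ↔
    (∀ t, ρ (c.X13 t) v = ps F (a * t) • v) ∧ (∀ t, ρ (c.X12 t) v = ps F (b * t) • v) := by
  constructor
  · intro h
    constructor
    · intro t
      have := h (t, 0)
      unfold Tb ch at this
      simpa only [c.f12.zero, mul_one, mul_zero, ps_zero] using this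
    · intro t
      have := h (0, t)
      unfold Tb ch at this
      simpa only [c.f13.zero, one_mul, mul_zero, ps_zero] using this
  · rintro ⟨h1, h2⟩ ⟨s, t⟩
    unfold Tb ch
    rw [mul_apply, h2, map_smul, h1, smul_smul, mul_comm]

/-- moving an element past another one -/
theorem conj_apply {a x y : G} (h : a * x * a⁻¹ = y) (v : V) : ρ y (ρ a v) = ρ a (ρ x v) := by
  rw [← mul_apply, ← mul_apply, ← h, inv_mul_cancel_right]

theorem map_a {a : G} (ha : C.π a = q wa) {i j : F4} {v : V} (hv : v ∈ W (Ta ρ c) (i, j)) :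
    ρ a v ∈ W (Ta ρ c) (j, i) := by
  rw [mem_a] at hv ⊢
  exact ⟨fun t => by rw [conj_apply (c.conj_a_23 ha t), hv.2, map_smul],
    fun t => by rw [conj_apply (c.conj_a_13 ha t), hv.1, map_smul]⟩

theorem map_b {b : G} (hb : C.π b = q wb) {i j : F4} {v : V} (hv : v ∈ W (Tb ρ c) (i, j)) :
    ρ b v ∈ W (Tb ρ c) (j, i) := by
  rw [mem_b] at hv ⊢
  exact ⟨fun t => by rw [conj_apply (c.conj_b_12 hb t), hv.2, map_smul],
    fun t => by rw [conj_apply (c.conj_b_13 hb t), hv.1, map_smul]⟩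

theorem map_h {i j : F4} {v : V} (hv : v ∈ W (Ta ρ c) (i, j)) :
    ρ c.h v ∈ W (Ta ρ c) (F4.v * i, F4.w * j) := by
  rw [mem_a] at hv ⊢
  constructor
  · intro t
    have h1 : c.h * c.X13 (F4.v * t) * c.h⁻¹ = c.X13 t := by
      rw [c.f13.conj, ← mul_assoc]; congr 1
    rw [conj_apply h1, hv.1, map_smul]
    congr 2
    rw [← mul_assoc, mul_comm i]
  · intro t
    have h1 : c.h * c.X23 (F4.w * t) * c.h⁻¹ = c.X23 t := by
      rw [c.f23.conj, ← mul_assoc]; congr 1
    rw [conj_apply h1, hv.2, map_smul]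
    congr 2
    rw [← mul_assoc, mul_comm j]

/-- the action of `X12` on the weight spaces -/
theorem map_12 {E : F4 → F} (hE : ∀ t v, ρ (c.e t) v = E t • v) {s i j j' : F4}
    (hj : ∀ t, ps F (j' * t) = E (s * s * t) * (ps F (i * (s * t)) * ps F (j * t)))
    {v : V} (hv : v ∈ W (Ta ρ c) (i, j)) : ρ (c.X12 s) v ∈ W (Ta ρ c) (i, j') := by
  rw [mem_a] at hv ⊢
  have h13 : ∀ t, ρ (c.X13 t) (ρ (c.X12 s) v) = ps F (i * t) • ρ (c.X12 s) v := by
    intro t
    rw [← mul_apply, ← c.comm_b, mul_apply, hv.1, map_smul]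
  refine ⟨h13, fun t => ?_⟩
  have h1 : c.X23 t * c.X12 s = c.eps s t * (c.X13 (s * t) * (c.X12 s * c.X23 t)) := by
    have h3 : c.eps s t * c.eps s t = 1 := by
      rcases c.eps_or s t with h | h
      · rw [h, one_mul]
      · rw [h, C.zz]
    rw [c.rel s t, ← mul_assoc (c.X13 (s * t)), ← c.eps_comm, ← mul_assoc (c.eps s t), ← mul_assoc (c.eps s t), h3,
      one_mul, ← mul_assoc, c.f13.sq, one_mul]
  rw [← mul_apply, h1, mul_apply, mul_apply, mul_apply, hv.2, c.eps_eq, hE, map_smul, map_smul, h13, smul_smul,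
    smul_smul, hj, mul_assoc, mul_comm (ps F (j * t))]

theorem hE_triv (h1 : c.e 1 = 1) (hw : c.e F4.w = 1) (t : F4) (v : V) : ρ (c.e t) v = (1 : F) • v := by
  have hv : c.e F4.v = 1 := by
    have := c.e_add 1 F4.w
    rw [h1, hw, one_mul] at this
    exact this
  have : c.e t = 1 := by
    cases t
    · exact c.e_zero
    · exact h1
    · exact hw
    · exact hv
  rw [this, map_one, one_smul]; rfl

include R in
theorem hE_ps (h1 : c.e 1 = 1) (hw : c.e F4.w = C.z) (t : F4) (v : V) : ρ (c.e t) v = ps F t • v := by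
  have hv : c.e F4.v = C.z := by
    have := c.e_add 1 F4.w
    rw [h1, hw, one_mul] at this
    exact this
  cases t
  · change ρ (c.e 0) v = (1 : F) • v
    rw [c.e_zero, map_one, one_smul]; rfl
  · change ρ (c.e 1) v = (1 : F) • v
    rw [h1, map_one, one_smul]; rfl
  · change ρ (c.e F4.w) v = (-1 : F) • v
    rw [hw, R.z_apply, neg_one_smul]
  · change ρ (c.e F4.v) v = (-1 : F) • v
    rw [hv, R.z_apply, neg_one_smul]

/-- dimensions of the weight spaces -/
noncomputable def m (ρ : G →* Module.End F V) (c : Conf C) (i j : F4) : ℕ := Module.finrank F (W (Ta ρ c) (i, j))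

include R in
theorem le_of_map (g : G) {i j i' j' : F4} (h : ∀ v ∈ W (Ta ρ c) (i, j), ρ g v ∈ W (Ta ρ c) (i', j')) :
    m ρ c i j ≤ m ρ c i' j' := by
  have := R.fin
  exact finrank_le (g := ρ g) (g' := ρ g⁻¹) (inv_apply g) h

include R in
theorem m_a (i j : F4) : m ρ c i j = m ρ c j i := by
  obtain ⟨a, ha⟩ := C.exists_lift wa
  exact le_antisymm (R.le_of_map c a fun v hv => map_a c ha hv) (R.le_of_map c a fun v hv => map_a c ha hv)

include R in
theorem m_h (i j : F4) : m ρ c i j = m ρ c (F4.v * i) (F4.w * j) := by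
  have h : ∀ i j, m ρ c i j ≤ m ρ c (F4.v * i) (F4.w * j) := fun i j => R.le_of_map c c.h fun v hv => map_h c hv
  apply le_antisymm (h i j)
  have h1 := (h (F4.v * i) (F4.w * j)).trans (h _ _)
  rwa [vcube, wcube] at h1

include R in
theorem m_total : 10 = ∑ i, ∑ j, m ρ c i j := by
  have := R.fin
  rw [← R.dim, finrank_eq (rpa (ρ := ρ) c) R.two, Fintype.sum_prod_type]
  rfl

include R in
theorem not_triv (h1 : c.e 1 = 1) : c.e F4.w = C.z := by
  by_contra hne
  have hw : c.e F4.w = 1 := (c.e_or _).resolve_right hne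
  have := R.fin
  have hE := hE_triv (ρ := ρ) c h1 hw
  have hle : ∀ s i j, m ρ c i j ≤ m ρ c i (j + i * s) := fun s i j =>
    R.le_of_map c (c.X12 s) fun v hv => map_12 (E := fun _ => 1) c hE (j' := j + i * s) (fun t => by
      rw [one_mul, ← ps_add]; congr 1; ring) hv
  have a1 : m ρ c F4.o F4.i = m ρ c F4.i F4.o := R.m_a c _ _
  have a2 : m ρ c F4.o F4.w = m ρ c F4.w F4.o := R.m_a c _ _
  have a3 : m ρ c F4.o F4.v = m ρ c F4.v F4.o := R.m_a c _ _
  have a4 : m ρ c F4.i F4.w = m ρ c F4.w F4.i := R.m_a c _ _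
  have a5 : m ρ c F4.i F4.v = m ρ c F4.v F4.i := R.m_a c _ _
  have a6 : m ρ c F4.w F4.v = m ρ c F4.v F4.w := R.m_a c _ _
  have b1 : m ρ c F4.i F4.o ≤ m ρ c F4.i F4.i := hle F4.i _ _
  have b2 : m ρ c F4.i F4.i ≤ m ρ c F4.i F4.w := hle F4.v _ _
  have b3 : m ρ c F4.i F4.w ≤ m ρ c F4.i F4.v := hle F4.i _ _
  have b4 : m ρ c F4.i F4.v ≤ m ρ c F4.i F4.o := hle F4.v _ _
  have c1 : m ρ c F4.w F4.o ≤ m ρ c F4.w F4.i := hle F4.v _ _
  have c2 : m ρ c F4.w F4.i ≤ m ρ c F4.w F4.w := hle F4.w _ _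
  have c3 : m ρ c F4.w F4.w ≤ m ρ c F4.w F4.v := hle F4.v _ _
  have c4 : m ρ c F4.w F4.v ≤ m ρ c F4.w F4.o := hle F4.w _ _
  have d1 : m ρ c F4.v F4.o ≤ m ρ c F4.v F4.i := hle F4.w _ _
  have d2 : m ρ c F4.v F4.i ≤ m ρ c F4.v F4.w := hle F4.i _ _
  have d3 : m ρ c F4.v F4.w ≤ m ρ c F4.v F4.v := hle F4.w _ _
  have d4 : m ρ c F4.v F4.v ≤ m ρ c F4.v F4.o := hle F4.i _ _
  have tot := R.m_total c
  simp only [sum_F4] at tot
  change 10 = m ρ c F4.o F4.o + m ρ c F4.o F4.i + m ρ c F4.o F4.w + m ρ c F4.o F4.v +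
    (m ρ c F4.i F4.o + m ρ c F4.i F4.i + m ρ c F4.i F4.w + m ρ c F4.i F4.v) +
    (m ρ c F4.w F4.o + m ρ c F4.w F4.i + m ρ c F4.w F4.w + m ρ c F4.w F4.v) +
    (m ρ c F4.v F4.o + m ρ c F4.v F4.i + m ρ c F4.v F4.w + m ρ c F4.v F4.v) at tot
  have h00 : m ρ c F4.o F4.o = 10 := by (clear * - a1 a2 a3 a4 a5 a6 b1 b2 b3 c1 c3 c4 d1 d2 d3 d4 tot; omega)
  have htop : W (Ta ρ c) (0, 0) = ⊤ := by
    apply Submodule.eq_top_of_finrank_eq
    rw [R.dim]; exact h00
  have h13 : ρ (c.X13 1) = 1 := by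
    apply LinearMap.ext
    intro v
    have hv : v ∈ W (Ta ρ c) (0, 0) := by rw [htop]; trivial
    have := ((mem_a c).1 hv).1 1
    rw [this]
    change ps F 0 • v = v
    rw [ps_zero, one_smul]
  have h5 := c.f13.lift 1
  rw [R.faith _ h13, map_one] at h5
  have h6 : (x13 1 : S) ∈ Subgroup.center S := (QuotientGroup.eq_one_iff _).1 h5.symm
  obtain ⟨r, -, hr⟩ := Matrix.SpecialLinearGroup.mem_center_iff.1 h6
  have h7 := congrFun (congrFun hr 0) 2
  simp [x13] at h7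

section nontriv

variable (h1 : c.e 1 = 1)

include R h1 in
theorem hE (t : F4) (v : V) : ρ (c.e t) v = ps F t • v := R.hE_ps c h1 (R.not_triv c h1) t v

include R h1 in
theorem map_12n (s : F4) {i j : F4} {v : V} (hv : v ∈ W (Ta ρ c) (i, j)) :
    ρ (c.X12 s) v ∈ W (Ta ρ c) (i, j + i * s + s * s) :=
  map_12 c (R.hE c h1) (fun t => by rw [← ps_add, ← ps_add]; congr 1; ring) hv

include R h1 in
theorem m_vals : m ρ c 0 0 = 1 ∧ m ρ c 1 F4.w = 0 := by
  have hle : ∀ s i j, m ρ c i j ≤ m ρ c i (j + i * s + s * s) := fun s i j =>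
    R.le_of_map c (c.X12 s) fun v hv => R.map_12n c h1 s hv
  have hs : ∀ s i j, m ρ c i j = m ρ c i (j + i * s + s * s) := by
    intro s i j
    apply le_antisymm (hle s i j)
    have := hle s i (j + i * s + s * s)
    rwa [cancel5] at this
  have a1 : m ρ c F4.o F4.i = m ρ c F4.o F4.o := hs F4.i _ _
  have a2 : m ρ c F4.o F4.w = m ρ c F4.o F4.o := hs F4.v _ _
  have a3 : m ρ c F4.o F4.v = m ρ c F4.o F4.o := hs F4.w _ _
  have b1 : m ρ c F4.i F4.o = m ρ c F4.o F4.i := R.m_a c _ _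
  have b2 : m ρ c F4.w F4.o = m ρ c F4.o F4.w := R.m_a c _ _
  have b3 : m ρ c F4.v F4.o = m ρ c F4.o F4.v := R.m_a c _ _
  have c1 : m ρ c F4.i F4.i = m ρ c F4.i F4.o := hs F4.w _ _
  have c2 : m ρ c F4.i F4.i = m ρ c F4.v F4.w := R.m_h c _ _
  have c3 : m ρ c F4.v F4.w = m ρ c F4.w F4.v := R.m_h c _ _
  have d1 : m ρ c F4.i F4.w = m ρ c F4.i F4.v := hs F4.w _ _
  have d2 : m ρ c F4.w F4.i = m ρ c F4.i F4.w := R.m_a c _ _
  have d3 : m ρ c F4.v F4.i = m ρ c F4.i F4.v := R.m_a c _ _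
  have d4 : m ρ c F4.i F4.w = m ρ c F4.v F4.v := R.m_h c _ _
  have d5 : m ρ c F4.v F4.i = m ρ c F4.w F4.w := R.m_h c _ _
  have tot := R.m_total c
  simp only [sum_F4] at tot
  change 10 = m ρ c F4.o F4.o + m ρ c F4.o F4.i + m ρ c F4.o F4.w + m ρ c F4.o F4.v +
    (m ρ c F4.i F4.o + m ρ c F4.i F4.i + m ρ c F4.i F4.w + m ρ c F4.i F4.v) +
    (m ρ c F4.w F4.o + m ρ c F4.w F4.i + m ρ c F4.w F4.w + m ρ c F4.w F4.v) +
    (m ρ c F4.v F4.o + m ρ c F4.v F4.i + m ρ c F4.v F4.w + m ρ c F4.v F4.v) at tot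
  change m ρ c F4.o F4.o = 1 ∧ m ρ c F4.i F4.w = 0
  constructor <;> (clear * - a1 a2 a3 b1 b2 b3 c2 c3 d2 d3 d4 d5 tot c1 d1; omega)

include R h1 in
theorem m_one {i j : F4} (hij : i * j = 0 ∨ i * j = 1) : Module.finrank F (W (Ta ρ c) (i, j)) = 1 := by
  obtain ⟨h00, -⟩ := R.m_vals c h1
  have hle : ∀ s i j, m ρ c i j ≤ m ρ c i (j + i * s + s * s) := fun s i j =>
    R.le_of_map c (c.X12 s) fun v hv => R.map_12n c h1 s hv
  have hs : ∀ s i j, m ρ c i j = m ρ c i (j + i * s + s * s) := by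
    intro s i j
    apply le_antisymm (hle s i j)
    have := hle s i (j + i * s + s * s)
    rwa [cancel5] at this
  have a0 : m ρ c F4.o F4.o = 1 := h00
  have a1 : m ρ c F4.o F4.i = m ρ c F4.o F4.o := hs F4.i _ _
  have a2 : m ρ c F4.o F4.w = m ρ c F4.o F4.o := hs F4.v _ _
  have a3 : m ρ c F4.o F4.v = m ρ c F4.o F4.o := hs F4.w _ _
  have b1 : m ρ c F4.i F4.o = m ρ c F4.o F4.i := R.m_a c _ _
  have b2 : m ρ c F4.w F4.o = m ρ c F4.o F4.w := R.m_a c _ _
  have b3 : m ρ c F4.v F4.o = m ρ c F4.o F4.v := R.m_a c _ _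
  have c1 : m ρ c F4.i F4.i = m ρ c F4.i F4.o := hs F4.w _ _
  have c2 : m ρ c F4.i F4.i = m ρ c F4.v F4.w := R.m_h c _ _
  have c3 : m ρ c F4.v F4.w = m ρ c F4.w F4.v := R.m_h c _ _
  change m ρ c i j = 1
  cases i <;> cases j <;> first
    | (exfalso; revert hij; decide)
    | (clear * - a0 a1 a2 a3 b1 c1 b2 c2 c3 b3; omega)

end nontriv

end RH

end Cfsg.Agent.H840.L34
end

-- part: H840/L34/Fix
section
/-!
# Ten-dimensional representations of double covers of `PSL_3(4)` : traces of involutions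
-/

set_option autoImplicit false
set_option linter.constructorNameAsVariable false

namespace Cfsg.Agent.H840.L34

open Cfsg.Agent.Lib.FieldFour

/-- the ten weights -/
abbrev Om : Type := {p : F4 × F4 // p.1 * p.2 = 0 ∨ p.1 * p.2 = 1}

theorem univ_Om : (Finset.univ : Finset Om) = {⟨(F4.o, F4.o), by decide⟩, ⟨(F4.o, F4.i), by decide⟩,
    ⟨(F4.o, F4.w), by decide⟩, ⟨(F4.o, F4.v), by decide⟩, ⟨(F4.i, F4.o), by decide⟩, ⟨(F4.i, F4.i), by decide⟩,
    ⟨(F4.w, F4.o), by decide⟩, ⟨(F4.w, F4.v), by decide⟩, ⟨(F4.v, F4.o), by decide⟩, ⟨(F4.v, F4.w), by decide⟩} := by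
  decide

theorem card_Om : Fintype.card Om = 10 := by
  rw [← Finset.card_univ, univ_Om]; decide

theorem sum_Om {M : Type*} [AddCommMonoid M] (g : Om → M) : ∑ k, g k =
    g ⟨(F4.o, F4.o), by decide⟩ + (g ⟨(F4.o, F4.i), by decide⟩ + (g ⟨(F4.o, F4.w), by decide⟩ +
    (g ⟨(F4.o, F4.v), by decide⟩ + (g ⟨(F4.i, F4.o), by decide⟩ + (g ⟨(F4.i, F4.i), by decide⟩ +
    (g ⟨(F4.w, F4.o), by decide⟩ + (g ⟨(F4.w, F4.v), by decide⟩ + (g ⟨(F4.v, F4.o), by decide⟩ +
    g ⟨(F4.v, F4.w), by decide⟩)))))))) := by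
  rw [univ_Om]
  repeat rw [Finset.sum_insert (by decide)]
  rw [Finset.sum_singleton]

section

variable {F : Type*} [Field F] {V : Type*} [AddCommGroup V] [Module F V]

theorem trace_mono {κ : Type*} [Fintype κ] [DecidableEq κ] (b : Module.Basis κ F V) (f : V →ₗ[F] V) (σ : κ → κ)
    (k : κ → F) (h : ∀ i, f (b i) = k i • b (σ i)) :
    LinearMap.trace F V f = ∑ i, if σ i = i then k i else 0 := by
  rw [LinearMap.trace_eq_matrix_trace F b, Matrix.trace]
  apply Finset.sum_congr rfl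
  intro i _
  rw [Matrix.diag_apply, LinearMap.toMatrix_apply, h, map_smul, b.repr_self, Finsupp.smul_apply,
    Finsupp.single_apply, smul_eq_mul, mul_ite, mul_one, mul_zero]

/-- the basis given by ten weight vectors -/
noncomputable def bas (h2 : (2 : F) ≠ 0) (hd : Module.finrank F V = 10) {T : F4 × F4 → V →ₗ[F] V} {u : Om → V}
    (hu : ∀ k, u k ∈ W T k.1) (h0 : ∀ k, u k ≠ 0) : Module.Basis Om F V :=
  haveI : Nonempty Om := ⟨⟨(0, 0), by decide⟩⟩
  basisOfLinearIndependentOfCardEqFinrank (linInd h2 Subtype.val_injective hu h0) (card_Om.trans hd.symm)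

seal _root_.Cfsg.Agent.Lib.FieldFour.F4.mul _root_.Cfsg.Agent.H840.L34.ps _root_.Cfsg.Agent.H840.L34.ch _root_.Cfsg.Agent.H840.L34.W in
theorem bas_apply (h2 : (2 : F) ≠ 0) (hd : Module.finrank F V = 10) {T : F4 × F4 → V →ₗ[F] V} {u : Om → V}
    (hu : ∀ k, u k ∈ W T k.1) (h0 : ∀ k, u k ≠ 0) (k : Om) : bas h2 hd hu h0 k = u k := by
  unfold bas
  simp

/-- the trace of an involution permuting one-dimensional weight spaces -/
theorem coef (h2 : (2 : F) ≠ 0) (hd : Module.finrank F V = 10) {T : F4 × F4 → V →ₗ[F] V}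
    (hfr : ∀ k : Om, Module.finrank F (W T k.1) = 1) (f : V →ₗ[F] V) (hf : ∀ v, f (f v) = v) (σ : Om → Om)
    (hσ : ∀ (k : Om) (v : V), v ∈ W T k.1 → f v ∈ W T (σ k).1) :
    ∃ k : Om → F, LinearMap.trace F V f = (∑ i, if σ i = i then k i else 0) ∧
      ∀ i, σ i = i → k i * k i = 1 ∧ ∀ v ∈ W T i.1, f v = k i • v := by
  have h : ∀ k : Om, ∃ v, v ∈ W T k.1 ∧ v ≠ 0 := by
    intro k
    have h3 := hfr k
    have h4 : W T k.1 ≠ ⊥ := by
      intro h5
      rw [h5, finrank_bot] at h3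
      exact zero_ne_one h3
    exact Submodule.exists_mem_ne_zero_of_ne_bot h4
  choose u hu h0 using h
  have hk : ∀ i, ∃ a : F, f (u i) = a • u (σ i) := fun i =>
    eq_smul (hfr (σ i)) (hu (σ i)) (h0 (σ i)) (hσ i _ (hu i))
  choose k hk using hk
  refine ⟨k, ?_, ?_⟩
  · exact trace_mono (bas h2 hd hu h0) f σ k (fun i => by rw [bas_apply, bas_apply, hk])
  · intro i hi
    have h3 : f (u i) = k i • u i := by rw [hk i, hi]
    constructor
    · have h4 : f (f (u i)) = u i := hf _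
      rw [h3, map_smul, h3, smul_smul] at h4
      have h5 : (k i * k i - 1) • u i = 0 := by rw [sub_smul, h4, one_smul, sub_self]
      exact sub_eq_zero.1 ((smul_eq_zero.1 h5).resolve_right (h0 i))
    · intro v hv
      obtain ⟨a, rfl⟩ := eq_smul (hfr i) (hu i) (h0 i) hv
      rw [map_smul, h3, smul_comm]

theorem sum_two {x y : F} (h2 : (2 : F) ≠ 0) (hx : x * x = 1) (hy : y * y = 1) (h : x + y = 2) : x = 1 ∧ y = 1 := by
  rcases mul_self_eq_one_iff.1 hx with rfl | rfl <;> rcases mul_self_eq_one_iff.1 hy with rfl | rfl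
  · exact ⟨rfl, rfl⟩
  · exfalso; apply h2; rw [← h]; ring
  · exfalso; apply h2; rw [← h]; ring
  · exfalso
    apply h2
    have : (2 : F) * 2 = 0 := by linear_combination -h
    rcases mul_eq_zero.1 this with h3 | h3 <;> exact h3

end

variable {G : Type*} [Group G] {C : Cv G}
variable {F : Type*} [Field F] {V : Type*} [AddCommGroup V] [Module F V]

namespace RH

variable {ρ : G →* Module.End F V} (R : RH C ρ) (c : Conf C) (h1 : c.e 1 = 1)

theorem trace_conj (g x : G) : LinearMap.trace F V (ρ (g * x * g⁻¹)) = LinearMap.trace F V (ρ x) := by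
  rw [map_mul, LinearMap.trace_mul_comm, ← map_mul]
  congr 2
  group

include R h1 in
theorem exists_u : ∃ u : Om → V, (∀ k, u k ∈ W (Ta ρ c) k.1) ∧ ∀ k, u k ≠ 0 := by
  have h : ∀ k : Om, ∃ v, v ∈ W (Ta ρ c) k.1 ∧ v ≠ 0 := by
    intro k
    have h3 := R.m_one c h1 k.2
    have h4 : W (Ta ρ c) k.1 ≠ ⊥ := by
      intro h5
      rw [Prod.mk.eta, h5, finrank_bot] at h3
      exact zero_ne_one h3
    exact Submodule.exists_mem_ne_zero_of_ne_bot h4
  choose u hu h0 using h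
  exact ⟨u, hu, h0⟩

include R h1 in
/-- the trace of an element permuting the weight spaces -/
theorem exists_coef (g : G) (hg2 : g * g = 1) (σ : Om → Om)
    (hσ : ∀ (k : Om) (v : V), v ∈ W (Ta ρ c) k.1 → ρ g v ∈ W (Ta ρ c) (σ k).1) :
    ∃ k : Om → F, LinearMap.trace F V (ρ g) = (∑ i, if σ i = i then k i else 0) ∧
      ∀ i, σ i = i → k i * k i = 1 ∧ ∀ v ∈ W (Ta ρ c) i.1, ρ g v = k i • v := by
  obtain ⟨u, hu, h0⟩ := R.exists_u c h1
  have hk : ∀ i, ∃ a : F, ρ g (u i) = a • u (σ i) := fun i =>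
    eq_smul (by have := R.m_one c h1 (σ i).2; exact this) (hu (σ i)) (h0 (σ i)) (hσ i _ (hu i))
  choose k hk using hk
  refine ⟨k, ?_, ?_⟩
  · exact trace_mono (bas R.two R.dim hu h0) (ρ g) σ k (fun i => by rw [bas_apply, bas_apply, hk])
  · intro i hi
    have h3 : ρ g (u i) = k i • u i := by rw [hk i, hi]
    constructor
    · have h4 : ρ g (ρ g (u i)) = u i := by rw [← mul_apply, hg2, map_one]; rfl
      rw [h3, map_smul, h3, smul_smul] at h4
      have h5 : (k i * k i - 1) • u i = 0 := by rw [sub_smul, h4, one_smul, sub_self]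
      exact sub_eq_zero.1 ((smul_eq_zero.1 h5).resolve_right (h0 i))
    · intro v hv
      obtain ⟨a, rfl⟩ := eq_smul (R.m_one c h1 i.2) (hu i) (h0 i) hv
      rw [map_smul, h3, smul_comm]

include R h1 in
theorem trace_23 {s : F4} (hs : s ≠ 0) : LinearMap.trace F V (ρ (c.X23 s)) = 2 := by
  obtain ⟨u, hu, h0⟩ := R.exists_u c h1
  have h3 := trace_mono (bas R.two R.dim hu h0) (ρ (c.X23 s)) id (fun k => ps F (k.1.2 * s)) (fun i => by
    rw [bas_apply, bas_apply]
    exact ((mem_a c).1 (hu i)).2 s)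
  rw [h3]
  simp only [id_eq, if_true]
  rw [sum_Om (fun k : Om => ps F (k.1.2 * s))]
  cases s
  · exact absurd rfl hs
  · change (1 : F) + (1 + (-1 + (-1 + (1 + (1 + (1 + (-1 + (1 + -1)))))))) = 2
    norm_num
  · change (1 : F) + (-1 + (-1 + (1 + (1 + (-1 + (1 + (1 + (1 + -1)))))))) = 2
    norm_num
  · change (1 : F) + (-1 + (1 + (-1 + (1 + (-1 + (1 + (-1 + (1 + 1)))))))) = 2
    norm_num

/-- lifts of `wa` with trace two -/
structure IsA (ρ : G →* Module.End F V) (C : Cv G) (a : G) : Prop where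
  π : C.π a = q wa
  tr : LinearMap.trace F V (ρ a) = 2

/-- lifts of `wb` with trace two -/
structure IsB (ρ : G →* Module.End F V) (C : Cv G) (b : G) : Prop where
  π : C.π b = q wb
  tr : LinearMap.trace F V (ρ b) = 2

include R h1 in
theorem exists_A : ∃ a, IsA ρ C a := by
  obtain ⟨γ, hγ⟩ := c.exists_conj wa_g
  exact ⟨_, hγ, by rw [trace_conj]; exact R.trace_23 c h1 one_ne_zero⟩

include R h1 in
theorem fix_a {a : G} (ha : IsA ρ C a) : (∀ v ∈ W (Ta ρ c) (0, 0), ρ a v = v) ∧ ∀ v ∈ W (Ta ρ c) (1, 1), ρ a v = v := by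
  obtain ⟨k, hk, hc⟩ := R.exists_coef c h1 a (Conf.sq_a ha.π) (fun i => ⟨(i.1.2, i.1.1), by rw [mul_comm]; exact i.2⟩)
    (fun i v hv => map_a c ha.π hv)
  rw [ha.tr, sum_Om (fun i : Om => if (⟨(i.1.2, i.1.1), _⟩ : Om) = i then k i else 0)] at hk
  simp only [Subtype.mk.injEq, Prod.mk.injEq, reduceCtorEq, and_self, if_true, if_false,
    zero_add, add_zero] at hk
  have e1 := hc ⟨(0, 0), by decide⟩ rfl
  have e2 := hc ⟨(1, 1), by decide⟩ rfl
  obtain ⟨e3, e4⟩ := sum_two R.two e1.1 e2.1 hk.symm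
  refine ⟨fun v hv => ?_, fun v hv => ?_⟩
  · rw [e1.2 v hv, e3, one_smul]
  · rw [e2.2 v hv, e4, one_smul]

include R h1 in
theorem trace_12 {s : F4} (hs : s ≠ 0) : LinearMap.trace F V (ρ (c.X12 s)) = 2 := by
  obtain ⟨a, ha⟩ := C.exists_lift wa
  obtain ⟨b, hb⟩ := C.exists_lift wb
  rw [← c.conj_b_13 hb, trace_conj, ← c.conj_a_23 ha, trace_conj, R.trace_23 c h1 hs]

theorem good12 : ∀ (s : F4) (i : Om), i.1.1 * (i.1.2 + i.1.1 * s + s * s) = 0 ∨ i.1.1 * (i.1.2 + i.1.1 * s + s * s) = 1 := by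
  decide

include R h1 in
theorem fix_12 {s : F4} (hs : s ≠ 0) : ∀ v ∈ W (Ta ρ c) (s, 0), ρ (c.X12 s) v = v := by
  obtain ⟨k, hk, hc⟩ := R.exists_coef c h1 (c.X12 s) (c.f12.sq s)
    (fun i => ⟨(i.1.1, i.1.2 + i.1.1 * s + s * s), good12 s i⟩)
    (fun i v hv => R.map_12n c h1 s hv)
  rw [R.trace_12 c h1 hs, sum_Om] at hk
  intro v hv
  cases s
  · exact absurd rfl hs
  · rw [if_neg (by decide), if_neg (by decide), if_neg (by decide), if_neg (by decide), if_pos (by decide),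
      if_pos (by decide), if_neg (by decide), if_neg (by decide), if_neg (by decide), if_neg (by decide)] at hk
    simp only [zero_add, add_zero] at hk
    have e1 := hc ⟨(F4.i, F4.o), by decide⟩ (by decide)
    have e2 := hc ⟨(F4.i, F4.i), by decide⟩ (by decide)
    obtain ⟨e3, e4⟩ := sum_two R.two e1.1 e2.1 hk.symm
    rw [e1.2 v hv, e3, one_smul]
  · rw [if_neg (by decide), if_neg (by decide), if_neg (by decide), if_neg (by decide), if_neg (by decide),
      if_neg (by decide), if_pos (by decide), if_pos (by decide), if_neg (by decide), if_neg (by decide)] at hk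
    simp only [zero_add, add_zero] at hk
    have e1 := hc ⟨(F4.w, F4.o), by decide⟩ (by decide)
    have e2 := hc ⟨(F4.w, F4.v), by decide⟩ (by decide)
    obtain ⟨e3, e4⟩ := sum_two R.two e1.1 e2.1 hk.symm
    rw [e1.2 v hv, e3, one_smul]
  · rw [if_neg (by decide), if_neg (by decide), if_neg (by decide), if_neg (by decide), if_neg (by decide),
      if_neg (by decide), if_neg (by decide), if_neg (by decide), if_pos (by decide), if_pos (by decide)] at hk
    simp only [zero_add, add_zero] at hk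
    have e1 := hc ⟨(F4.v, F4.o), by decide⟩ (by decide)
    have e2 := hc ⟨(F4.v, F4.w), by decide⟩ (by decide)
    obtain ⟨e3, e4⟩ := sum_two R.two e1.1 e2.1 hk.symm
    rw [e1.2 v hv, e3, one_smul]

include R h1 in
theorem fix_h {v : V} (hv : v ∈ W (Ta ρ c) (0, 0)) : ρ c.h v = v := by
  by_cases hv0 : v = 0
  · rw [hv0, map_zero]
  obtain ⟨a, ha⟩ := R.exists_A c h1
  have m1 : ρ c.h v ∈ W (Ta ρ c) (0, 0) := by
    have := map_h c hv
    exact this
  obtain ⟨k, hk⟩ := eq_smul (R.m_one c h1 (Or.inl (mul_zero (0 : F4)))) hv hv0 m1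
  have e3 : k * k * k = 1 := by
    have : ρ (c.h * c.h * c.h) v = v := by rw [c.h3, map_one]; rfl
    rw [mul_apply, mul_apply, hk, map_smul, hk, map_smul, map_smul, hk, smul_smul, smul_smul] at this
    have h5 : (k * k * k - 1) • v = 0 := by rw [sub_smul, this, one_smul, sub_self]
    exact sub_eq_zero.1 ((smul_eq_zero.1 h5).resolve_right hv0)
  have e2 : k * k = 1 := by
    have e4 : ρ (a * c.h) v = ρ (c.h⁻¹ * a) v := by
      rw [← c.conj_h_a ha.π, inv_mul_cancel_right]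
    have e5 : ρ c.h (ρ (a * c.h) v) = v := by
      rw [e4, ← mul_apply, ← mul_assoc, mul_inv_cancel, one_mul, (R.fix_a c h1 ha).1 v hv]
    rw [mul_apply, hk, map_smul, (R.fix_a c h1 ha).1 v hv, map_smul, hk, smul_smul] at e5
    have h5 : (k * k - 1) • v = 0 := by rw [sub_smul, e5, one_smul, sub_self]
    exact sub_eq_zero.1 ((smul_eq_zero.1 h5).resolve_right hv0)
  have e1 : k = 1 := by rw [e2, one_mul] at e3; exact e3
  rw [hk, e1, one_smul]

end RH

end Cfsg.Agent.H840.L34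
end

-- part: H840/L34/Bas
section
/-!
# Ten-dimensional representations of double covers of `PSL_3(4)` : the monomial basis
-/

set_option autoImplicit false
set_option linter.constructorNameAsVariable false

namespace Cfsg.Agent.H840.L34

open Cfsg.Agent.Lib.FieldFour

variable {G : Type*} [Group G] {C : Cv G}
variable {F : Type*} [Field F] {V : Type*} [AddCommGroup V] [Module F V]

/-- good weights -/
abbrev Gd (i j : F4) : Prop := i * j = 0 ∨ i * j = 1

/-- the data for the basis -/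
structure Dt (C : Cv G) (c : Conf C) (ρ : G →* Module.End F V) : Prop where
  R : RH C ρ
  e1 : c.e 1 = 1

theorem d1 : ∀ s j : F4, s + j * j = (j + 0 * s + s * s) * (j + 0 * s + s * s) := by decide
theorem d2 : ∀ x i : F4, i ≠ 0 → x = 0 ∨ x = i ∨ x = F4.w * i ∨ x = F4.v * i := by decide
theorem d3 : ∀ i s k : F4, i * (s + k) + (s + k) * (s + k) = (i * k + k * k) + i * s + s * s := by decide +kernel
theorem d4 : ∀ i j : F4, i ≠ 0 → Gd i j → j = i * (if j = 0 then 0 else F4.w * i) +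
    (if j = 0 then 0 else F4.w * i) * (if j = 0 then 0 else F4.w * i) := by decide
theorem d5 : ∀ i : F4, i ≠ 0 → i * (F4.w * i) + F4.w * i * (F4.w * i) ≠ 0 := by decide
theorem d6 : ∀ i : F4, i ≠ 0 → i * (F4.v * i) + F4.v * i * (F4.v * i) ≠ 0 := by decide
theorem d7 : ∀ i k : F4, (F4.v * i) * (F4.v * k) + (F4.v * k) * (F4.v * k) = F4.w * (i * k + k * k) := by decide

theorem d8 : ∀ j : F4, (0 : F4) + 0 * (j * j) + j * j * (j * j) = j := by decide
theorem d9 : ∀ i : F4, F4.w * (F4.v * i) = i := by decide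

namespace Dt

variable {ρ : G →* Module.End F V} {c : Conf C}

/-- the vector of weight `(i, 0)` -/
def uu (ρ : G →* Module.End F V) (c : Conf C) (a : G) (v0 : V) (i : F4) : V := ρ a (ρ (c.X12 (i * i)) v0)

/-- the weight vectors -/
def vv (ρ : G →* Module.End F V) (c : Conf C) (a : G) (v0 : V) (i j : F4) : V :=
  if i = 0 then ρ (c.X12 (j * j)) v0 else
    ρ (c.X12 (if j = 0 then 0 else F4.w * i)) (uu ρ c a v0 i)

variable (D : Dt C c ρ) {a : G} (ha : RH.IsA ρ C a) {v0 : V} (hv : v0 ∈ W (RH.Ta ρ c) (0, 0))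

theorem vv_zero (j : F4) : vv ρ c a v0 0 j = ρ (c.X12 (j * j)) v0 := if_pos rfl

theorem vv_ne {i : F4} (hi : i ≠ 0) (j : F4) : vv ρ c a v0 i j =
    ρ (c.X12 (if j = 0 then 0 else F4.w * i)) (uu ρ c a v0 i) := if_neg hi

theorem vv_ne_zero {i : F4} (hi : i ≠ 0) : vv ρ c a v0 i 0 = uu ρ c a v0 i := by
  rw [vv_ne hi, if_pos rfl, c.f12.zero, map_one]; rfl

include D hv in
theorem mem_0 (j : F4) : ρ (c.X12 (j * j)) v0 ∈ W (RH.Ta ρ c) (0, j) := by
  have h := D.R.map_12n c D.e1 (j * j) hv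
  rwa [d8] at h

include D ha hv in
theorem mem_uu (i : F4) : uu ρ c a v0 i ∈ W (RH.Ta ρ c) (i, 0) := RH.map_a c ha.π (D.mem_0 hv i)

include D ha hv in
theorem mem_vv {i j : F4} (hg : Gd i j) : vv ρ c a v0 i j ∈ W (RH.Ta ρ c) (i, j) := by
  by_cases hi : i = 0
  · subst hi
    rw [vv_zero]; exact D.mem_0 hv j
  · rw [vv_ne hi]
    have h := D.R.map_12n c D.e1 (if j = 0 then 0 else F4.w * i) (D.mem_uu ha hv i)
    rwa [zero_add, ← d4 i j hi hg] at h

theorem ne_of {g : G} {v : V} (h : v ≠ 0) : ρ g v ≠ 0 := by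
  intro h0
  apply h
  rw [← RH.inv_apply (ρ := ρ) g v, h0, map_zero]

theorem ne_vv (h0 : v0 ≠ 0) (i j : F4) : vv ρ c a v0 i j ≠ 0 := by
  by_cases hi : i = 0
  · subst hi
    rw [vv_zero]; exact ne_of h0
  · rw [vv_ne hi]; exact ne_of (ne_of (ne_of h0))

include D ha hv in
theorem x_uu {i : F4} (hi : i ≠ 0) (x : F4) : ρ (c.X12 x) (uu ρ c a v0 i) = vv ρ c a v0 i (i * x + x * x) := by
  have hf := D.R.fix_12 c D.e1 hi _ (D.mem_uu ha hv i)
  rcases d2 x i hi with rfl | rfl | rfl | rfl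
  · rw [mul_zero, mul_zero, zero_add, vv_ne_zero hi, c.f12.zero, map_one]; rfl
  · have e : x * x + x * x = 0 := by clear hi hf; revert x; decide
    rw [hf, e, vv_ne_zero hi]
  · rw [vv_ne hi, if_neg (d5 i hi)]
  · rw [vv_ne hi, if_neg (d6 i hi)]
    have e : F4.v * i = F4.w * i + i := by clear hi hf; revert i; decide
    rw [e, c.f12.add, RH.mul_apply, hf]

include D ha hv in
/-- the action of `X12` -/
theorem x_vv (s : F4) {i j : F4} (hg : Gd i j) :
    ρ (c.X12 s) (vv ρ c a v0 i j) = vv ρ c a v0 i (j + i * s + s * s) := by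
  by_cases hi : i = 0
  · subst hi
    rw [vv_zero, vv_zero, ← RH.mul_apply, ← c.f12.add, ← d1]
  · rw [vv_ne hi, ← RH.mul_apply, ← c.f12.add, D.x_uu ha hv hi, d3, ← d4 i j hi hg]

include D hv in
theorem h_0 (j : F4) : ρ c.h (ρ (c.X12 (j * j)) v0) = ρ (c.X12 ((F4.w * j) * (F4.w * j))) v0 := by
  rw [← RH.conj_apply (c.f12.conj (j * j)), D.R.fix_h c D.e1 hv]
  congr 3
  revert j; decide

include D ha hv in
theorem h_uu (i : F4) : ρ c.h (uu ρ c a v0 i) = uu ρ c a v0 (F4.v * i) := by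
  unfold uu
  have e1 : a * c.h⁻¹ * a⁻¹ = c.h := by
    have := c.conj_h_a ha.π
    have h2 : a * c.h⁻¹ * a⁻¹ = (a * c.h * a⁻¹)⁻¹ := by group
    rw [h2, this, inv_inv]
  rw [RH.conj_apply e1]
  congr 1
  have h3 := D.h_0 hv (F4.v * i)
  rw [d9] at h3
  rw [← h3, RH.inv_apply]

include D ha hv in
/-- the action of the torus -/
theorem h_vv {i j : F4} (hg : Gd i j) : ρ c.h (vv ρ c a v0 i j) = vv ρ c a v0 (F4.v * i) (F4.w * j) := by
  by_cases hi : i = 0
  · subst hi
    rw [mul_zero, vv_zero, vv_zero, D.h_0 hv]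
  · have hi' : F4.v * i ≠ 0 := mul_ne_zero (by decide) hi
    rw [vv_ne hi, ← RH.conj_apply (c.f12.conj _), D.h_uu ha hv, D.x_uu ha hv hi', d7, ← d4 i j hi hg]

include D ha hv in
/-- the action of `a` -/
theorem a_vv {i j : F4} (hg : Gd i j) : ρ a (vv ρ c a v0 i j) = vv ρ c a v0 j i := by
  have haa : ∀ v, ρ a (ρ a v) = v := by
    intro v
    rw [← RH.mul_apply, Conf.sq_a ha.π, map_one]; rfl
  by_cases hi : i = 0
  · subst hi
    rw [vv_zero]
    by_cases hj : j = 0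
    · subst hj
      rw [vv_zero, mul_zero, c.f12.zero, map_one]
      exact (D.R.fix_a c D.e1 ha).1 v0 hv
    · rw [vv_ne_zero hj]; rfl
  · by_cases hj : j = 0
    · subst hj
      rw [vv_ne_zero hi, vv_zero]
      exact haa _
    · have h11 : ρ a (vv ρ c a v0 1 1) = vv ρ c a v0 1 1 :=
        (D.R.fix_a c D.e1 ha).2 _ (D.mem_vv ha hv (Or.inr rfl))
      have k1 : ρ c.h (vv ρ c a v0 F4.w F4.v) = vv ρ c a v0 1 1 := D.h_vv ha hv (Or.inr rfl)
      have k2 : ρ c.h (vv ρ c a v0 1 1) = vv ρ c a v0 F4.v F4.w := D.h_vv ha hv (Or.inr rfl)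
      have k3 : ρ a (vv ρ c a v0 F4.v F4.w) = vv ρ c a v0 F4.w F4.v := by
        rw [← k2, ← RH.conj_apply (c.conj_h_a ha.π), h11, ← k1, RH.inv_apply]
      cases i <;> cases j <;> [exact absurd rfl hi; exact absurd rfl hi; exact absurd rfl hi; exact absurd rfl hi; exact absurd rfl hj; exact h11; (exfalso; revert hg; decide);
                               (exfalso; revert hg; decide); exact absurd rfl hj; (exfalso; revert hg; decide); (exfalso; revert hg; decide);
                               (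
          (change ρ a (vv ρ c a v0 F4.w F4.v) = vv ρ c a v0 F4.v F4.w
           rw [← k3, haa]));
                               exact absurd rfl hj; (exfalso; revert hg; decide); exact k3; (exfalso; revert hg; decide)]

end Dt

end Cfsg.Agent.H840.L34
end

-- part: H840/L34/Bb
section
/-!
# Ten-dimensional representations of double covers of `PSL_3(4)` : the second frame
-/

set_option autoImplicit false
set_option linter.constructorNameAsVariable false

namespace Cfsg.Agent.H840.L34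

open Cfsg.Agent.Lib.FieldFour

variable {G : Type*} [Group G] {C : Cv G}
variable {F : Type*} [Field F] {V : Type*} [AddCommGroup V] [Module F V]

theorem g1 : ∀ i s : F4, i ≠ 0 → (i * s + s * s = 0 ∨ i * s + s * s = i⁻¹) := by decide
theorem g2 : ∀ i s : F4, i ≠ 0 → i * s + s * s = 0 → i⁻¹ * s = 0 ∨ i⁻¹ * s = 1 := by decide
theorem g3 : ∀ i s : F4, i ≠ 0 → i * s + s * s = i⁻¹ → i⁻¹ * s = F4.w ∨ i⁻¹ * s = F4.v := by decide
theorem g4 : ∀ i j : F4, i ≠ 0 → Gd i j → j ≠ 0 → j = i⁻¹ := by decide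
theorem g6 : ∀ i : F4, Gd i i⁻¹ := by decide
theorem g7 : ∀ i : F4, i + i = 0 := by decide
theorem g8 : ∀ j b : F4, j * j * (F4.v * b) = F4.w * j * (F4.w * j) * b := by decide

namespace Dt

variable {ρ : G →* Module.End F V} {c : Conf C}

/-- the second frame -/
def ff (ρ : G →* Module.End F V) (c : Conf C) (a : G) (v0 : V) (i j : F4) : V :=
  if i = 0 then ∑ b, ps F (j * j * b) • vv ρ c a v0 0 b else
    vv ρ c a v0 i 0 + (if j = 0 then (1 : F) else -1) • vv ρ c a v0 i i⁻¹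

theorem ff_zero (a : G) (v0 : V) (j : F4) : ff ρ c a v0 0 j = ∑ b, ps F (j * j * b) • vv ρ c a v0 0 b := if_pos rfl

theorem ff_ne (a : G) (v0 : V) {i : F4} (hi : i ≠ 0) (j : F4) : ff ρ c a v0 i j =
    vv ρ c a v0 i 0 + (if j = 0 then (1 : F) else -1) • vv ρ c a v0 i i⁻¹ := if_neg hi

variable (D : Dt C c ρ) {a : G} (ha : RH.IsA ρ C a) {v0 : V} (hv : v0 ∈ W (RH.Ta ρ c) (0, 0))

include D ha hv in
theorem mem_ff {i j : F4} (hg : Gd i j) : ff ρ c a v0 i j ∈ W (RH.Tb ρ c) (i, j) := by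
  rw [RH.mem_b]
  by_cases hi : i = 0
  · subst hi
    rw [ff_zero]
    constructor
    · intro t
      rw [map_sum, Finset.smul_sum]
      refine Finset.sum_congr rfl fun b _ => ?_
      rw [map_smul, ((RH.mem_a c).1 (D.mem_vv ha hv (Or.inl (zero_mul b)))).1 t, smul_comm]
    · intro s
      rw [map_sum, Finset.smul_sum, ← Equiv.sum_comp (Equiv.addRight (s * s))
        (fun b => ps F (j * s) • ps F (j * j * b) • vv ρ c a v0 0 b)]
      refine Finset.sum_congr rfl fun b _ => ?_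
      rw [map_smul, D.x_vv ha hv s (Or.inl (zero_mul b)), Equiv.coe_addRight, smul_smul]
      congr 1
      · rw [mul_add, ps_add, mul_left_comm, show j * j * (s * s) = (j * s) * (j * s) by ring, ps_sq, ps_mul_self,
          mul_one]
      · rw [zero_mul, add_zero]
  · rw [ff_ne _ _ hi]
    have m1 := D.mem_vv ha hv (i := i) (j := 0) (Or.inl (mul_zero i))
    have m2 := D.mem_vv ha hv (g6 i)
    constructor
    · intro t
      rw [map_add, map_smul, ((RH.mem_a c).1 m1).1, ((RH.mem_a c).1 m2).1, smul_add, smul_comm]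
    · intro s
      rw [map_add, map_smul, D.x_vv ha hv s (Or.inl (mul_zero i)), D.x_vv ha hv s (g6 i), zero_add]
      rcases g1 i s hi with h | h
      · rw [h, add_assoc, h, add_zero]
        by_cases hj : j = 0
        · rw [if_pos hj, hj, zero_mul, ps_zero, one_smul, one_smul]
        · rw [if_neg hj, g4 i j hi hg hj]
          rcases g2 i s hi h with h' | h'
          · rw [h', ps_zero, one_smul]
          · rw [h', ps_one, one_smul]
      · rw [h, add_assoc, h, g7]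
        by_cases hj : j = 0
        · rw [if_pos hj, hj, zero_mul, ps_zero, one_smul, one_smul, one_smul, add_comm]
        · rw [if_neg hj, g4 i j hi hg hj]
          rcases g3 i s hi h with h' | h'
          · rw [h', ps_w, neg_one_smul, neg_one_smul, neg_one_smul, neg_add, neg_neg, add_comm]
          · rw [h', ps_v, neg_one_smul, neg_one_smul, neg_one_smul, neg_add, neg_neg, add_comm]

include D ha hv in
theorem h_ff {i j : F4} (hg : Gd i j) : ρ c.h (ff ρ c a v0 i j) = ff ρ c a v0 (F4.v * i) (F4.w * j) := by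
  by_cases hi : i = 0
  · subst hi
    rw [mul_zero, ff_zero, ff_zero, map_sum, ← Equiv.sum_comp (Equiv.mulLeft₀ F4.w (by decide))
      (fun b => ps F (F4.w * j * (F4.w * j) * b) • vv ρ c a v0 0 b)]
    refine Finset.sum_congr rfl fun b _ => ?_
    rw [map_smul, D.h_vv ha hv (Or.inl (zero_mul b)), mul_zero]
    change _ = ps F (F4.w * j * (F4.w * j) * (F4.w * b)) • vv ρ c a v0 0 (F4.w * b)
    rw [← g8]
    congr 2
    rw [← mul_assoc F4.v F4.w b]
    congr 1
  · have hi' : F4.v * i ≠ 0 := mul_ne_zero (by decide) hi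
    rw [ff_ne _ _ hi, ff_ne _ _ hi', map_add, map_smul, D.h_vv ha hv (Or.inl (mul_zero i)), D.h_vv ha hv (g6 i),
      mul_zero]
    have e1 : F4.w * i⁻¹ = (F4.v * i)⁻¹ := by clear hg hi hi'; revert i; decide
    rw [e1]
    congr 2
    by_cases hj : j = 0
    · rw [hj, mul_zero]
    · rw [if_neg hj, if_neg (mul_ne_zero (by decide) hj)]

include D ha hv in
theorem ff_ne_zero (h0 : v0 ≠ 0) {i j : F4} : ff ρ c a v0 i j ≠ 0 := by
  intro h
  by_cases hi : i = 0
  · subst hi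
    have h1 := congrArg (pr (RH.Ta ρ c) (0, 0)) h
    rw [map_zero, ff_zero, map_sum, Finset.sum_eq_single 0] at h1
    · rw [map_smul, pr_of_mem _ _ (D.mem_vv ha hv (Or.inl (zero_mul 0))), if_pos rfl, mul_zero, ps_zero, one_smul] at h1
      rcases smul_eq_zero.1 h1 with h3 | h3
      · exact sixteen_ne D.R.two h3
      · exact ne_vv h0 _ _ h3
    · intro b _ hb
      rw [map_smul, pr_of_mem _ _ (D.mem_vv ha hv (Or.inl (zero_mul b))), if_neg, smul_zero]
      intro h2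
      exact hb (Prod.ext_iff.1 h2).2.symm
    · intro h2; exact absurd (Finset.mem_univ _) h2
  · have h1 := congrArg (pr (RH.Ta ρ c) (i, 0)) h
    have hne : ¬ ((i, (0 : F4)) = (i, i⁻¹)) := fun h2 => inv_ne_zero hi (Prod.ext_iff.1 h2).2.symm
    rw [map_zero, ff_ne _ _ hi, map_add, map_smul, pr_of_mem _ _ (D.mem_vv ha hv (Or.inl (mul_zero i))), if_pos rfl,
      pr_of_mem _ _ (D.mem_vv ha hv (g6 i)), if_neg hne, smul_zero, add_zero] at h1
    rcases smul_eq_zero.1 h1 with h3 | h3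
    · exact sixteen_ne D.R.two h3
    · exact ne_vv h0 _ _ h3

include D ha hv in
/-- the weight spaces of the second group -/
theorem fr_b (h0 : v0 ≠ 0) (k : Om) : Module.finrank F (W (RH.Tb ρ c) k.1) = 1 := by
  have := D.R.fin
  have hpos : ∀ {i j : F4}, Gd i j → 1 ≤ Module.finrank F (W (RH.Tb ρ c) (i, j)) := by
    intro i j hg
    rw [Nat.succ_le_iff, Module.finrank_pos_iff]
    exact ⟨⟨⟨_, D.mem_ff ha hv hg⟩, 0, fun h => D.ff_ne_zero ha hv h0 (congrArg Subtype.val h)⟩⟩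
  have tot : 10 = ∑ i, ∑ j, Module.finrank F (W (RH.Tb ρ c) (i, j)) := by
    rw [← D.R.dim, finrank_eq (RH.rpb (ρ := ρ) c) D.R.two, Fintype.sum_prod_type]
  simp only [sum_F4] at tot
  have b1 := hpos (i := F4.o) (j := F4.o) (by decide)
  have b2 := hpos (i := F4.o) (j := F4.i) (by decide)
  have b3 := hpos (i := F4.o) (j := F4.w) (by decide)
  have b4 := hpos (i := F4.o) (j := F4.v) (by decide)
  have b5 := hpos (i := F4.i) (j := F4.o) (by decide)
  have b6 := hpos (i := F4.i) (j := F4.i) (by decide)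
  have b7 := hpos (i := F4.w) (j := F4.o) (by decide)
  have b8 := hpos (i := F4.w) (j := F4.v) (by decide)
  have b9 := hpos (i := F4.v) (j := F4.o) (by decide)
  have b0 := hpos (i := F4.v) (j := F4.w) (by decide)
  change 10 = Module.finrank F (W (RH.Tb ρ c) (F4.o, F4.o)) + Module.finrank F (W (RH.Tb ρ c) (F4.o, F4.i)) +
    Module.finrank F (W (RH.Tb ρ c) (F4.o, F4.w)) + Module.finrank F (W (RH.Tb ρ c) (F4.o, F4.v)) +
    (Module.finrank F (W (RH.Tb ρ c) (F4.i, F4.o)) + Module.finrank F (W (RH.Tb ρ c) (F4.i, F4.i)) +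
    Module.finrank F (W (RH.Tb ρ c) (F4.i, F4.w)) + Module.finrank F (W (RH.Tb ρ c) (F4.i, F4.v))) +
    (Module.finrank F (W (RH.Tb ρ c) (F4.w, F4.o)) + Module.finrank F (W (RH.Tb ρ c) (F4.w, F4.i)) +
    Module.finrank F (W (RH.Tb ρ c) (F4.w, F4.w)) + Module.finrank F (W (RH.Tb ρ c) (F4.w, F4.v))) +
    (Module.finrank F (W (RH.Tb ρ c) (F4.v, F4.o)) + Module.finrank F (W (RH.Tb ρ c) (F4.v, F4.i)) +
    Module.finrank F (W (RH.Tb ρ c) (F4.v, F4.w)) + Module.finrank F (W (RH.Tb ρ c) (F4.v, F4.v))) at tot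
  obtain ⟨⟨i, j⟩, hk⟩ := k
  change Module.finrank F (W (RH.Tb ρ c) (i, j)) = 1
  cases i <;> cases j <;> first
    | (exfalso; revert hk; decide)
    | omega

variable {b : G} (hb : RH.IsB ρ C b)

include D ha hv hb in
theorem fix_b (h0 : v0 ≠ 0) : (∀ v ∈ W (RH.Tb ρ c) (0, 0), ρ b v = v) ∧ ∀ v ∈ W (RH.Tb ρ c) (1, 1), ρ b v = v := by
  have hbb : ∀ v, ρ b (ρ b v) = v := by
    intro v
    rw [← RH.mul_apply, Conf.sq_b hb.π, map_one]; rfl
  obtain ⟨k, hk, hc⟩ := coef D.R.two D.R.dim (D.fr_b ha hv h0) (ρ b) hbb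
    (fun i => ⟨(i.1.2, i.1.1), by rw [mul_comm]; exact i.2⟩) (fun i v hv => RH.map_b c hb.π hv)
  rw [hb.tr, sum_Om (fun i : Om => if (⟨(i.1.2, i.1.1), _⟩ : Om) = i then k i else 0)] at hk
  simp only [Subtype.mk.injEq, Prod.mk.injEq, reduceCtorEq, and_self, if_true, if_false,
    zero_add, add_zero] at hk
  have e1 := hc ⟨(0, 0), by decide⟩ rfl
  have e2 := hc ⟨(1, 1), by decide⟩ rfl
  obtain ⟨e3, e4⟩ := sum_two D.R.two e1.1 e2.1 hk.symm
  refine ⟨fun v hv => ?_, fun v hv => ?_⟩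
  · rw [e1.2 v hv, e3, one_smul]
  · rw [e2.2 v hv, e4, one_smul]

include D ha hv hb in
/-- the action of `b` on the second frame -/
theorem b_ff (h0 : v0 ≠ 0) : ∃ r : F, r ≠ 0 ∧ ρ b (ff ρ c a v0 0 0) = ff ρ c a v0 0 0 ∧
    (∀ j, j ≠ 0 → ρ b (ff ρ c a v0 j 0) = r • ff ρ c a v0 0 j) ∧
    (∀ j, j ≠ 0 → ρ b (ff ρ c a v0 0 j) = r⁻¹ • ff ρ c a v0 j 0) ∧
    (∀ j, j ≠ 0 → ρ b (ff ρ c a v0 j j⁻¹) = ff ρ c a v0 j⁻¹ j) := by
  have hbb : ∀ v, ρ b (ρ b v) = v := by
    intro v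
    rw [← RH.mul_apply, Conf.sq_b hb.π, map_one]; rfl
  obtain ⟨fx0, fx1⟩ := D.fix_b ha hv hb h0
  have hbh : ∀ v, ρ c.h⁻¹ (ρ b v) = ρ b (ρ c.h v) := RH.conj_apply (c.conj_h_b hb.π)
  obtain ⟨r, hr⟩ := eq_smul (D.fr_b ha hv h0 ⟨(0, 1), by decide⟩) (D.mem_ff ha hv (i := 0) (j := 1) (by decide))
    (D.ff_ne_zero ha hv h0) (RH.map_b c hb.π (D.mem_ff ha hv (i := 1) (j := 0) (by decide)))
  have hr0 : r ≠ 0 := by
    rintro rfl
    rw [zero_smul] at hr
    exact ne_of (D.ff_ne_zero ha hv h0) hr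
  have k1 : ρ c.h (ff ρ c a v0 1 0) = ff ρ c a v0 F4.v 0 := by
    have := D.h_ff ha hv (i := 1) (j := 0) (by decide)
    exact this
  have k2 : ρ c.h (ff ρ c a v0 F4.v 0) = ff ρ c a v0 F4.w 0 := by
    have := D.h_ff ha hv (i := F4.v) (j := 0) (by decide)
    exact this
  have k3 : ρ c.h (ff ρ c a v0 0 F4.w) = ff ρ c a v0 0 F4.v := by
    have := D.h_ff ha hv (i := 0) (j := F4.w) (by decide)
    exact this
  have k4 : ρ c.h (ff ρ c a v0 0 F4.v) = ff ρ c a v0 0 1 := by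
    have := D.h_ff ha hv (i := 0) (j := F4.v) (by decide)
    exact this
  have k5 : ρ c.h (ff ρ c a v0 1 1) = ff ρ c a v0 F4.v F4.w := by
    have := D.h_ff ha hv (i := 1) (j := 1) (by decide)
    exact this
  have k6 : ρ c.h (ff ρ c a v0 F4.w F4.v) = ff ρ c a v0 1 1 := by
    have := D.h_ff ha hv (i := F4.w) (j := F4.v) (by decide)
    exact this
  have r1 : ρ b (ff ρ c a v0 F4.v 0) = r • ff ρ c a v0 0 F4.v := by
    rw [← k1, ← hbh, hr, map_smul, ← k4, RH.inv_apply]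
  have r2 : ρ b (ff ρ c a v0 F4.w 0) = r • ff ρ c a v0 0 F4.w := by
    rw [← k2, ← hbh, r1, map_smul, ← k3, RH.inv_apply]
  have s1 : ∀ j, j ≠ 0 → ρ b (ff ρ c a v0 j 0) = r • ff ρ c a v0 0 j := by
    intro j hj
    cases j
    · exact absurd rfl hj
    · exact hr
    · exact r2
    · exact r1
  have t1 : ρ b (ff ρ c a v0 1 1) = ff ρ c a v0 1 1 := fx1 _ (D.mem_ff ha hv (by decide))
  have t2 : ρ b (ff ρ c a v0 F4.v F4.w) = ff ρ c a v0 F4.w F4.v := by
    rw [← k5, ← hbh, t1, ← k6, RH.inv_apply]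
  have t3 : ρ b (ff ρ c a v0 F4.w F4.v) = ff ρ c a v0 F4.v F4.w := by
    rw [← t2, hbb]
  refine ⟨r, hr0, fx0 _ (D.mem_ff ha hv (by decide)), s1, ?_, ?_⟩
  · intro j hj
    rw [← hbb (ff ρ c a v0 j 0), s1 j hj, map_smul, smul_smul, inv_mul_cancel₀ hr0, one_smul]
  · intro j hj
    cases j
    · exact absurd rfl hj
    · exact t1
    · exact t3
    · exact t2

end Dt

end Cfsg.Agent.H840.L34
end

-- part: H840/L34/Eq
section
/-!
# Ten-dimensional representations of double covers of `PSL_3(4)` : the quadratic equation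
-/

set_option autoImplicit false
set_option linter.constructorNameAsVariable false

namespace Cfsg.Agent.H840.L34

open Cfsg.Agent.Lib.FieldFour

variable {G : Type*} [Group G] {C : Cv G}
variable {F : Type*} [Field F] {V : Type*} [AddCommGroup V] [Module F V]

namespace Dt

variable {ρ : G →* Module.End F V} {c : Conf C}

section exp

variable (a : G) (v0 : V)

theorem ff00 : ff ρ c a v0 0 0 = vv ρ c a v0 0 0 + vv ρ c a v0 0 1 + vv ρ c a v0 0 F4.w + vv ρ c a v0 0 F4.v := by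
  rw [ff_zero, sum_F4]
  change (1 : F) • _ + (1 : F) • _ + (1 : F) • _ + (1 : F) • _ = _
  simp only [one_smul]

theorem ff01 : ff ρ c a v0 0 1 = vv ρ c a v0 0 0 + vv ρ c a v0 0 1 - vv ρ c a v0 0 F4.w - vv ρ c a v0 0 F4.v := by
  rw [ff_zero, sum_F4]
  change (1 : F) • _ + (1 : F) • _ + (-1 : F) • _ + (-1 : F) • _ = _
  simp only [one_smul, neg_smul, sub_eq_add_neg]

theorem ff0w : ff ρ c a v0 0 F4.w = vv ρ c a v0 0 0 - vv ρ c a v0 0 1 + vv ρ c a v0 0 F4.w - vv ρ c a v0 0 F4.v := by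
  rw [ff_zero, sum_F4]
  change (1 : F) • _ + (-1 : F) • _ + (1 : F) • _ + (-1 : F) • _ = _
  simp only [one_smul, neg_smul, sub_eq_add_neg]

theorem ff0v : ff ρ c a v0 0 F4.v = vv ρ c a v0 0 0 - vv ρ c a v0 0 1 - vv ρ c a v0 0 F4.w + vv ρ c a v0 0 F4.v := by
  rw [ff_zero, sum_F4]
  change (1 : F) • _ + (-1 : F) • _ + (-1 : F) • _ + (1 : F) • _ = _
  simp only [one_smul, neg_smul, sub_eq_add_neg]

theorem ffj0 {j : F4} (hj : j ≠ 0) : ff ρ c a v0 j 0 = vv ρ c a v0 j 0 + vv ρ c a v0 j j⁻¹ := by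
  rw [ff_ne _ _ hj, if_pos rfl, one_smul]

theorem ffji {j : F4} (hj : j ≠ 0) : ff ρ c a v0 j j⁻¹ = vv ρ c a v0 j 0 - vv ρ c a v0 j j⁻¹ := by
  rw [ff_ne _ _ hj, if_neg (inv_ne_zero hj), neg_one_smul, sub_eq_add_neg]

end exp

variable (D : Dt C c ρ) {a b : G} (ha : RH.IsA ρ C a) (hb : RH.IsB ρ C b)

include D ha hb in
/-- the braid relation -/
theorem braid : a * b * a = b * a * b := by
  have h1 : C.π (a * b * a) = C.π (b * a * b) := by
    rw [map_mul, map_mul, map_mul, map_mul, ha.π, hb.π, ← map_mul, ← map_mul, L34.braid, map_mul, map_mul]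
  rcases C.eq_or h1 with h2 | h2
  · exact h2
  · exfalso
    have h3 : (a * b) * a * (a * b)⁻¹ = C.z * b := by
      rw [h2]; group
    have h4 := RH.trace_conj (ρ := ρ) (a * b) a
    rw [h3, ha.tr, map_mul, D.R.z, neg_one_mul, map_neg, hb.tr] at h4
    have h5 : (2 : F) * 2 = 0 := by linear_combination -h4
    rcases mul_eq_zero.1 h5 with h6 | h6 <;> exact D.R.two h6

variable {v0 : V} (hv : v0 ∈ W (RH.Ta ρ c) (0, 0)) (h0 : v0 ≠ 0)

include D ha hv hb h0 in
/-- the quadratic equation -/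
theorem eq_r {r : F} (hr0 : r ≠ 0) (e0 : ρ b (ff ρ c a v0 0 0) = ff ρ c a v0 0 0)
    (e1 : ∀ j, j ≠ 0 → ρ b (ff ρ c a v0 j 0) = r • ff ρ c a v0 0 j)
    (e2 : ∀ j, j ≠ 0 → ρ b (ff ρ c a v0 0 j) = r⁻¹ • ff ρ c a v0 j 0)
    (e3 : ∀ j, j ≠ 0 → ρ b (ff ρ c a v0 j j⁻¹) = ff ρ c a v0 j⁻¹ j) : 2 * r * r + r + 1 = 0 := by
  set f := ff ρ c a v0 with hf
  set v := vv ρ c a v0 with hvv
  have x00 : f 0 0 = v 0 0 + v 0 1 + v 0 F4.w + v 0 F4.v := ff00 a v0
  have x01 : f 0 1 = v 0 0 + v 0 1 - v 0 F4.w - v 0 F4.v := ff01 a v0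
  have x0w : f 0 F4.w = v 0 0 - v 0 1 + v 0 F4.w - v 0 F4.v := ff0w a v0
  have x0v : f 0 F4.v = v 0 0 - v 0 1 - v 0 F4.w + v 0 F4.v := ff0v a v0
  have y10 : f 1 0 = v 1 0 + v 1 1 := ffj0 a v0 (by decide)
  have yw0 : f F4.w 0 = v F4.w 0 + v F4.w F4.v := ffj0 a v0 (by decide)
  have yv0 : f F4.v 0 = v F4.v 0 + v F4.v F4.w := ffj0 a v0 (by decide)
  have y11 : f 1 1 = v 1 0 - v 1 1 := ffji a v0 (by decide)
  have ywv : f F4.w F4.v = v F4.w 0 - v F4.w F4.v := ffji a v0 (by decide)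
  have yvw : f F4.v F4.w = v F4.v 0 - v F4.v F4.w := ffji a v0 (by decide)
  -- `4 r b v00`
  have hy : ρ b ((4 * r) • v 0 0) = r • f 0 0 + f 1 0 + f F4.w 0 + f F4.v 0 := by
    have h1 : (4 * r) • v 0 0 = r • (f 0 0 + f 0 1 + f 0 F4.w + f 0 F4.v) := by
      rw [x00, x01, x0w, x0v]; module
    rw [h1, map_smul, map_add, map_add, map_add, e0, e2 1 (by decide), e2 F4.w (by decide), e2 F4.v (by decide),
      smul_add, smul_add, smul_add, smul_smul, smul_smul, smul_smul, mul_inv_cancel₀ hr0, one_smul, one_smul, one_smul]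
  have hA : ∀ i j, Gd i j → ρ a (v i j) = v j i := fun i j hg => D.a_vv ha hv hg
  have hAy : (4 : F) • ρ a (r • f 0 0 + f 1 0 + f F4.w 0 + f F4.v 0) = (r + 3) • f 0 0 +
      (r - 1) • (f 0 1 + f 0 F4.w + f 0 F4.v) + (2 * r + 2) • (f 1 0 + f F4.w 0 + f F4.v 0) +
      (2 * r - 2) • (f 1 1 + f F4.w F4.v + f F4.v F4.w) := by
    rw [x00, x01, x0w, x0v, y10, yw0, yv0, y11, ywv, yvw]
    simp only [map_add, map_smul]
    rw [hA 0 0 (by decide), hA 0 1 (by decide), hA 0 F4.w (by decide), hA 0 F4.v (by decide), hA 1 0 (by decide),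
      hA 1 1 (by decide), hA F4.w 0 (by decide), hA F4.w F4.v (by decide), hA F4.v 0 (by decide),
      hA F4.v F4.w (by decide)]
    module
  have hbr : ∀ x, ρ a (ρ b (ρ a x)) = ρ b (ρ a (ρ b x)) := by
    intro x
    rw [← RH.mul_apply, ← RH.mul_apply, ← RH.mul_apply, ← RH.mul_apply, D.braid ha hb]
  have h00 : ρ a ((4 * r) • v 0 0) = (4 * r) • v 0 0 := by rw [map_smul, hA 0 0 (by decide)]
  have key := hbr ((4 * r) • v 0 0)
  rw [h00, hy] at key
  have key2 := congrArg (fun x => (4 : F) • x) key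
  simp only [← map_smul (ρ b)] at key2
  rw [hAy] at key2
  simp only [map_add, map_smul] at key2
  rw [e0, e1 1 (by decide), e1 F4.w (by decide), e1 F4.v (by decide), e2 1 (by decide), e2 F4.w (by decide),
    e2 F4.v (by decide)] at key2
  have e31 : ρ b (f 1 1) = f 1 1 := e3 1 (by decide)
  have e32 : ρ b (f F4.w F4.v) = f F4.v F4.w := e3 F4.w (by decide)
  have e33 : ρ b (f F4.v F4.w) = f F4.w F4.v := e3 F4.v (by decide)
  rw [e31, e32, e33] at key2
  have hP : ∀ {i j : F4}, Gd i j → (i, j) ≠ (1, 0) → pr (RH.Tb ρ c) (1, 0) (f i j) = 0 := by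
    intro i j hg hne
    rw [pr_of_mem _ _ (D.mem_ff ha hv hg), if_neg (Ne.symm hne)]
  have hP1 : pr (RH.Tb ρ c) (1, 0) (f 1 0) = (16 : F) • f 1 0 := by
    rw [pr_of_mem _ _ (D.mem_ff ha hv (by decide)), if_pos rfl]
  have key3 := congrArg (pr (RH.Tb ρ c) (1, 0)) key2
  simp only [map_add, map_smul] at key3
  rw [hP1, hP (i := 0) (j := 0) (by decide) (by decide), hP (i := 0) (j := 1) (by decide) (by decide),
    hP (i := 0) (j := F4.w) (by decide) (by decide), hP (i := 0) (j := F4.v) (by decide) (by decide),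
    hP (i := F4.w) (j := 0) (by decide) (by decide), hP (i := F4.v) (j := 0) (by decide) (by decide),
    hP (i := 1) (j := 1) (by decide) (by decide), hP (i := F4.w) (j := F4.v) (by decide) (by decide),
    hP (i := F4.v) (j := F4.w) (by decide) (by decide)] at key3
  simp only [smul_zero, add_zero, zero_add, smul_smul] at key3
  have key4 : (((2 * r + 2) * 16) - ((r - 1) * (r⁻¹ * 16))) • f 1 0 = 0 := by
    rw [sub_smul, key3]
    exact sub_self _
  have key5 := (smul_eq_zero.1 key4).resolve_right (D.ff_ne_zero ha hv h0)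
  have key6 : (16 : F) * (2 * r * r + r + 1) = 0 := by
    have h7 : r * r⁻¹ = 1 := mul_inv_cancel₀ hr0
    linear_combination r * key5 + 16 * (r - 1) * h7
  exact (mul_eq_zero.1 key6).resolve_left (sixteen_ne D.R.two)

end Dt

end Cfsg.Agent.H840.L34
end

-- part: H840/L34/Over
section
/-!
# Ten-dimensional representations of double covers of `PSL_3(4)` : the overgroup `2.M22`
-/

set_option autoImplicit false
set_option linter.constructorNameAsVariable false

namespace Cfsg.Agent.H840.L34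

open Cfsg.Agent.Lib.FieldFour

variable {G : Type*} [Group G] {C : Cv G}
variable {F : Type*} [Field F] {V : Type*} [AddCommGroup V] [Module F V]

/-- the permutation of the ten weights given by `g0` -/
def σg : Equiv.Perm Om where
  toFun k := ⟨(k.1.1 * k.1.1, k.1.2 * k.1.2 + k.1.1), by revert k; decide⟩
  invFun k := ⟨(k.1.1 * k.1.1, k.1.2 * k.1.2 + k.1.1), by revert k; decide⟩
  left_inv := by intro k; revert k; decide
  right_inv := by intro k; revert k; decide

/-- the permutation of the ten weights given by the field automorphism -/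
def σu : Equiv.Perm Om where
  toFun k := ⟨(k.1.1 * k.1.1, k.1.2 * k.1.2), by revert k; decide⟩
  invFun k := ⟨(k.1.1 * k.1.1, k.1.2 * k.1.2), by revert k; decide⟩
  left_inv := by intro k; revert k; decide
  right_inv := by intro k; revert k; decide

namespace Dt

variable {ρ : G →* Module.End F V} {c : Conf C}
variable (D : Dt C c ρ) {a b : G} (ha : RH.IsA ρ C a) (hb : RH.IsB ρ C b)
variable {v0 : V} (hv : v0 ∈ W (RH.Ta ρ c) (0, 0)) (h0 : v0 ≠ 0)

/-- the basis of weight vectors -/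
noncomputable def B : Module.Basis Om F V :=
  bas D.R.two D.R.dim (u := fun k => vv ρ c a v0 k.1.1 k.1.2) (fun k => D.mem_vv ha hv k.2) (fun _ => ne_vv h0 _ _)

theorem B_apply (k : Om) : D.B ha hv h0 k = vv ρ c a v0 k.1.1 k.1.2 := bas_apply _ _ _ _ k

/-- the second basis -/
noncomputable def Bf : Module.Basis Om F V :=
  bas D.R.two D.R.dim (u := fun k => ff ρ c a v0 k.1.1 k.1.2) (fun k => D.mem_ff ha hv k.2)
    (fun _ => D.ff_ne_zero ha hv h0)

theorem Bf_apply (k : Om) : D.Bf ha hv h0 k = ff ρ c a v0 k.1.1 k.1.2 := bas_apply _ _ _ _ k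

include D ha hv h0 in
theorem ext_v {f g : V →ₗ[F] V} (h : ∀ i j, Gd i j → f (vv ρ c a v0 i j) = g (vv ρ c a v0 i j)) : f = g := by
  apply (D.B ha hv h0).ext
  intro k
  rw [D.B_apply ha hv h0]
  exact h _ _ k.2

include D ha hv h0 in
theorem ext_f {f g : V →ₗ[F] V} (h : ∀ i j, Gd i j → f (ff ρ c a v0 i j) = g (ff ρ c a v0 i j)) : f = g := by
  apply (D.Bf ha hv h0).ext
  intro k
  rw [D.Bf_apply ha hv h0]
  exact h _ _ k.2

/-- the involution `g0` -/
noncomputable def G0 : V ≃ₗ[F] V := (D.B ha hv h0).equiv (D.B ha hv h0) σg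

/-- the field automorphism -/
noncomputable def U : V ≃ₗ[F] V := (D.B ha hv h0).equiv (D.B ha hv h0) σu

theorem G0_vv {i j : F4} (hg : Gd i j) : D.G0 ha hv h0 (vv ρ c a v0 i j) = vv ρ c a v0 (i * i) (j * j + i) := by
  have := (D.B ha hv h0).equiv_apply ⟨(i, j), hg⟩ (D.B ha hv h0) σg
  rw [D.B_apply ha hv h0, D.B_apply ha hv h0] at this
  exact this

theorem U_vv {i j : F4} (hg : Gd i j) : D.U ha hv h0 (vv ρ c a v0 i j) = vv ρ c a v0 (i * i) (j * j) := by
  have := (D.B ha hv h0).equiv_apply ⟨(i, j), hg⟩ (D.B ha hv h0) σu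
  rw [D.B_apply ha hv h0, D.B_apply ha hv h0] at this
  exact this

theorem gg : ∀ i j : F4, Gd i j → Gd (i * i) (j * j + i) := by decide
theorem gu : ∀ i j : F4, Gd i j → Gd (i * i) (j * j) := by decide
theorem gx : ∀ i j s : F4, Gd i j → Gd i (j + i * s + s * s) := by decide +kernel
theorem gs : ∀ i j : F4, Gd i j → Gd j i := by decide
theorem q1 : ∀ i : F4, (i * i) * (i * i) = i := by decide
theorem q2 : ∀ i j : F4, (j * j + i) * (j * j + i) + i * i = j := by decide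

theorem G0_G0 (v : V) : D.G0 ha hv h0 (D.G0 ha hv h0 v) = v := by
  have : (D.G0 ha hv h0 : V →ₗ[F] V) ∘ₗ (D.G0 ha hv h0 : V →ₗ[F] V) = LinearMap.id := by
    apply D.ext_v ha hv h0
    intro i j hg
    change D.G0 ha hv h0 (D.G0 ha hv h0 (vv ρ c a v0 i j)) = vv ρ c a v0 i j
    rw [G0_vv D ha hv h0 hg, G0_vv D ha hv h0 (gg i j hg), q1, q2]
  exact LinearMap.congr_fun this v

theorem U_U (v : V) : D.U ha hv h0 (D.U ha hv h0 v) = v := by
  have : (D.U ha hv h0 : V →ₗ[F] V) ∘ₗ (D.U ha hv h0 : V →ₗ[F] V) = LinearMap.id := by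
    apply D.ext_v ha hv h0
    intro i j hg
    change D.U ha hv h0 (D.U ha hv h0 (vv ρ c a v0 i j)) = vv ρ c a v0 i j
    rw [U_vv D ha hv h0 hg, U_vv D ha hv h0 (gu i j hg), q1, q1]
  exact LinearMap.congr_fun this v

theorem U_G0 (v : V) : D.U ha hv h0 (D.G0 ha hv h0 v) = D.G0 ha hv h0 (D.U ha hv h0 v) := by
  have : (D.U ha hv h0 : V →ₗ[F] V) ∘ₗ (D.G0 ha hv h0 : V →ₗ[F] V) =
      (D.G0 ha hv h0 : V →ₗ[F] V) ∘ₗ (D.U ha hv h0 : V →ₗ[F] V) := by
    apply D.ext_v ha hv h0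
    intro i j hg
    change D.U ha hv h0 (D.G0 ha hv h0 (vv ρ c a v0 i j)) = D.G0 ha hv h0 (D.U ha hv h0 (vv ρ c a v0 i j))
    rw [G0_vv D ha hv h0 hg, U_vv D ha hv h0 hg, U_vv D ha hv h0 (gg i j hg), G0_vv D ha hv h0 (gu i j hg)]
    have e : ∀ i j : F4, (j * j + i) * (j * j + i) = j * j * (j * j) + i * i := by decide
    rw [e]
  exact LinearMap.congr_fun this v

/-- an operator commuting past -/
theorem G0_13 (t : F4) (v : V) : D.G0 ha hv h0 (ρ (c.X13 t) v) = ρ (c.X13 (t * t)) (D.G0 ha hv h0 v) := by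
  have : (D.G0 ha hv h0 : V →ₗ[F] V) ∘ₗ ρ (c.X13 t) = ρ (c.X13 (t * t)) ∘ₗ (D.G0 ha hv h0 : V →ₗ[F] V) := by
    apply D.ext_v ha hv h0
    intro i j hg
    change D.G0 ha hv h0 (ρ (c.X13 t) (vv ρ c a v0 i j)) = ρ (c.X13 (t * t)) (D.G0 ha hv h0 (vv ρ c a v0 i j))
    rw [G0_vv D ha hv h0 hg, ((RH.mem_a c).1 (D.mem_vv ha hv hg)).1, ((RH.mem_a c).1 (D.mem_vv ha hv (gg i j hg))).1,
      map_smul, G0_vv D ha hv h0 hg]
    congr 1
    rw [show i * i * (t * t) = (i * t) * (i * t) by ring, ps_sq]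
  exact LinearMap.congr_fun this v

theorem U_13 (t : F4) (v : V) : D.U ha hv h0 (ρ (c.X13 t) v) = ρ (c.X13 (t * t)) (D.U ha hv h0 v) := by
  have : (D.U ha hv h0 : V →ₗ[F] V) ∘ₗ ρ (c.X13 t) = ρ (c.X13 (t * t)) ∘ₗ (D.U ha hv h0 : V →ₗ[F] V) := by
    apply D.ext_v ha hv h0
    intro i j hg
    change D.U ha hv h0 (ρ (c.X13 t) (vv ρ c a v0 i j)) = ρ (c.X13 (t * t)) (D.U ha hv h0 (vv ρ c a v0 i j))
    rw [U_vv D ha hv h0 hg, ((RH.mem_a c).1 (D.mem_vv ha hv hg)).1, ((RH.mem_a c).1 (D.mem_vv ha hv (gu i j hg))).1,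
      map_smul, U_vv D ha hv h0 hg]
    congr 1
    rw [show i * i * (t * t) = (i * t) * (i * t) by ring, ps_sq]
  exact LinearMap.congr_fun this v

theorem G0_23 (t : F4) (v : V) : D.G0 ha hv h0 (ρ (c.X23 t) v) =
    ρ (c.X23 (t * t)) (ρ (c.X13 t) (D.G0 ha hv h0 v)) := by
  have : (D.G0 ha hv h0 : V →ₗ[F] V) ∘ₗ ρ (c.X23 t) =
      ρ (c.X23 (t * t)) ∘ₗ ρ (c.X13 t) ∘ₗ (D.G0 ha hv h0 : V →ₗ[F] V) := by
    apply D.ext_v ha hv h0
    intro i j hg
    change D.G0 ha hv h0 (ρ (c.X23 t) (vv ρ c a v0 i j)) =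
      ρ (c.X23 (t * t)) (ρ (c.X13 t) (D.G0 ha hv h0 (vv ρ c a v0 i j)))
    rw [G0_vv D ha hv h0 hg, ((RH.mem_a c).1 (D.mem_vv ha hv hg)).2, ((RH.mem_a c).1 (D.mem_vv ha hv (gg i j hg))).1,
      map_smul, map_smul, ((RH.mem_a c).1 (D.mem_vv ha hv (gg i j hg))).2, G0_vv D ha hv h0 hg, smul_smul]
    congr 1
    have e1 : ∀ i j t : F4, (j * j + i) * (t * t) = (j * t) * (j * t) + i * (t * t) := by decide +kernel
    have e2 : ∀ i t : F4, (i * i * t) * (i * i * t) = i * (t * t) := by decide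
    rw [e1, ps_add, ps_sq, ← ps_sq (i * i * t), e2, mul_left_comm, ps_mul_self, mul_one]
  exact LinearMap.congr_fun this v

theorem U_23 (t : F4) (v : V) : D.U ha hv h0 (ρ (c.X23 t) v) = ρ (c.X23 (t * t)) (D.U ha hv h0 v) := by
  have : (D.U ha hv h0 : V →ₗ[F] V) ∘ₗ ρ (c.X23 t) = ρ (c.X23 (t * t)) ∘ₗ (D.U ha hv h0 : V →ₗ[F] V) := by
    apply D.ext_v ha hv h0
    intro i j hg
    change D.U ha hv h0 (ρ (c.X23 t) (vv ρ c a v0 i j)) = ρ (c.X23 (t * t)) (D.U ha hv h0 (vv ρ c a v0 i j))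
    rw [U_vv D ha hv h0 hg, ((RH.mem_a c).1 (D.mem_vv ha hv hg)).2, ((RH.mem_a c).1 (D.mem_vv ha hv (gu i j hg))).2,
      map_smul, U_vv D ha hv h0 hg]
    congr 1
    rw [show j * j * (t * t) = (j * t) * (j * t) by ring, ps_sq]
  exact LinearMap.congr_fun this v

theorem G0_12 (t : F4) (v : V) : D.G0 ha hv h0 (ρ (c.X12 t) v) = ρ (c.X12 (t * t)) (D.G0 ha hv h0 v) := by
  have : (D.G0 ha hv h0 : V →ₗ[F] V) ∘ₗ ρ (c.X12 t) = ρ (c.X12 (t * t)) ∘ₗ (D.G0 ha hv h0 : V →ₗ[F] V) := by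
    apply D.ext_v ha hv h0
    intro i j hg
    change D.G0 ha hv h0 (ρ (c.X12 t) (vv ρ c a v0 i j)) = ρ (c.X12 (t * t)) (D.G0 ha hv h0 (vv ρ c a v0 i j))
    rw [G0_vv D ha hv h0 hg, D.x_vv ha hv t hg, D.x_vv ha hv (t * t) (gg i j hg), G0_vv D ha hv h0 (gx i j t hg)]
    have e : ∀ i j t : F4, (j + i * t + t * t) * (j + i * t + t * t) + i = j * j + i + i * i * (t * t) + t * t * (t * t) := by
      decide +kernel
    rw [e]
  exact LinearMap.congr_fun this v

theorem U_12 (t : F4) (v : V) : D.U ha hv h0 (ρ (c.X12 t) v) = ρ (c.X12 (t * t)) (D.U ha hv h0 v) := by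
  have : (D.U ha hv h0 : V →ₗ[F] V) ∘ₗ ρ (c.X12 t) = ρ (c.X12 (t * t)) ∘ₗ (D.U ha hv h0 : V →ₗ[F] V) := by
    apply D.ext_v ha hv h0
    intro i j hg
    change D.U ha hv h0 (ρ (c.X12 t) (vv ρ c a v0 i j)) = ρ (c.X12 (t * t)) (D.U ha hv h0 (vv ρ c a v0 i j))
    rw [U_vv D ha hv h0 hg, D.x_vv ha hv t hg, D.x_vv ha hv (t * t) (gu i j hg), U_vv D ha hv h0 (gx i j t hg)]
    have e : ∀ i j t : F4, (j + i * t + t * t) * (j + i * t + t * t) = j * j + i * i * (t * t) + t * t * (t * t) := by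
      decide +kernel
    rw [e]
  exact LinearMap.congr_fun this v

theorem U_a (v : V) : D.U ha hv h0 (ρ a v) = ρ a (D.U ha hv h0 v) := by
  have : (D.U ha hv h0 : V →ₗ[F] V) ∘ₗ ρ a = ρ a ∘ₗ (D.U ha hv h0 : V →ₗ[F] V) := by
    apply D.ext_v ha hv h0
    intro i j hg
    change D.U ha hv h0 (ρ a (vv ρ c a v0 i j)) = ρ a (D.U ha hv h0 (vv ρ c a v0 i j))
    rw [U_vv D ha hv h0 hg, D.a_vv ha hv hg, D.a_vv ha hv (gu i j hg), U_vv D ha hv h0 (gs i j hg)]
  exact LinearMap.congr_fun this v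

/-- `g0 a g0 = a g0 a` -/
theorem G0_a (v : V) : D.G0 ha hv h0 (ρ a (D.G0 ha hv h0 v)) = ρ a (D.G0 ha hv h0 (ρ a v)) := by
  have : (D.G0 ha hv h0 : V →ₗ[F] V) ∘ₗ ρ a ∘ₗ (D.G0 ha hv h0 : V →ₗ[F] V) =
      ρ a ∘ₗ (D.G0 ha hv h0 : V →ₗ[F] V) ∘ₗ ρ a := by
    apply D.ext_v ha hv h0
    intro i j hg
    change D.G0 ha hv h0 (ρ a (D.G0 ha hv h0 (vv ρ c a v0 i j))) = ρ a (D.G0 ha hv h0 (ρ a (vv ρ c a v0 i j)))
    rw [G0_vv D ha hv h0 hg, D.a_vv ha hv hg, D.a_vv ha hv (gg i j hg), G0_vv D ha hv h0 (gs i j hg),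
      G0_vv D ha hv h0 (gs _ _ (gg i j hg)), D.a_vv ha hv (gg _ _ (gs i j hg))]
    have e : ∀ i j : F4, Gd i j → (j * j + i) * (j * j + i) = i * i + j ∧ i * i * (i * i) + (j * j + i) = j * j := by
      decide
    rw [(e i j hg).1, (e i j hg).2]
  exact LinearMap.congr_fun this v

theorem G0_h (v : V) : ρ c.h (D.G0 ha hv h0 (ρ c.h v)) = D.G0 ha hv h0 v := by
  have : ρ c.h ∘ₗ (D.G0 ha hv h0 : V →ₗ[F] V) ∘ₗ ρ c.h = (D.G0 ha hv h0 : V →ₗ[F] V) := by
    apply D.ext_v ha hv h0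
    intro i j hg
    change ρ c.h (D.G0 ha hv h0 (ρ c.h (vv ρ c a v0 i j))) = D.G0 ha hv h0 (vv ρ c a v0 i j)
    have g1 : ∀ i j : F4, Gd i j → Gd (F4.v * i) (F4.w * j) := by decide
    rw [D.h_vv ha hv hg, G0_vv D ha hv h0 (g1 i j hg), D.h_vv ha hv (gg _ _ (g1 i j hg)), G0_vv D ha hv h0 hg]
    have e : ∀ i j : F4, F4.v * (F4.v * i * (F4.v * i)) = i * i ∧ F4.w * (F4.w * j * (F4.w * j) + F4.v * i) = j * j + i := by
      decide
    rw [(e i j).1, (e i j).2]
  exact LinearMap.congr_fun this v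

theorem U_h (v : V) : ρ c.h (D.U ha hv h0 (ρ c.h v)) = D.U ha hv h0 v := by
  have : ρ c.h ∘ₗ (D.U ha hv h0 : V →ₗ[F] V) ∘ₗ ρ c.h = (D.U ha hv h0 : V →ₗ[F] V) := by
    apply D.ext_v ha hv h0
    intro i j hg
    change ρ c.h (D.U ha hv h0 (ρ c.h (vv ρ c a v0 i j))) = D.U ha hv h0 (vv ρ c a v0 i j)
    have g1 : ∀ i j : F4, Gd i j → Gd (F4.v * i) (F4.w * j) := by decide
    rw [D.h_vv ha hv hg, U_vv D ha hv h0 (g1 i j hg), D.h_vv ha hv (gu _ _ (g1 i j hg)), U_vv D ha hv h0 hg]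
    have e : ∀ i j : F4, F4.v * (F4.v * i * (F4.v * i)) = i * i ∧ F4.w * (F4.w * j * (F4.w * j)) = j * j := by
      decide
    rw [(e i j).1, (e i j).2]
  exact LinearMap.congr_fun this v

/-! ### the second frame -/

theorem U_ff0 (j : F4) : D.U ha hv h0 (ff ρ c a v0 0 j) = ff ρ c a v0 0 (j * j) := by
  have hf : ∀ b : F4, ((b * b) * (b * b)) = b := by decide
  rw [ff_zero, ff_zero, map_sum, ← Equiv.sum_comp (Equiv.mk (fun b : F4 => b * b) (fun b => b * b) hf hf)
    (fun b => ps F (j * j * (j * j) * b) • vv ρ c a v0 0 b)]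
  refine Finset.sum_congr rfl fun b _ => ?_
  rw [map_smul, U_vv D ha hv h0 (Or.inl (zero_mul b)), mul_zero]
  change _ = ps F (j * j * (j * j) * (b * b)) • vv ρ c a v0 0 (b * b)
  rw [show j * j * (j * j) * (b * b) = (j * j * b) * (j * j * b) by ring, ps_sq]

theorem G0_ff0 (j : F4) : D.G0 ha hv h0 (ff ρ c a v0 0 j) = ff ρ c a v0 0 (j * j) := by
  have hf : ∀ b : F4, ((b * b) * (b * b)) = b := by decide
  rw [ff_zero, ff_zero, map_sum, ← Equiv.sum_comp (Equiv.mk (fun b : F4 => b * b) (fun b => b * b) hf hf)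
    (fun b => ps F (j * j * (j * j) * b) • vv ρ c a v0 0 b)]
  refine Finset.sum_congr rfl fun b _ => ?_
  rw [map_smul, G0_vv D ha hv h0 (Or.inl (zero_mul b)), mul_zero, add_zero]
  change _ = ps F (j * j * (j * j) * (b * b)) • vv ρ c a v0 0 (b * b)
  rw [show j * j * (j * j) * (b * b) = (j * j * b) * (j * j * b) by ring, ps_sq]

theorem U_ffj {j : F4} (hj : j ≠ 0) : D.U ha hv h0 (ff ρ c a v0 j 0) = ff ρ c a v0 (j * j) 0 := by
  have hj2 : j * j ≠ 0 := mul_ne_zero hj hj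
  rw [ffj0 a v0 hj, ffj0 a v0 hj2, map_add, U_vv D ha hv h0 (Or.inl (mul_zero j)), U_vv D ha hv h0 (g6 j), mul_zero,
    mul_inv]

theorem U_ffi {j : F4} (hj : j ≠ 0) : D.U ha hv h0 (ff ρ c a v0 j j⁻¹) = ff ρ c a v0 (j * j) (j * j)⁻¹ := by
  have hj2 : j * j ≠ 0 := mul_ne_zero hj hj
  rw [ffji a v0 hj, ffji a v0 hj2, map_sub, U_vv D ha hv h0 (Or.inl (mul_zero j)), U_vv D ha hv h0 (g6 j), mul_zero,
    mul_inv]

theorem G0_ffj {j : F4} (hj : j ≠ 0) : D.G0 ha hv h0 (ff ρ c a v0 j 0) = ff ρ c a v0 (j * j) 0 := by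
  have hj2 : j * j ≠ 0 := mul_ne_zero hj hj
  have e1 : ∀ j : F4, j ≠ 0 → j⁻¹ * j⁻¹ + j = 0 ∧ (j * j)⁻¹ = j := by decide
  rw [ffj0 a v0 hj, ffj0 a v0 hj2, map_add, G0_vv D ha hv h0 (Or.inl (mul_zero j)), G0_vv D ha hv h0 (g6 j), mul_zero,
    zero_add, (e1 j hj).1, (e1 j hj).2, add_comm]

theorem G0_ffi {j : F4} (hj : j ≠ 0) : D.G0 ha hv h0 (ff ρ c a v0 j j⁻¹) = -ff ρ c a v0 (j * j) (j * j)⁻¹ := by
  have hj2 : j * j ≠ 0 := mul_ne_zero hj hj
  have e1 : ∀ j : F4, j ≠ 0 → j⁻¹ * j⁻¹ + j = 0 ∧ (j * j)⁻¹ = j := by decide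
  rw [ffji a v0 hj, ffji a v0 hj2, map_sub, G0_vv D ha hv h0 (Or.inl (mul_zero j)), G0_vv D ha hv h0 (g6 j), mul_zero,
    zero_add, (e1 j hj).1, (e1 j hj).2, neg_sub]

include D ha hv hb h0 in
theorem G0_b (v : V) : D.G0 ha hv h0 (ρ b v) = ρ b (D.G0 ha hv h0 v) := by
  obtain ⟨r, hr0, e0, e1, e2, e3⟩ := D.b_ff ha hv hb h0
  have : (D.G0 ha hv h0 : V →ₗ[F] V) ∘ₗ ρ b = ρ b ∘ₗ (D.G0 ha hv h0 : V →ₗ[F] V) := by
    apply D.ext_f ha hv h0
    intro i j hg
    change D.G0 ha hv h0 (ρ b (ff ρ c a v0 i j)) = ρ b (D.G0 ha hv h0 (ff ρ c a v0 i j))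
    by_cases hi : i = 0
    · subst hi
      by_cases hj : j = 0
      · subst hj
        rw [e0, G0_ff0, mul_zero, e0]
      · rw [e2 j hj, map_smul, G0_ffj D ha hv h0 hj, G0_ff0, e2 _ (mul_ne_zero hj hj)]
    · by_cases hj : j = 0
      · subst hj
        rw [e1 i hi, map_smul, G0_ff0, G0_ffj D ha hv h0 hi, e1 _ (mul_ne_zero hi hi)]
      · rw [g4 i j hi hg hj, e3 i hi, G0_ffi D ha hv h0 hi, map_neg, e3 _ (mul_ne_zero hi hi)]
        have := G0_ffi D ha hv h0 (inv_ne_zero hi)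
        rw [inv_inv] at this
        rw [this, mul_inv, inv_inv, mul_inv]
  exact LinearMap.congr_fun this v

include D ha hv hb h0 in
theorem U_b (v : V) : D.U ha hv h0 (ρ b v) = ρ b (D.U ha hv h0 v) := by
  obtain ⟨r, hr0, e0, e1, e2, e3⟩ := D.b_ff ha hv hb h0
  have : (D.U ha hv h0 : V →ₗ[F] V) ∘ₗ ρ b = ρ b ∘ₗ (D.U ha hv h0 : V →ₗ[F] V) := by
    apply D.ext_f ha hv h0
    intro i j hg
    change D.U ha hv h0 (ρ b (ff ρ c a v0 i j)) = ρ b (D.U ha hv h0 (ff ρ c a v0 i j))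
    by_cases hi : i = 0
    · subst hi
      by_cases hj : j = 0
      · subst hj
        rw [e0, U_ff0, mul_zero, e0]
      · rw [e2 j hj, map_smul, U_ffj D ha hv h0 hj, U_ff0, e2 _ (mul_ne_zero hj hj)]
    · by_cases hj : j = 0
      · subst hj
        rw [e1 i hi, map_smul, U_ff0, U_ffj D ha hv h0 hi, e1 _ (mul_ne_zero hi hi)]
      · rw [g4 i j hi hg hj, e3 i hi, U_ffi D ha hv h0 hi, e3 _ (mul_ne_zero hi hi)]
        have := U_ffi D ha hv h0 (inv_ne_zero hi)
        rw [inv_inv] at this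
        rw [this, mul_inv, inv_inv, mul_inv]
  exact LinearMap.congr_fun this v

end Dt

end Cfsg.Agent.H840.L34
end

-- part: H840/L34/Dec
section
/-!
# `SL_3(4)` : decomposition with respect to the stabiliser of a point
-/

set_option autoImplicit false
set_option linter.constructorNameAsVariable false

namespace Cfsg.Agent.H840.L34

open Cfsg.Agent.Lib.FieldFour

/-- the stabiliser of a point, by generators -/
def SB : Subgroup S := Subgroup.closure
  (Set.range x12 ∪ Set.range x13 ∪ Set.range x23 ∪ {hh, wb, sc})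

theorem x12_mem (s : F4) : x12 s ∈ SB := Subgroup.subset_closure (Or.inl (Or.inl (Or.inl ⟨s, rfl⟩)))
theorem x13_mem (s : F4) : x13 s ∈ SB := Subgroup.subset_closure (Or.inl (Or.inl (Or.inr ⟨s, rfl⟩)))
theorem x23_mem (s : F4) : x23 s ∈ SB := Subgroup.subset_closure (Or.inl (Or.inr ⟨s, rfl⟩))
theorem hh_mem : hh ∈ SB := Subgroup.subset_closure (Or.inr (Or.inl rfl))
theorem wb_mem : wb ∈ SB := Subgroup.subset_closure (Or.inr (Or.inr (Or.inl rfl)))
theorem sc_mem : sc ∈ SB := Subgroup.subset_closure (Or.inr (Or.inr (Or.inr rfl)))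

theorem diag_dec : ∀ x y z : F4, x * y * z = 1 → ∃ i j : Fin 3,
    !![x, 0, 0; 0, y, 0; 0, 0, z] = (hh ^ (i : ℕ) * sc ^ (j : ℕ) : S).1 := by decide +kernel

theorem mem_up (A : S) (h10 : A.1 1 0 = 0) (h20 : A.1 2 0 = 0) (h21 : A.1 2 1 = 0) : A ∈ SB := by
  have hdet : A.1 0 0 * A.1 1 1 * A.1 2 2 = 1 := by
    have := A.2
    rw [Matrix.det_fin_three, h10, h20, h21] at this
    linear_combination this
  obtain ⟨i, j, hij⟩ := diag_dec _ _ _ hdet
  have h11 : A.1 1 1 ≠ 0 := by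
    intro h; rw [h, mul_zero, zero_mul] at hdet; exact zero_ne_one hdet
  have h22 : A.1 2 2 ≠ 0 := by
    intro h; rw [h, mul_zero] at hdet; exact zero_ne_one hdet
  have h : A = x13 (A.1 0 2 / A.1 2 2) * x23 (A.1 1 2 / A.1 2 2) * x12 (A.1 0 1 / A.1 1 1) *
      (hh ^ (i : ℕ) * sc ^ (j : ℕ)) := by
    apply Subtype.ext
    rw [Matrix.SpecialLinearGroup.coe_mul (_ * _ * _), ← hij, Matrix.SpecialLinearGroup.coe_mul,
      Matrix.SpecialLinearGroup.coe_mul]
    change A.1 = !![1, 0, A.1 0 2 / A.1 2 2; 0, 1, 0; 0, 0, 1] * !![1, 0, 0; 0, 1, A.1 1 2 / A.1 2 2; 0, 0, 1] *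
      !![1, A.1 0 1 / A.1 1 1, 0; 0, 1, 0; 0, 0, 1] * _
    ext k l
    (revert k l; simp only [Matrix.mul_apply, Fin.sum_univ_three, h10, h20, h21, h11, h22, _root_.Fin.forall_fin_succ, Fin.isValue, _root_.Matrix.cons_mul, _root_.Nat.succ_eq_add_one, Nat.reduceAdd, _root_.Matrix.vecMul_cons, _root_.Matrix.head_cons, _root_.one_smul, _root_.Matrix.tail_cons, _root_.zero_smul, _root_.Matrix.smul_cons, _root_.smul_eq_mul, _root_.MulZeroClass.mul_zero, _root_.mul_one, _root_.Matrix.smul_empty, _root_.Matrix.empty_vecMul, _root_.add_zero, _root_.zero_add, _root_.Matrix.add_cons, _root_.Matrix.empty_add_empty, _root_.Matrix.empty_mul, _root_.Equiv.symm_apply_apply, _root_.Matrix.of_apply, _root_.Matrix.cons_val', _root_.Matrix.cons_val_fin_one, _root_.Matrix.cons_val_zero, _root_.Matrix.cons_val_one, _root_.Matrix.cons_val, _root_.Matrix.cons_val_succ, _root_.Fin.succ_zero_eq_one, _root_.Fin.succ_one_eq_two, _root_.IsEmpty.forall_iff, _root_.and_true,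 _root_.one_mul, _root_.isUnit_iff_ne_zero, _root_.ne_eq, _root_.not_false_eq_true, _root_.IsUnit.div_mul_cancel, _root_.and_self, _root_.MulZeroClass.zero_mul])
  rw [h]
  exact SB.mul_mem (SB.mul_mem (SB.mul_mem (x13_mem _) (x23_mem _)) (x12_mem _))
    (SB.mul_mem (SB.pow_mem hh_mem _) (SB.pow_mem sc_mem _))

theorem row (A B : S) (i j : Fin 3) : (A * B).1 i j = A.1 i 0 * B.1 0 j + A.1 i 1 * B.1 1 j + A.1 i 2 * B.1 2 j := by
  rw [Matrix.SpecialLinearGroup.coe_mul, Matrix.mul_apply, Fin.sum_univ_three]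

theorem dbl (x : F4) : x + x = 0 := by revert x; decide

theorem mem_of_col (A : S) (h10 : A.1 1 0 = 0) (h20 : A.1 2 0 = 0) : A ∈ SB := by
  by_cases h21 : A.1 2 1 = 0
  · exact mem_up A h10 h20 h21
  · have h1 : (wb * (x23 (A.1 1 1 / A.1 2 1) * A)) ∈ SB := by
      apply mem_up
      · rw [row, row, row, row]
        simp only [wb, x23, h10, h20, _root_.Cfsg.Agent.H840.L34.wb, _root_.Fin.isValue, _root_.Matrix.of_apply, _root_.Matrix.cons_val', _root_.Matrix.cons_val_zero, _root_.Matrix.cons_val_fin_one, _root_.Matrix.cons_val_one, _root_.Cfsg.Agent.H840.L34.x23, _root_.one_mul, _root_.MulZeroClass.mul_zero, _root_.add_zero, _root_.Matrix.cons_val, _root_.MulZeroClass.zero_mul]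
      · rw [row, row, row, row]
        simp only [wb, x23, h10, h20, _root_.Cfsg.Agent.H840.L34.wb, _root_.Fin.isValue, _root_.Matrix.of_apply, _root_.Matrix.cons_val', _root_.Matrix.cons_val_zero, _root_.Matrix.cons_val_fin_one, _root_.Matrix.cons_val, _root_.Matrix.cons_val_one, _root_.Cfsg.Agent.H840.L34.x23, _root_.one_mul, _root_.MulZeroClass.mul_zero, _root_.add_zero, _root_.MulZeroClass.zero_mul]
      · rw [row, row, row, row]
        simp only [wb, x23, h21, dbl, _root_.Cfsg.Agent.H840.L34.wb, _root_.Fin.isValue, _root_.Matrix.of_apply, _root_.Matrix.cons_val', _root_.Matrix.cons_val_zero, _root_.Matrix.cons_val_fin_one, _root_.Matrix.cons_val, _root_.Matrix.cons_val_one, _root_.Cfsg.Agent.H840.L34.x23, _root_.one_mul, _root_.MulZeroClass.zero_mul, _root_.add_zero, _root_.zero_add, _root_.isUnit_iff_ne_zero, _root_.ne_eq, _root_.not_false_eq_true, _root_.IsUnit.div_mul_cancel, _root_.Cfsg.Agent.H840.L34.dbl, _root_.MulZeroClass.mul_zero]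
    have h2 := SB.mul_mem (SB.inv_mem wb_mem) h1
    rw [inv_mul_cancel_left] at h2
    have h3 := SB.mul_mem (SB.inv_mem (x23_mem (A.1 1 1 / A.1 2 1))) h2
    rwa [inv_mul_cancel_left] at h3

/-- the double coset decomposition -/
theorem dec (A : S) : A ∈ SB ∨ ∃ B ∈ SB, wa * (B * A) ∈ SB := by
  by_cases h20 : A.1 2 0 = 0
  · by_cases h10 : A.1 1 0 = 0
    · left; exact mem_of_col A h10 h20
    · right
      refine ⟨x12 (A.1 0 0 / A.1 1 0), x12_mem _, ?_⟩
      apply mem_of_col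
      · rw [row, row, row, row]
        simp only [wa, x12, h10, dbl, _root_.Cfsg.Agent.H840.L34.wa, _root_.Fin.isValue, _root_.Matrix.of_apply, _root_.Matrix.cons_val', _root_.Matrix.cons_val_zero, _root_.Matrix.cons_val_fin_one, _root_.Matrix.cons_val_one, _root_.Cfsg.Agent.H840.L34.x12, _root_.one_mul, _root_.isUnit_iff_ne_zero, _root_.ne_eq, _root_.not_false_eq_true, _root_.IsUnit.div_mul_cancel, _root_.Cfsg.Agent.H840.L34.dbl, _root_.Matrix.cons_val, _root_.MulZeroClass.zero_mul, _root_.add_zero, _root_.MulZeroClass.mul_zero, _root_.zero_add]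
      · rw [row, row, row, row]
        simp only [wa, x12, h20, _root_.Cfsg.Agent.H840.L34.wa, _root_.Fin.isValue, _root_.Matrix.of_apply, _root_.Matrix.cons_val', _root_.Matrix.cons_val_zero, _root_.Matrix.cons_val_fin_one, _root_.Matrix.cons_val, _root_.Matrix.cons_val_one, _root_.Cfsg.Agent.H840.L34.x12, _root_.one_mul, _root_.MulZeroClass.mul_zero, _root_.add_zero, _root_.MulZeroClass.zero_mul, _root_.zero_add]
  · right
    refine ⟨wb * (x23 (A.1 1 0 / A.1 2 0) * x13 (A.1 0 0 / A.1 2 0)),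
      SB.mul_mem wb_mem (SB.mul_mem (x23_mem _) (x13_mem _)), ?_⟩
    apply mem_of_col
    · simp only [row]
      simp only [wa, wb, x23, x13, h20, dbl, _root_.Cfsg.Agent.H840.L34.wa, _root_.Fin.isValue, _root_.Matrix.of_apply, _root_.Matrix.cons_val', _root_.Matrix.cons_val_zero, _root_.Matrix.cons_val_fin_one, _root_.Matrix.cons_val_one, _root_.Cfsg.Agent.H840.L34.wb, _root_.Cfsg.Agent.H840.L34.x23, _root_.Cfsg.Agent.H840.L34.x13, _root_.mul_one, _root_.MulZeroClass.mul_zero, _root_.add_zero, _root_.Matrix.cons_val, _root_.one_mul, _root_.zero_add, _root_.MulZeroClass.zero_mul, _root_.isUnit_iff_ne_zero, _root_.ne_eq, _root_.not_false_eq_true, _root_.IsUnit.div_mul_cancel, _root_.Cfsg.Agent.H840.L34.dbl]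
    · simp only [row]
      simp only [wa, wb, x23, x13, h20, dbl, _root_.Cfsg.Agent.H840.L34.wa, _root_.Fin.isValue, _root_.Matrix.of_apply, _root_.Matrix.cons_val', _root_.Matrix.cons_val_zero, _root_.Matrix.cons_val_fin_one, _root_.Matrix.cons_val, _root_.Matrix.cons_val_one, _root_.Cfsg.Agent.H840.L34.wb, _root_.Cfsg.Agent.H840.L34.x23, _root_.Cfsg.Agent.H840.L34.x13, _root_.mul_one, _root_.MulZeroClass.mul_zero, _root_.add_zero, _root_.one_mul, _root_.zero_add, _root_.MulZeroClass.zero_mul, _root_.isUnit_iff_ne_zero, _root_.ne_eq, _root_.not_false_eq_true, _root_.IsUnit.div_mul_cancel, _root_.Cfsg.Agent.H840.L34.dbl]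

/-- generation -/
theorem gen_top (N : Subgroup S) (h1 : ∀ s, x12 s ∈ N) (h2 : ∀ s, x23 s ∈ N) (h3 : wa ∈ N) (h4 : wb ∈ N)
    (h5 : sc ∈ N) : N = ⊤ := by
  have h13 : ∀ s, x13 s ∈ N := by
    intro s
    have : x13 s = wb * x12 s * wb⁻¹ := by rw [wb_x12, mul_assoc, mul_inv_cancel, mul_one]
    rw [this]; exact N.mul_mem (N.mul_mem h4 (h1 s)) (N.inv_mem h4)
  have hhh : hh ∈ N := by
    have : hh = wa * (x12 F4.v * (wa * x12 F4.w * wa) * x12 F4.v) := by apply Subtype.ext; decide +kernel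
    rw [this]
    exact N.mul_mem h3 (N.mul_mem (N.mul_mem (h1 _) (N.mul_mem (N.mul_mem h3 (h1 _)) h3)) (h1 _))
  have hSB : SB ≤ N := by
    unfold SB
    rw [Subgroup.closure_le]
    rintro x (((⟨s, rfl⟩ | ⟨s, rfl⟩) | ⟨s, rfl⟩) | (rfl | rfl | rfl))
    · exact h1 s
    · exact h13 s
    · exact h2 s
    · exact hhh
    · exact h4
    · exact h5
  rw [eq_top_iff]
  intro A _
  rcases dec A with h | ⟨B, hB, h⟩
  · exact hSB h
  · have h6 := N.mul_mem (N.inv_mem h3) (hSB h)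
    rw [inv_mul_cancel_left] at h6
    have h7 := N.mul_mem (N.inv_mem (hSB hB)) h6
    rwa [inv_mul_cancel_left] at h7

end Cfsg.Agent.H840.L34
end

-- part: H840/L34/Abs
section
/-!
# The overgroup `2.M22` of `2.L3(4)` : group theory
-/

set_option autoImplicit false
set_option linter.constructorNameAsVariable false

namespace Cfsg.Agent.H840.L34

open Cfsg.Agent.Lib.FieldFour

/-- generation of the cover -/
theorem P_gen' {G : Type*} [Group G] {C : Cv G} (c : Conf C) {a b : G} (ha : C.π a = q wa) (hb : C.π b = q wb)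
    (N : Subgroup G) (h1 : ∀ s, c.X12 s ∈ N) (h2 : ∀ s, c.X23 s ∈ N)
    (h3 : a ∈ N) (h4 : b ∈ N) (hz : C.z ∈ N) : N = ⊤ := by
  have key : (N.map C.π).comap q = ⊤ := by
    apply gen_top
    · intro s; exact ⟨_, h1 s, c.f12.lift s⟩
    · intro s; exact ⟨_, h2 s, c.f23.lift s⟩
    · exact ⟨_, h3, ha⟩
    · exact ⟨_, h4, hb⟩
    · exact ⟨1, N.one_mem, (map_one _).trans q_sc.symm⟩
  rw [eq_top_iff]
  intro x _
  obtain ⟨A, hA⟩ := QuotientGroup.mk'_surjective (Subgroup.center S) (C.π x)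
  have h5 : A ∈ (N.map C.π).comap q := by rw [key]; trivial
  obtain ⟨y, hy, hyA⟩ := h5
  have h6 : C.π x = C.π y := by rw [hyA, ← hA]
  rcases C.eq_or h6 with h | h
  · rw [h]; exact hy
  · rw [h]; exact N.mul_mem hz hy

variable {Γ : Type*} [Group Γ] {P : Subgroup Γ} {C : Cv P}

/-- the relations between `P` and the two outer elements -/
structure Ov (c : Conf C) (a b : P) (g u : Γ) : Prop where
  aπ : C.π a = q wa
  bπ : C.π b = q wb
  zc : ∀ x : Γ, (C.z : Γ) * x = x * C.z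
  gg : g * g = 1
  g12 : ∀ t, g * (c.X12 t : Γ) = c.X12 (t * t) * g
  g13 : ∀ t, g * (c.X13 t : Γ) = c.X13 (t * t) * g
  g23 : ∀ t, g * (c.X23 t : Γ) = c.X23 (t * t) * c.X13 t * g
  gh : (c.h : Γ) * g * c.h = g
  ga : g * a * g = a * g * (a : Γ)
  gb : g * b = b * g
  uu : u * u = 1
  ug : u * g = g * u
  u12 : ∀ t, u * (c.X12 t : Γ) = c.X12 (t * t) * u
  u13 : ∀ t, u * (c.X13 t : Γ) = c.X13 (t * t) * u
  u23 : ∀ t, u * (c.X23 t : Γ) = c.X23 (t * t) * u
  uh : (c.h : Γ) * u * c.h = u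
  ua : u * a = a * u
  ub : u * b = b * u

namespace Ov

variable {c : Conf C} {a b : P} {g u : Γ} (O : Ov c a b g u)

include O in
theorem ginv : g⁻¹ = g := inv_eq_of_mul_eq_one_right O.gg

include O in
theorem uinv : u⁻¹ = u := inv_eq_of_mul_eq_one_right O.uu

include O in
/-- lifts of the elements of `SB` -/
theorem conj_mem {s : S} (hs : s ∈ SB) : ∀ x : P, C.π x = q s → g * x * g ∈ P := by
  have key : ∀ x y : P, C.π x = C.π y → g * x * g ∈ P → g * y * g ∈ P := by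
    intro x y hxy hx
    rcases C.eq_or hxy.symm with h | h
    · rw [h]; exact hx
    · rw [h]
      have : g * ((C.z * x : P) : Γ) * g = C.z * (g * x * g) := by
        rw [Subgroup.coe_mul]
        calc g * ((C.z : Γ) * x) * g = (g * C.z) * x * g := by group
          _ = (C.z * g) * x * g := by rw [← O.zc]
          _ = _ := by group
      rw [this]
      exact P.mul_mem C.z.2 hx
  unfold SB at hs
  induction hs using Subgroup.closure_induction with
  | mem s hs =>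
    rcases hs with ((⟨t, rfl⟩ | ⟨t, rfl⟩) | ⟨t, rfl⟩) | (rfl | rfl | rfl)
    · intro x hx
      apply key (c.X12 t) x ((c.f12.lift t).trans hx.symm)
      rw [O.g12, mul_assoc, O.gg, mul_one]
      exact (c.X12 (t * t)).2
    · intro x hx
      apply key (c.X13 t) x ((c.f13.lift t).trans hx.symm)
      rw [O.g13, mul_assoc, O.gg, mul_one]
      exact (c.X13 (t * t)).2
    · intro x hx
      apply key (c.X23 t) x ((c.f23.lift t).trans hx.symm)
      rw [O.g23, mul_assoc, O.gg, mul_one]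
      exact P.mul_mem (c.X23 (t * t)).2 (c.X13 t).2
    · intro x hx
      apply key c.h x (c.hπ.trans hx.symm)
      have h1 : g * c.h * g = (c.h : Γ)⁻¹ := by
        have h2 := O.gh
        have h3 : (c.h : Γ) * (g * c.h * g) = 1 := by
          calc (c.h : Γ) * (g * c.h * g) = (c.h * g * c.h) * g := by group
            _ = 1 := by rw [h2, O.gg]
        exact eq_inv_of_mul_eq_one_right h3
      rw [h1]
      exact P.inv_mem c.h.2
    · intro x hx
      apply key b x (O.bπ.trans hx.symm)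
      rw [O.gb, mul_assoc, O.gg, mul_one]
      exact b.2
    · intro x hx
      apply key 1 x ((map_one _).trans (q_sc.symm.trans hx.symm))
      rw [Subgroup.coe_one, mul_one, O.gg]
      exact P.one_mem
  | one =>
    intro x hx
    apply key 1 x ((map_one _).trans ((map_one q).symm.trans hx.symm))
    rw [Subgroup.coe_one, mul_one, O.gg]
    exact P.one_mem
  | mul s t _ _ hs ht =>
    intro x hx
    obtain ⟨y, hy⟩ := C.exists_lift s
    have h1 : C.π (y⁻¹ * x) = q t := by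
      rw [map_mul, map_inv, hy, hx, map_mul, inv_mul_cancel_left]
    have h2 := P.mul_mem (hs y hy) (ht _ h1)
    have h3 : g * y * g * (g * ((y⁻¹ * x : P) : Γ) * g) = g * x * g := by
      rw [Subgroup.coe_mul, Subgroup.coe_inv]
      calc g * (y : Γ) * g * (g * ((y : Γ)⁻¹ * x) * g) = g * y * (g * g) * ((y : Γ)⁻¹ * x) * g := by group
        _ = g * x * g := by rw [O.gg]; group
    rwa [h3] at h2
  | inv s _ hs =>
    intro x hx
    have h1 : C.π x⁻¹ = q s := by rw [map_inv, hx, ← map_inv, inv_inv]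
    have h2 := P.inv_mem (hs _ h1)
    have h3 : (g * ((x⁻¹ : P) : Γ) * g)⁻¹ = g * x * g := by
      rw [mul_inv_rev, mul_inv_rev, O.ginv, Subgroup.coe_inv, inv_inv]; group
    rwa [h3] at h2

/-- `P ∪ P g P` -/
def QS (P : Subgroup Γ) (g : Γ) : Set Γ := {x | x ∈ P ∨ ∃ p ∈ P, ∃ r ∈ P, x = p * g * r}

theorem left_mem {x y : Γ} (hx : x ∈ P) (hy : y ∈ QS P g) : x * y ∈ QS P g := by
  rcases hy with hy | ⟨p, hp, r, hr, rfl⟩
  · exact Or.inl (P.mul_mem hx hy)
  · exact Or.inr ⟨x * p, P.mul_mem hx hp, r, hr, by group⟩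

theorem right_mem {x y : Γ} (hx : x ∈ QS P g) (hy : y ∈ P) : x * y ∈ QS P g := by
  rcases hx with hx | ⟨p, hp, r, hr, rfl⟩
  · exact Or.inl (P.mul_mem hx hy)
  · exact Or.inr ⟨p, hp, r * y, P.mul_mem hr hy, by group⟩

include O in
/-- the key closure property -/
theorem key (x : P) : g * x * g ∈ QS P g := by
  obtain ⟨A, hA⟩ := QuotientGroup.mk'_surjective (Subgroup.center S) (C.π x)
  rcases dec A with h | ⟨B, hB, h⟩
  · exact Or.inl (O.conj_mem h x hA.symm)
  · obtain ⟨β, hβ⟩ := C.exists_lift B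
    have h1 : C.π (a * (β * x)) = q (wa * (B * A)) := by
      rw [map_mul, map_mul, O.aπ, hβ, ← hA, map_mul, map_mul]
    have h2 := O.conj_mem h _ h1
    have h3 := O.conj_mem (SB.inv_mem hB) β⁻¹ (by rw [map_inv, hβ, map_inv])
    have haa : (a : Γ) * a = 1 := by
      have := congrArg Subtype.val (Conf.sq_a O.aπ)
      exact this
    have h4 : g * (x : Γ) * g = (g * ((β⁻¹ : P) : Γ) * g) * ((g * a * g) * (g * ((a * (β * x) : P) : Γ) * g)) := by
      rw [Subgroup.coe_mul, Subgroup.coe_mul, Subgroup.coe_inv]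
      calc g * (x : Γ) * g = g * (β : Γ)⁻¹ * 1 * 1 * (β * x) * g := by group
        _ = g * (β : Γ)⁻¹ * (g * g) * ((a : Γ) * a) * (β * x) * g := by rw [O.gg, haa]
        _ = g * (β : Γ)⁻¹ * (g * g) * (a * 1 * a) * (β * x) * g := by rw [mul_one]
        _ = g * (β : Γ)⁻¹ * (g * g) * (a * (g * g) * a) * (β * x) * g := by rw [O.gg]
        _ = _ := by group
    rw [h4]
    apply left_mem h3
    rw [O.ga]
    exact right_mem (Or.inr ⟨a, a.2, a, a.2, rfl⟩) h2

include O in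
theorem g_mul {x : Γ} (hx : x ∈ QS P g) : g * x ∈ QS P g := by
  rcases hx with hx | ⟨p, hp, r, hr, rfl⟩
  · exact Or.inr ⟨1, P.one_mem, x, hx, by group⟩
  · have := right_mem (O.key ⟨p, hp⟩) hr
    have h2 : g * (p * g * r) = g * p * g * r := by group
    rw [h2]; exact this

/-- the group `2.M22` -/
def Q (O : Ov c a b g u) : Subgroup Γ where
  carrier := QS P g
  one_mem' := Or.inl P.one_mem
  mul_mem' := by
    intro x y hx hy
    rcases hx with hx | ⟨p, hp, r, hr, rfl⟩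
    · exact left_mem hx hy
    · rw [mul_assoc, mul_assoc]
      exact left_mem hp (O.g_mul (left_mem hr hy))
  inv_mem' := by
    intro x hx
    rcases hx with hx | ⟨p, hp, r, hr, rfl⟩
    · exact Or.inl (P.inv_mem hx)
    · refine Or.inr ⟨r⁻¹, P.inv_mem hr, p⁻¹, P.inv_mem hp, ?_⟩
      rw [mul_inv_rev, mul_inv_rev, O.ginv]; group

theorem mem_Q {x : Γ} : x ∈ O.Q ↔ x ∈ P ∨ ∃ p ∈ P, ∃ r ∈ P, x = p * g * r := Iff.rfl

theorem P_le : P ≤ O.Q := fun _ hx => Or.inl hx

theorem g_mem : g ∈ O.Q := Or.inr ⟨1, P.one_mem, 1, P.one_mem, by group⟩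

include O in
/-- `u` normalises `P` -/
theorem u_conj (x : P) : u * x * u ∈ P := by
  let N : Subgroup P :=
    { carrier := {x | u * x * u ∈ P}
      one_mem' := by
        change u * ((1 : P) : Γ) * u ∈ P
        rw [Subgroup.coe_one, mul_one, O.uu]; exact P.one_mem
      mul_mem' := by
        intro x y hx hy
        change u * ((x * y : P) : Γ) * u ∈ P
        have h3 : u * ((x * y : P) : Γ) * u = (u * x * u) * (u * y * u) := by
          rw [Subgroup.coe_mul]
          calc u * ((x : Γ) * y) * u = u * x * 1 * y * u := by group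
            _ = u * x * (u * u) * y * u := by rw [O.uu]
            _ = _ := by group
        rw [h3]; exact P.mul_mem hx hy
      inv_mem' := by
        intro x hx
        change u * ((x⁻¹ : P) : Γ) * u ∈ P
        have h3 : u * ((x⁻¹ : P) : Γ) * u = (u * x * u)⁻¹ := by
          rw [mul_inv_rev, mul_inv_rev, O.uinv, Subgroup.coe_inv]; group
        rw [h3]; exact P.inv_mem hx }
  have hN : N = ⊤ := by
    apply P_gen' c O.aπ O.bπ
    · intro s
      change u * (c.X12 s : Γ) * u ∈ P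
      rw [O.u12, mul_assoc, O.uu, mul_one]; exact (c.X12 _).2
    · intro s
      change u * (c.X23 s : Γ) * u ∈ P
      rw [O.u23, mul_assoc, O.uu, mul_one]; exact (c.X23 _).2
    · change u * (a : Γ) * u ∈ P
      rw [O.ua, mul_assoc, O.uu, mul_one]; exact a.2
    · change u * (b : Γ) * u ∈ P
      rw [O.ub, mul_assoc, O.uu, mul_one]; exact b.2
    · change u * (C.z : Γ) * u ∈ P
      rw [← O.zc, mul_assoc, O.uu, mul_one]; exact C.z.2
  have : x ∈ N := by rw [hN]; trivial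
  exact this

include O in
theorem u_conj_Q {x : Γ} (hx : x ∈ O.Q) : u * x * u ∈ O.Q := by
  rcases hx with hx | ⟨p, hp, r, hr, rfl⟩
  · exact Or.inl (O.u_conj ⟨x, hx⟩)
  · refine Or.inr ⟨u * p * u, O.u_conj ⟨p, hp⟩, u * r * u, O.u_conj ⟨r, hr⟩, ?_⟩
    calc u * (p * g * r) * u = u * p * 1 * g * 1 * r * u := by group
      _ = u * p * (u * u) * g * (u * u) * r * u := by rw [O.uu]
      _ = (u * p * u) * (u * g * u) * (u * r * u) := by group
      _ = (u * p * u) * g * (u * r * u) := by rw [O.ug, mul_assoc g, O.uu, mul_one]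

end Ov

end Cfsg.Agent.H840.L34
end

-- part: H840/L34/Nrm
section
/-!
# The normaliser of `2.L3(4)`
-/

set_option autoImplicit false
set_option linter.constructorNameAsVariable false

namespace Cfsg.Agent.H840.L34

open Cfsg.Agent.Lib.FieldFour
open Cfsg.Agent.ClassicalGeometry.AutPSL.Auto

theorem ringEquiv_cases (σ : F4 ≃+* F4) : (∀ x, σ x = x) ∨ (∀ x, σ x = x * x) := by
  have h0 : σ F4.o = F4.o := map_zero σ
  have h1 : σ F4.i = F4.i := map_one σ
  have hw : σ F4.w ≠ F4.o := by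
    intro h; rw [← h0] at h; exact absurd (σ.injective h) (by decide)
  have hw1 : σ F4.w ≠ F4.i := by
    intro h; rw [← h1] at h; exact absurd (σ.injective h) (by decide)
  have hvv : σ F4.v = σ F4.w * σ F4.w := by rw [← map_mul]; rfl
  have h2 : σ F4.w = F4.w ∨ σ F4.w = F4.v := by
    revert hw hw1
    generalize σ F4.w = y
    revert y; decide
  rcases h2 with h2 | h2
  · left
    intro x
    cases x
    · exact h0
    · exact h1
    · exact h2
    · rw [hvv, h2]; rfl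
  · right
    intro x
    cases x
    · exact h0
    · exact h1
    · exact h2
    · rw [hvv, h2]

theorem det_DD (m : F4) (hm : m ≠ 0) : (DD m : Matrix (Fin 3) (Fin 3) F4).det = m⁻¹ := by
  change (!![if m = 0 then 1 else m⁻¹, 0, 0; 0, 1, 0; 0, 0, 1] : Matrix (Fin 3) (Fin 3) F4).det = m⁻¹
  rw [Matrix.det_fin_three]
  revert m; decide

/-- the shape of an automorphism of `PSL_3(4)` -/
theorem aut_form (α : MulAut L) : ∃ (A : S) (m : F4) (σ : F4 ≃+* F4) (γ : MulAut S), m ≠ 0 ∧ (γ = 1 ∨ γ = itr) ∧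
    ∀ s, α (q s) = q A * q (cj (DD m) (fld σ (γ s))) * (q A)⁻¹ := by
  have : Fact (Nat.Prime 2) := ⟨Nat.prime_two⟩
  obtain ⟨δ, φ, γ, σ, ⟨g, hδ⟩, hφ, hγ, rfl⟩ := Cfsg.Agent.S2690.result (F := F4) (p := 2) (f := 2) F4.card (by norm_num)
    (n := 3) (by norm_num) (by norm_num) α
  set d := (g : Matrix (Fin 3) (Fin 3) F4).det with hd
  have hd0 : d ≠ 0 := by
    have := g.isUnit
    rw [Matrix.isUnit_iff_isUnit_det] at this
    exact this.ne_zero
  have hm : d⁻¹ ≠ 0 := inv_ne_zero hd0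
  have hdet : ((g : Matrix (Fin 3) (Fin 3) F4) * ((DD d⁻¹)⁻¹ : GL (Fin 3) F4)).det = 1 := by
    rw [Matrix.det_mul, ← hd]
    have h1 : (DD d⁻¹ : Matrix (Fin 3) (Fin 3) F4).det * (((DD d⁻¹)⁻¹ : GL (Fin 3) F4) : Matrix (Fin 3) (Fin 3) F4).det = 1 := by
      rw [← Matrix.det_mul, ← Units.val_mul, mul_inv_cancel, Units.val_one, Matrix.det_one]
    rw [det_DD _ hm, inv_inv] at h1
    exact h1
  let A : S := ⟨_, hdet⟩
  have hγ' : ∃ γ' : MulAut S, (γ' = 1 ∨ γ' = itr) ∧ ∀ s, γ (q s) = q (γ' s) := by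
    rcases hγ with rfl | hγ
    · exact ⟨1, Or.inl rfl, fun s => rfl⟩
    · exact ⟨itr, Or.inr rfl, fun s => hγ s (itr s) rfl⟩
  obtain ⟨γ', hγ1, hγ2⟩ := hγ'
  refine ⟨A, d⁻¹, σ, γ', hm, hγ1, fun s => ?_⟩
  have e1 : φ (q (γ' s)) = q (fld σ (γ' s)) := hφ _ _ rfl
  have e2 : ∀ t : S, δ (q t) = q (cj g t) := fun t => hδ t (cj g t) (coe_cj g t)
  change δ (φ (γ (q s))) = _
  rw [hγ2, e1, e2, ← map_inv, ← map_mul, ← map_mul]
  congr 1
  rw [eq_mul_inv_iff_mul_eq]
  apply Subtype.ext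
  rw [Matrix.SpecialLinearGroup.coe_mul, Matrix.SpecialLinearGroup.coe_mul, coe_cj, coe_cj]
  change (g : Matrix (Fin 3) (Fin 3) F4) * _ * ((g⁻¹ : GL (Fin 3) F4) : Matrix (Fin 3) (Fin 3) F4) *
    ((g : Matrix (Fin 3) (Fin 3) F4) * ((DD d⁻¹)⁻¹ : GL (Fin 3) F4)) = ((g : Matrix (Fin 3) (Fin 3) F4) *
    ((DD d⁻¹)⁻¹ : GL (Fin 3) F4)) * ((DD d⁻¹ : Matrix (Fin 3) (Fin 3) F4) * _ *
    (((DD d⁻¹)⁻¹ : GL (Fin 3) F4) : Matrix (Fin 3) (Fin 3) F4))
  have k1 : ((g⁻¹ : GL (Fin 3) F4) : Matrix (Fin 3) (Fin 3) F4) * (g : Matrix (Fin 3) (Fin 3) F4) = 1 := by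
    rw [← Units.val_mul, inv_mul_cancel, Units.val_one]
  have k2 : (((DD d⁻¹)⁻¹ : GL (Fin 3) F4) : Matrix (Fin 3) (Fin 3) F4) * (DD d⁻¹ : Matrix (Fin 3) (Fin 3) F4) = 1 := by
    rw [← Units.val_mul, inv_mul_cancel, Units.val_one]
  simp only [mul_assoc]
  rw [← mul_assoc ((g⁻¹ : GL (Fin 3) F4) : Matrix (Fin 3) (Fin 3) F4) (g : Matrix (Fin 3) (Fin 3) F4), k1, one_mul,
    ← mul_assoc (((DD d⁻¹)⁻¹ : GL (Fin 3) F4) : Matrix (Fin 3) (Fin 3) F4) (DD d⁻¹ : Matrix (Fin 3) (Fin 3) F4), k2,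
    one_mul]

/-! ### automorphisms of the cover -/

section kappa

variable {G : Type*} [Group G] {C : Cv G} (c : Conf C)

theorem e_inj (e1 : c.e 1 = 1) (ew : c.e F4.w = C.z) {m : F4} (hm : m ≠ 0) (h : c.e m = 1) : m = 1 := by
  have ev : c.e F4.v = C.z := by
    have := c.e_add 1 F4.w
    rw [e1, ew, one_mul] at this
    exact this
  cases m
  · exact absurd rfl hm
  · rfl
  · exact absurd (ew.symm.trans h) C.z1
  · exact absurd (ev.symm.trans h) C.z1

theorem eps_fix {κ : G ≃* G} (hz : κ C.z = C.z) (s t : F4) : κ (c.eps s t) = c.eps s t := by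
  rcases c.eps_or s t with h | h
  · rw [h, map_one]
  · rw [h, hz]

theorem kh {κ : G ≃* G} (hh' : C.π (κ c.h) = q hh) : κ c.h = c.h := by
  apply C.cube_unique (hh'.trans c.hπ.symm) _ c.h3
  rw [← map_mul, ← map_mul, c.h3, map_one]

theorem kfam {κ : G ≃* G} (hk : κ c.h = c.h) {m n : F4} {x x' : F4 → L} {X : F4 → G} (hX : C.Fam c.h m x X)
    (hl : ∀ t, C.π (κ (X (n * t))) = x' t) : C.Fam c.h m x' (fun t => κ (X (n * t))) := by
  refine ⟨hl, fun s t => by rw [mul_add, hX.add, map_mul], fun t => ?_⟩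
  rw [mul_left_comm, ← hX.conj, map_mul, map_mul, map_inv, hk]

theorem caseI (e1 : c.e 1 = 1) (ew : c.e F4.w = C.z) {a b : G} (ha : C.π a = q wa) (hb : C.π b = q wb)
    (ac : ∃ γ, a = γ * c.X23 1 * γ⁻¹) (bc : ∃ γ, b = γ * c.X23 1 * γ⁻¹)
    {κ : G ≃* G} (hz : κ C.z = C.z) {m : F4} (hm : m ≠ 0)
    (k12 : ∀ t, C.π (κ (c.X12 t)) = q (x12 (m⁻¹ * t))) (k23 : ∀ t, C.π (κ (c.X23 t)) = q (x23 t))
    (k13 : ∀ t, C.π (κ (c.X13 t)) = q (x13 (m⁻¹ * t))) (khh : C.π (κ c.h) = q hh)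
    (ka : m = 1 → C.π (κ a) = q wa) (kb : m = 1 → C.π (κ b) = q wb) (y : G) : κ y = y := by
  have hk := kh c khh
  have f12 : ∀ t, κ (c.X12 (m * t)) = c.X12 t := fun t =>
    congrFun (c.f12.unique (Or.inr rfl) (kfam c hk (n := m) c.f12 (fun t => by
      rw [k12, ← mul_assoc, inv_mul_cancel₀ hm, one_mul]))) t
  have f23 : ∀ t, κ (c.X23 (1 * t)) = c.X23 t := fun t =>
    congrFun (c.f23.unique (Or.inr rfl) (kfam c hk (n := 1) c.f23 (fun t => by rw [k23, one_mul]))) t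
  have f13 : ∀ t, κ (c.X13 (m * t)) = c.X13 t := fun t =>
    congrFun (c.f13.unique (Or.inl rfl) (kfam c hk (n := m) c.f13 (fun t => by
      rw [k13, ← mul_assoc, inv_mul_cancel₀ hm, one_mul]))) t
  have hm1 : m = 1 := by
    have h1 := eps_fix c hz (m * 1) 1
    unfold Conf.eps at h1
    have f1 := f23 1
    rw [one_mul] at f1
    rw [map_mul, map_mul, map_mul, map_mul, f12, f1, mul_assoc m 1 1, f13] at h1
    have h2 : c.eps 1 1 = c.eps (m * 1) 1 := by
      unfold Conf.eps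
      rw [mul_assoc m 1 1]; exact h1
    rw [c.eps_eq, c.eps_eq, mul_one, mul_one, mul_one, mul_one, e1] at h2
    have h3 := e_inj c e1 ew (mul_ne_zero hm hm) h2.symm
    revert h3 hm
    clear * -
    revert m; decide
  subst hm1
  have g12 : ∀ t, κ (c.X12 t) = c.X12 t := fun t => by have := f12 t; rwa [one_mul] at this
  have g23 : ∀ t, κ (c.X23 t) = c.X23 t := fun t => by have := f23 t; rwa [one_mul] at this
  -- `κ y = y` or `z y`
  let N' : Subgroup G :=
    { carrier := {y | C.π (κ y) = C.π y}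
      one_mem' := by
        change C.π (κ 1) = C.π 1
        rw [map_one]
      mul_mem' := by
        intro x y hx hy
        change C.π (κ (x * y)) = C.π (x * y)
        rw [map_mul, map_mul, map_mul, hx, hy]
      inv_mem' := by
        intro x hx
        change C.π (κ x⁻¹) = C.π x⁻¹
        rw [map_inv, map_inv, map_inv, hx] }
  have hN' : N' = ⊤ := by
    apply P_gen' c ha hb
    · intro s; change C.π (κ (c.X12 s)) = _; rw [g12]
    · intro s; change C.π (κ (c.X23 s)) = _; rw [g23]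
    · exact (ka rfl).trans ha.symm
    · exact (kb rfl).trans hb.symm
    · change C.π (κ C.z) = _; rw [hz]
  have hy' : ∀ y, κ y = y ∨ κ y = C.z * y := fun y => C.eq_or (by
    have : y ∈ N' := by rw [hN']; trivial
    exact this)
  have hconj : ∀ γ : G, κ (γ * c.X23 1 * γ⁻¹) = γ * c.X23 1 * γ⁻¹ := by
    intro γ
    rw [map_mul, map_mul, map_inv, g23]
    rcases hy' γ with h | h
    · rw [h]
    · rw [h, mul_inv_rev, C.zinv]
      calc C.z * γ * c.X23 1 * (γ⁻¹ * C.z) = C.z * (γ * c.X23 1 * γ⁻¹ * C.z) := by group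
        _ = C.z * (C.z * (γ * c.X23 1 * γ⁻¹)) := by rw [← C.zc]
        _ = _ := by rw [← mul_assoc, C.zz, one_mul]
  let N : Subgroup G :=
    { carrier := {y | κ y = y}
      one_mem' := map_one κ
      mul_mem' := by
        intro x y hx hy
        change κ (x * y) = x * y
        rw [map_mul, hx, hy]
      inv_mem' := by
        intro x hx
        change κ x⁻¹ = x⁻¹
        rw [map_inv, hx] }
  have hN : N = ⊤ := by
    apply P_gen' c ha hb
    · exact g12
    · exact g23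
    · obtain ⟨γ, rfl⟩ := ac; exact hconj γ
    · obtain ⟨γ, rfl⟩ := bc; exact hconj γ
    · exact hz
  have : y ∈ N := by rw [hN]; trivial
  exact this

theorem caseII {F : Type*} (e1 : c.e 1 = 1) (ew : c.e F4.w = C.z) {a b : G} (ha : C.π a = q wa) (hb : C.π b = q wb)
    (ac : ∃ γ, a = γ * c.X23 1 * γ⁻¹) (bc : ∃ γ, b = γ * c.X23 1 * γ⁻¹)
    {χ : G → F} (cl : ∀ x y, χ (x * y * x⁻¹) = χ y) (nz : χ (c.X23 1) ≠ χ (C.z * c.X23 1))
    (ab : χ (a * b * c.X23 1) ≠ χ (b * a * c.X12 1))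
    {κ : G ≃* G} (hχ : ∀ y, χ (κ y) = χ y) (hz : κ C.z = C.z) {m : F4} (hm : m ≠ 0)
    (k12 : ∀ t, C.π (κ (c.X12 t)) = q (x23 (m * t))) (k23 : ∀ t, C.π (κ (c.X23 t)) = q (x12 t))
    (k13 : ∀ t, C.π (κ (c.X13 t)) = q (x13 (m * t))) (khh : C.π (κ c.h) = q hh)
    (ka : m = 1 → C.π (κ a) = q wb) (kb : m = 1 → C.π (κ b) = q wa) : False := by
  have hk := kh c khh
  have f12 : ∀ t, κ (c.X12 (m⁻¹ * t)) = c.X23 t := fun t =>
    congrFun (c.f23.unique (Or.inr rfl) (kfam c hk (n := m⁻¹) c.f12 (fun t => by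
      rw [k12, ← mul_assoc, mul_inv_cancel₀ hm, one_mul]))) t
  have f23 : ∀ t, κ (c.X23 (1 * t)) = c.X12 t := fun t =>
    congrFun (c.f12.unique (Or.inr rfl) (kfam c hk (n := 1) c.f23 (fun t => by rw [k23, one_mul]))) t
  have f13 : ∀ t, κ (c.X13 (m⁻¹ * t)) = c.X13 t := fun t =>
    congrFun (c.f13.unique (Or.inl rfl) (kfam c hk (n := m⁻¹) c.f13 (fun t => by
      rw [k13, ← mul_assoc, mul_inv_cancel₀ hm, one_mul]))) t
  have hsymm : ∀ s t, c.X23 s * c.X12 t * c.X23 s * c.X12 t * c.X13 (t * s) = c.eps t s := by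
    intro s t
    have h1 : c.X23 s * c.X12 t * c.X23 s * c.X12 t = (c.X12 t * c.X23 s * c.X12 t * c.X23 s)⁻¹ := by
      simp only [mul_inv_rev, c.f12.inv, c.f23.inv, mul_assoc]
    have h2 : c.X12 t * c.X23 s * c.X12 t * c.X23 s = c.eps t s * c.X13 (t * s) := by
      unfold Conf.eps
      rw [mul_assoc (c.X12 t * c.X23 s * c.X12 t * c.X23 s), c.f13.sq, mul_one]
    have h3 : (c.eps t s)⁻¹ = c.eps t s := by
      rcases c.eps_or t s with h | h
      · rw [h, inv_one]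
      · rw [h, C.zinv]
    rw [h1, h2, mul_inv_rev, c.f13.inv, h3, ← c.eps_comm, mul_assoc, c.f13.sq, mul_one]
  have hm1 : m = 1 := by
    have h1 := eps_fix c hz (m⁻¹ * 1) 1
    unfold Conf.eps at h1
    have f1 := f23 1
    rw [one_mul] at f1
    rw [map_mul, map_mul, map_mul, map_mul, f12, f1, mul_assoc m⁻¹ 1 1, f13] at h1
    have h2 : c.eps 1 1 = c.eps (m⁻¹ * 1) 1 := by
      rw [← hsymm]
      unfold Conf.eps
      rw [mul_assoc m⁻¹ 1 1]; exact h1
    rw [c.eps_eq, c.eps_eq, mul_one, mul_one, mul_one, mul_one, e1] at h2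
    have h3 := e_inj c e1 ew (mul_ne_zero (inv_ne_zero hm) (inv_ne_zero hm)) h2.symm
    revert h3 hm
    clear * -
    revert m; decide
  subst hm1
  have g12 : ∀ t, κ (c.X12 t) = c.X23 t := fun t => by have := f12 t; rwa [inv_one, one_mul] at this
  have g23 : ∀ t, κ (c.X23 t) = c.X12 t := fun t => by have := f23 t; rwa [one_mul] at this
  have x12c : ∃ γ, c.X12 1 = γ * c.X23 1 * γ⁻¹ := by
    refine ⟨b * a, ?_⟩
    have h3 := c.conj_a_23 ha 1
    have h4 := c.conj_b_13 hb 1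
    rw [← h4, ← h3]; group
  have hχk : ∀ y, (∃ γ, y = γ * c.X23 1 * γ⁻¹) → χ (κ y) = χ (c.X23 1) := by
    rintro y ⟨γ, rfl⟩
    rw [hχ, cl]
  have hχz : ∀ y, (∃ γ, y = γ * c.X23 1 * γ⁻¹) → χ (C.z * y) = χ (C.z * c.X23 1) := by
    rintro y ⟨γ, rfl⟩
    rw [← C.zconj, cl]
  have e3 : κ a = b := by
    rcases C.eq_or ((ka rfl).trans hb.symm) with h | h
    · exact h
    · exfalso
      have h5 := hχk a ac
      rw [h, hχz b bc] at h5
      exact nz h5.symm
  have e4 : κ b = a := by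
    rcases C.eq_or ((kb rfl).trans ha.symm) with h | h
    · exact h
    · exfalso
      have h5 := hχk b bc
      rw [h, hχz a ac] at h5
      exact nz h5.symm
  apply ab
  rw [← hχ (a * b * c.X23 1), map_mul, map_mul, e3, e4, g23]

end kappa

end Cfsg.Agent.H840.L34
end

-- part: H840/L34/Nrm2
section
/-!
# The normaliser of `2.L3(4)` : conclusion
-/

set_option autoImplicit false
set_option linter.constructorNameAsVariable false

namespace Cfsg.Agent.H840.L34

open Cfsg.Agent.Lib.FieldFour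
open Cfsg.Agent.ClassicalGeometry.AutPSL.Auto

def x32 (s : F4) : S := ⟨!![1, 0, 0; 0, 1, 0; 0, s, 1], by rw [Matrix.det_fin_three]; revert s; decide⟩
def x31 (s : F4) : S := ⟨!![1, 0, 0; 0, 1, 0; s, 0, 1], by rw [Matrix.det_fin_three]; revert s; decide⟩
def hi : S := ⟨!![F4.v, 0, 0; 0, F4.w, 0; 0, 0, 1], by rw [Matrix.det_fin_three]; decide⟩
def w13 : S := ⟨!![0, 0, 1; 0, 1, 0; 1, 0, 0], by rw [Matrix.det_fin_three]; decide⟩

section facts

variable (σ : F4 ≃+* F4)

theorem fld_x12 (t : F4) : fld σ (x12 t) = x12 (σ t) := by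
  apply Subtype.ext; ext i j; rw [coe_fld_apply]
  (revert i j; simp only [x12, _root_.Fin.forall_fin_succ, _root_.Matrix.of_apply, _root_.Matrix.cons_val', _root_.Matrix.cons_val_fin_one, Fin.isValue, _root_.Matrix.cons_val_zero, _root_.Matrix.cons_val_succ, _root_.forall_const, _root_.map_one, _root_.map_zero, _root_.and_self, _root_.implies_true])
theorem fld_x23 (t : F4) : fld σ (x23 t) = x23 (σ t) := by
  apply Subtype.ext; ext i j; rw [coe_fld_apply]
  (revert i j; simp only [x23, _root_.Fin.forall_fin_succ, _root_.Matrix.of_apply, _root_.Matrix.cons_val', _root_.Matrix.cons_val_fin_one, Fin.isValue, _root_.Matrix.cons_val_zero, _root_.Matrix.cons_val_succ, _root_.forall_const, _root_.map_one, _root_.map_zero, _root_.and_self, _root_.implies_true])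
theorem fld_x13 (t : F4) : fld σ (x13 t) = x13 (σ t) := by
  apply Subtype.ext; ext i j; rw [coe_fld_apply]
  (revert i j; simp only [x13, _root_.Fin.forall_fin_succ, _root_.Matrix.of_apply, _root_.Matrix.cons_val', _root_.Matrix.cons_val_fin_one, Fin.isValue, _root_.Matrix.cons_val_zero, _root_.Matrix.cons_val_succ, _root_.forall_const, _root_.map_one, _root_.map_zero, _root_.and_self, _root_.implies_true])
theorem fld_x21 (t : F4) : fld σ (x21 t) = x21 (σ t) := by
  apply Subtype.ext; ext i j; rw [coe_fld_apply]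
  (revert i j; simp only [x21, _root_.Fin.forall_fin_succ, _root_.Matrix.of_apply, _root_.Matrix.cons_val', _root_.Matrix.cons_val_fin_one, Fin.isValue, _root_.Matrix.cons_val_zero, _root_.Matrix.cons_val_succ, _root_.forall_const, _root_.map_one, _root_.map_zero, _root_.and_self, _root_.implies_true])
theorem fld_x32 (t : F4) : fld σ (x32 t) = x32 (σ t) := by
  apply Subtype.ext; ext i j; rw [coe_fld_apply]
  (revert i j; simp only [x32, _root_.Fin.forall_fin_succ, _root_.Matrix.of_apply, _root_.Matrix.cons_val', _root_.Matrix.cons_val_fin_one, Fin.isValue, _root_.Matrix.cons_val_zero, _root_.Matrix.cons_val_succ, _root_.forall_const, _root_.map_one, _root_.map_zero, _root_.and_self, _root_.implies_true])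
theorem fld_x31 (t : F4) : fld σ (x31 t) = x31 (σ t) := by
  apply Subtype.ext; ext i j; rw [coe_fld_apply]
  (revert i j; simp only [x31, _root_.Fin.forall_fin_succ, _root_.Matrix.of_apply, _root_.Matrix.cons_val', _root_.Matrix.cons_val_fin_one, Fin.isValue, _root_.Matrix.cons_val_zero, _root_.Matrix.cons_val_succ, _root_.forall_const, _root_.map_one, _root_.map_zero, _root_.and_self, _root_.implies_true])
theorem fld_wa : fld σ wa = wa := by
  apply Subtype.ext; ext i j; rw [coe_fld_apply]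
  (revert i j; simp only [wa, _root_.Fin.forall_fin_succ, _root_.Matrix.of_apply, _root_.Matrix.cons_val', _root_.Matrix.cons_val_fin_one, Fin.isValue, _root_.Matrix.cons_val_zero, _root_.Matrix.cons_val_succ, _root_.forall_const, _root_.map_zero, _root_.map_one, _root_.and_self, _root_.implies_true])
theorem fld_wb : fld σ wb = wb := by
  apply Subtype.ext; ext i j; rw [coe_fld_apply]
  (revert i j; simp only [wb, _root_.Fin.forall_fin_succ, _root_.Matrix.of_apply, _root_.Matrix.cons_val', _root_.Matrix.cons_val_fin_one, Fin.isValue, _root_.Matrix.cons_val_zero, _root_.Matrix.cons_val_succ, _root_.forall_const, _root_.map_one, _root_.map_zero, _root_.and_self, _root_.implies_true])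
theorem fld_hh1 (h : ∀ x, σ x = x) : fld σ hh = hh := by
  apply Subtype.ext; ext i j; rw [coe_fld_apply, h]
theorem fld_hi1 (h : ∀ x, σ x = x) : fld σ hi = hi := by
  apply Subtype.ext; ext i j; rw [coe_fld_apply, h]
theorem fld_hh2 (h : ∀ x, σ x = x * x) : fld σ hh = hi := by
  apply Subtype.ext; ext i j; rw [coe_fld_apply, h]
  fin_cases i <;> fin_cases j <;> rfl
theorem fld_hi2 (h : ∀ x, σ x = x * x) : fld σ hi = hh := by
  apply Subtype.ext; ext i j; rw [coe_fld_apply, h]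
  fin_cases i <;> fin_cases j <;> rfl

theorem hi_eq : hi = hh⁻¹ := by
  rw [eq_inv_iff_mul_eq_one]; apply Subtype.ext; decide

theorem itr_x12 (t : F4) : itr (x12 t) = x21 t := by
  apply Subtype.ext; rw [coe_itr]; revert t; decide +kernel
theorem itr_x23 (t : F4) : itr (x23 t) = x32 t := by
  apply Subtype.ext; rw [coe_itr]; revert t; decide +kernel
theorem itr_x13 (t : F4) : itr (x13 t) = x31 t := by
  apply Subtype.ext; rw [coe_itr]; revert t; decide +kernel
theorem itr_hh : itr hh = hi := by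
  apply Subtype.ext; rw [coe_itr]; decide +kernel
theorem itr_wa : itr wa = wa := by
  apply Subtype.ext; rw [coe_itr]; decide +kernel
theorem itr_wb : itr wb = wb := by
  apply Subtype.ext; rw [coe_itr]; decide +kernel

theorem cj_form (m : F4) (s : S) : (cj (DD m) s).1 = !![if m = 0 then 1 else m⁻¹, 0, 0; 0, 1, 0; 0, 0, 1] * s.1 *
    !![if m = 0 then 1 else m, 0, 0; 0, 1, 0; 0, 0, 1] := rfl

theorem dj_x12 (m t : F4) (hm : m ≠ 0) : cj (DD m) (x12 t) = x12 (m⁻¹ * t) := by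
  apply Subtype.ext; rw [cj_form]; revert m t; decide +kernel
theorem dj_x13 (m t : F4) (hm : m ≠ 0) : cj (DD m) (x13 t) = x13 (m⁻¹ * t) := by
  apply Subtype.ext; rw [cj_form]; revert m t; decide +kernel
theorem dj_x23 (m t : F4) (hm : m ≠ 0) : cj (DD m) (x23 t) = x23 t := by
  apply Subtype.ext; rw [cj_form]; revert m t; decide +kernel
theorem dj_x21 (m t : F4) (hm : m ≠ 0) : cj (DD m) (x21 t) = x21 (m * t) := by
  apply Subtype.ext; rw [cj_form]; revert m t; decide +kernel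
theorem dj_x31 (m t : F4) (hm : m ≠ 0) : cj (DD m) (x31 t) = x31 (m * t) := by
  apply Subtype.ext; rw [cj_form]; revert m t; decide +kernel
theorem dj_x32 (m t : F4) (hm : m ≠ 0) : cj (DD m) (x32 t) = x32 t := by
  apply Subtype.ext; rw [cj_form]; revert m t; decide +kernel
theorem dj_hh (m : F4) (hm : m ≠ 0) : cj (DD m) hh = hh := by
  apply Subtype.ext; rw [cj_form]; revert m; decide +kernel
theorem dj_hi (m : F4) (hm : m ≠ 0) : cj (DD m) hi = hi := by
  apply Subtype.ext; rw [cj_form]; revert m; decide +kernel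
theorem dj_wb (m : F4) (hm : m ≠ 0) : cj (DD m) wb = wb := by
  apply Subtype.ext; rw [cj_form]; revert m; decide +kernel
theorem dj_wa : cj (DD 1) wa = wa := by
  apply Subtype.ext; rw [cj_form]; decide

theorem w13_x21 (t : F4) : w13 * x21 t = x23 t * w13 := by apply Subtype.ext; revert t; decide +kernel
theorem w13_x31 (t : F4) : w13 * x31 t = x13 t * w13 := by apply Subtype.ext; revert t; decide +kernel
theorem w13_x32 (t : F4) : w13 * x32 t = x12 t * w13 := by apply Subtype.ext; revert t; decide +kernel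
theorem w13_wa : w13 * wa = wb * w13 := by apply Subtype.ext; decide
theorem w13_wb : w13 * wb = wa * w13 := by apply Subtype.ext; decide
theorem w13_hi : w13 * hi = (sc * sc) * hh * w13 := by apply Subtype.ext; decide +kernel
end facts

/-! ### the induced automorphism of `PSL_3(4)` -/

theorem exists_alpha {G : Type*} [Group G] (C : Cv G) {κ : G ≃* G} (hz : κ C.z = C.z) :
    ∃ α : MulAut L, ∀ y, α (C.π y) = C.π (κ y) := by
  have hz' : κ.symm C.z = C.z := by rw [MulEquiv.symm_apply_eq, hz]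
  have well : ∀ (κ : G ≃* G), κ C.z = C.z → ∀ y y', C.π y = C.π y' → C.π (κ y) = C.π (κ y') := by
    intro κ hz y y' h
    rcases C.eq_or h with rfl | rfl
    · rfl
    · rw [map_mul, map_mul, hz, C.πz, one_mul]
  let lf : L → G := Function.surjInv C.surj
  have hl : ∀ l, C.π (lf l) = l := Function.surjInv_eq C.surj
  refine ⟨MulEquiv.mk' ⟨fun l => C.π (κ (lf l)), fun l => C.π (κ.symm (lf l)), ?_, ?_⟩ ?_, ?_⟩
  · intro l
    change C.π (κ.symm (lf (C.π (κ (lf l))))) = l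
    rw [well κ.symm hz' (lf (C.π (κ (lf l)))) (κ (lf l)) (hl _), κ.symm_apply_apply, hl]
  · intro l
    change C.π (κ (lf (C.π (κ.symm (lf l))))) = l
    rw [well κ hz (lf (C.π (κ.symm (lf l)))) (κ.symm (lf l)) (hl _), κ.apply_symm_apply, hl]
  · intro l l'
    change C.π (κ (lf (l * l'))) = C.π (κ (lf l)) * C.π (κ (lf l'))
    rw [← map_mul, ← map_mul]
    apply well κ hz
    rw [hl, map_mul, hl, hl]
  · intro y
    change C.π (κ (lf (C.π y))) = C.π (κ y)
    exact well κ hz _ _ (hl _)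

variable {Γ : Type*} [Group Γ] {P : Subgroup Γ} {C : Cv P}

/-- conjugation as an automorphism of `P` -/
def kap (P : Subgroup Γ) (x : Γ) (h1 : ∀ y ∈ P, x * y * x⁻¹ ∈ P) (h2 : ∀ y ∈ P, x⁻¹ * y * x ∈ P) : P ≃* P where
  toFun y := ⟨x * y * x⁻¹, h1 y y.2⟩
  invFun y := ⟨x⁻¹ * y * x, h2 y y.2⟩
  left_inv y := by apply Subtype.ext; change x⁻¹ * (x * y * x⁻¹) * x = y; group
  right_inv y := by apply Subtype.ext; change x * (x⁻¹ * y * x) * x⁻¹ = y; group
  map_mul' y y' := by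
    apply Subtype.ext
    change x * ((y * y' : P) : Γ) * x⁻¹ = (x * y * x⁻¹) * (x * y' * x⁻¹)
    rw [Subgroup.coe_mul]; group

theorem kap_apply (x : Γ) (h1 : ∀ y ∈ P, x * y * x⁻¹ ∈ P) (h2 : ∀ y ∈ P, x⁻¹ * y * x ∈ P) (y : P) :
    (kap P x h1 h2 y : Γ) = x * y * x⁻¹ := rfl

/-- the extra data used to exclude outer automorphisms -/
structure Ex {F : Type*} (c : Conf C) (a b : P) (χ : Γ → F) : Prop where
  e1 : c.e 1 = 1
  ew : c.e F4.w = C.z
  ac : ∃ γ : P, a = γ * c.X23 1 * γ⁻¹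
  bc : ∃ γ : P, b = γ * c.X23 1 * γ⁻¹
  cl : ∀ x y, χ (x * y * x⁻¹) = χ y
  nz : χ (c.X23 1) ≠ χ ((C.z * c.X23 1 : P) : Γ)
  ab : χ ((a * b * c.X23 1 : P) : Γ) ≠ χ ((b * a * c.X12 1 : P) : Γ)

/-- an element normalising `P` -/
structure Nm (P : Subgroup Γ) (x : Γ) : Prop where
  h1 : ∀ y ∈ P, x * y * x⁻¹ ∈ P
  h2 : ∀ y ∈ P, x⁻¹ * y * x ∈ P

theorem Nm.mul {x y : Γ} (hx : Nm P x) (hy : Nm P y) : Nm P (x * y) := by
  constructor
  · intro g hg
    have : x * y * g * (x * y)⁻¹ = x * (y * g * y⁻¹) * x⁻¹ := by group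
    rw [this]; exact hx.h1 _ (hy.h1 _ hg)
  · intro g hg
    have : (x * y)⁻¹ * g * (x * y) = y⁻¹ * (x⁻¹ * g * x) * y := by group
    rw [this]; exact hy.h2 _ (hx.h2 _ hg)

theorem Nm.of_mem {x : Γ} (hx : x ∈ P) : Nm P x :=
  ⟨fun _ hy => P.mul_mem (P.mul_mem hx hy) (P.inv_mem hx), fun _ hy => P.mul_mem (P.mul_mem (P.inv_mem hx) hy) hx⟩

theorem Ov.nm_u {c : Conf C} {a b : P} {g u : Γ} (O : Ov c a b g u) : Nm P u :=
  ⟨fun y hy => by rw [O.uinv]; exact O.u_conj ⟨y, hy⟩, fun y hy => by rw [O.uinv]; exact O.u_conj ⟨y, hy⟩⟩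

/-- **The normaliser of `P`.** -/
theorem norm_thm {F : Type*} {c : Conf C} {a b : P} {g u : Γ} (O : Ov c a b g u) {χ : Γ → F} (E : Ex c a b χ)
    {x : Γ} (hx : Nm P x) : ∃ p ∈ P, ∃ k, (k = 1 ∨ k = u) ∧ ∀ y ∈ P, (p * x * k) * y = y * (p * x * k) := by
  have hzκ : ∀ {x : Γ} (h : Nm P x), kap P x h.h1 h.h2 C.z = C.z := by
    intro x h
    apply Subtype.ext
    rw [kap_apply, ← O.zc, mul_assoc, mul_inv_cancel, mul_one]
  obtain ⟨α, hα⟩ := exists_alpha C (hzκ hx)
  obtain ⟨A, m, σ, γ, hm, hγ, hform⟩ := aut_form α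
  have fin : ∀ {w : Γ} (h : Nm P w), (∀ y, kap P w h.h1 h.h2 y = y) → ∀ y ∈ P, w * y = y * w := by
    intro w h hw y hy
    have := congrArg Subtype.val (hw ⟨y, hy⟩)
    rw [kap_apply] at this
    exact mul_inv_eq_iff_eq_mul.1 this
  rcases hγ with rfl | rfl
  · obtain ⟨p0, hp0⟩ := C.exists_lift A⁻¹
    have n1 : Nm P (p0 * x) := (Nm.of_mem p0.2).mul hx
    have k1 : ∀ (y : P) (s : S), C.π y = q s → C.π (kap P (p0 * x) n1.h1 n1.h2 y) = q (cj (DD m) (fld σ s)) := by
      intro y s hy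
      have e1 : kap P (p0 * x) n1.h1 n1.h2 y = p0 * kap P x hx.h1 hx.h2 y * p0⁻¹ := by
        apply Subtype.ext
        rw [kap_apply, Subgroup.coe_mul, Subgroup.coe_mul, kap_apply, Subgroup.coe_inv]; group
      rw [e1, map_mul, map_mul, map_inv, ← hα, hy, hform, hp0, map_inv]
      simp only [MulAut.one_apply]
      group
    rcases ringEquiv_cases σ with hσ | hσ
    · refine ⟨p0, p0.2, 1, Or.inl rfl, ?_⟩
      rw [mul_one]
      apply fin n1
      apply caseI c E.e1 E.ew O.aπ O.bπ E.ac E.bc (hzκ n1) hm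
      · intro t; rw [k1 _ _ (c.f12.lift t), fld_x12, hσ, dj_x12 m t hm]
      · intro t; rw [k1 _ _ (c.f23.lift t), fld_x23, hσ, dj_x23 m t hm]
      · intro t; rw [k1 _ _ (c.f13.lift t), fld_x13, hσ, dj_x13 m t hm]
      · rw [k1 _ _ c.hπ, fld_hh1 σ hσ, dj_hh m hm]
      · rintro rfl; rw [k1 _ _ O.aπ, fld_wa, dj_wa]
      · rintro rfl; rw [k1 _ _ O.bπ, fld_wb, dj_wb 1 one_ne_zero]
    · have n2 : Nm P (p0 * x * u) := n1.mul O.nm_u
      refine ⟨p0, p0.2, u, Or.inr rfl, ?_⟩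
      apply fin n2
      have k2 : ∀ (y : P) (y' : P) (s : S), u * (y : Γ) = y' * u → C.π y' = q s →
          C.π (kap P (p0 * x * u) n2.h1 n2.h2 y) = q (cj (DD m) (fld σ s)) := by
        intro y y' s hyy hy
        rw [← k1 y' s hy]
        congr 1
        apply Subtype.ext
        rw [kap_apply, kap_apply, mul_assoc (_ * _) u, hyy]
        group
      have hσ2 : ∀ t, σ (t * t) = t := by
        intro t; rw [hσ]; revert t; decide
      apply caseI c E.e1 E.ew O.aπ O.bπ E.ac E.bc (hzκ n2) hm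
      · intro t; rw [k2 _ _ _ (O.u12 t) (c.f12.lift _), fld_x12, hσ2, dj_x12 m t hm]
      · intro t; rw [k2 _ _ _ (O.u23 t) (c.f23.lift _), fld_x23, hσ2, dj_x23 m t hm]
      · intro t; rw [k2 _ _ _ (O.u13 t) (c.f13.lift _), fld_x13, hσ2, dj_x13 m t hm]
      · have huh : u * (c.h : Γ) = ((c.h⁻¹ : P) : Γ) * u := by
          rw [Subgroup.coe_inv, eq_inv_mul_iff_mul_eq, ← mul_assoc]; exact O.uh
        rw [k2 _ _ hi huh (by rw [map_inv, c.hπ, ← map_inv, ← hi_eq]), fld_hi2 σ hσ, dj_hh m hm]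
      · rintro rfl; rw [k2 _ _ _ O.ua O.aπ, fld_wa, dj_wa]
      · rintro rfl; rw [k2 _ _ _ O.ub O.bπ, fld_wb, dj_wb 1 one_ne_zero]
  · exfalso
    obtain ⟨p0, hp0⟩ := C.exists_lift (w13 * A⁻¹)
    have n1 : Nm P (p0 * x) := (Nm.of_mem p0.2).mul hx
    have k1 : ∀ (y : P) (s s' s'' : S), C.π y = q s → cj (DD m) (fld σ (itr s)) = s' → w13 * s' = s'' * w13 →
        C.π (kap P (p0 * x) n1.h1 n1.h2 y) = q s'' := by
      intro y s s' s'' hy hs hw
      have e1 : kap P (p0 * x) n1.h1 n1.h2 y = p0 * kap P x hx.h1 hx.h2 y * p0⁻¹ := by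
        apply Subtype.ext
        rw [kap_apply, Subgroup.coe_mul, Subgroup.coe_mul, kap_apply, Subgroup.coe_inv]; group
      rw [e1, map_mul, map_mul, map_inv, ← hα, hy, hform, hp0, hs, map_mul, map_inv]
      have e2 : q w13 * q s' = q s'' * q w13 := by rw [← map_mul, hw, map_mul]
      calc q w13 * (q A)⁻¹ * (q A * q s' * (q A)⁻¹) * (q w13 * (q A)⁻¹)⁻¹ = (q w13 * q s') * (q w13)⁻¹ := by group
        _ = q s'' := by rw [e2]; group
    rcases ringEquiv_cases σ with hσ | hσ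
    · refine caseII (F := F) (χ := fun y : P => χ y) c E.e1 E.ew O.aπ O.bπ E.ac E.bc
        (fun x y => E.cl x y) E.nz E.ab (κ := kap P (p0 * x) n1.h1 n1.h2) ?_ (hzκ n1) hm ?_ ?_ ?_ ?_ ?_ ?_
      · intro y; exact E.cl _ _
      · intro t
        exact k1 _ _ _ _ (c.f12.lift t) (by rw [itr_x12, fld_x21, hσ, dj_x21 m t hm]) (w13_x21 _)
      · intro t
        exact k1 _ _ _ _ (c.f23.lift t) (by rw [itr_x23, fld_x32, hσ, dj_x32 m t hm]) (w13_x32 _)
      · intro t
        exact k1 _ _ _ _ (c.f13.lift t) (by rw [itr_x13, fld_x31, hσ, dj_x31 m t hm]) (w13_x31 _)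
      · have h3 := k1 _ _ _ _ c.hπ (by rw [itr_hh, fld_hi1 σ hσ, dj_hi m hm]) w13_hi
        rw [h3, map_mul, map_mul, q_sc, one_mul, one_mul]
      · rintro rfl
        exact k1 _ _ _ _ O.aπ (by rw [itr_wa, fld_wa, dj_wa]) w13_wa
      · rintro rfl
        exact k1 _ _ _ _ O.bπ (by rw [itr_wb, fld_wb, dj_wb 1 one_ne_zero]) w13_wb
    · have n2 : Nm P (p0 * x * u) := n1.mul O.nm_u
      have k2 : ∀ (y : P) (y' : P) (s s' s'' : S), u * (y : Γ) = y' * u → C.π y' = q s →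
          cj (DD m) (fld σ (itr s)) = s' → w13 * s' = s'' * w13 →
          C.π (kap P (p0 * x * u) n2.h1 n2.h2 y) = q s'' := by
        intro y y' s s' s'' hyy hy hs hw
        rw [← k1 y' s s' s'' hy hs hw]
        congr 1
        apply Subtype.ext
        rw [kap_apply, kap_apply, mul_assoc (_ * _) u, hyy]
        group
      have hσ2 : ∀ t, σ (t * t) = t := by
        intro t; rw [hσ]; revert t; decide
      refine caseII (F := F) (χ := fun y : P => χ y) c E.e1 E.ew O.aπ O.bπ E.ac E.bc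
        (fun x y => E.cl x y) E.nz E.ab (κ := kap P (p0 * x * u) n2.h1 n2.h2) ?_ (hzκ n2) hm ?_ ?_ ?_ ?_ ?_ ?_
      · intro y; exact E.cl _ _
      · intro t
        exact k2 _ _ _ _ _ (O.u12 t) (c.f12.lift _) (by rw [itr_x12, fld_x21, hσ2, dj_x21 m t hm]) (w13_x21 _)
      · intro t
        exact k2 _ _ _ _ _ (O.u23 t) (c.f23.lift _) (by rw [itr_x23, fld_x32, hσ2, dj_x32 m t hm]) (w13_x32 _)
      · intro t
        exact k2 _ _ _ _ _ (O.u13 t) (c.f13.lift _) (by rw [itr_x13, fld_x31, hσ2, dj_x31 m t hm]) (w13_x31 _)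
      · have huh : u * (c.h : Γ) = ((c.h⁻¹ : P) : Γ) * u := by
          rw [Subgroup.coe_inv, eq_inv_mul_iff_mul_eq, ← mul_assoc]; exact O.uh
        have hih : itr hi = hh := by
          rw [hi_eq, map_inv, itr_hh, hi_eq, inv_inv]
        have h3 := k2 _ _ hi _ _ huh (by rw [map_inv, c.hπ, ← map_inv, ← hi_eq])
          (by rw [hih, fld_hh2 σ hσ, dj_hi m hm]) w13_hi
        rw [h3, map_mul, map_mul, q_sc, one_mul, one_mul]
      · rintro rfl
        exact k2 _ _ _ _ _ O.ua O.aπ (by rw [itr_wa, fld_wa, dj_wa]) w13_wa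
      · rintro rfl
        exact k2 _ _ _ _ _ O.ub O.bπ (by rw [itr_wb, fld_wb, dj_wb 1 one_ne_zero]) w13_wb

end Cfsg.Agent.H840.L34
end

-- part: H840/L34/Tr
section
/-!
# Ten-dimensional representations of double covers of `PSL_3(4)` : two traces
-/

set_option autoImplicit false
set_option linter.constructorNameAsVariable false
set_option linter.unusedSimpArgs false
set_option linter.unusedSectionVars false
set_option linter.unusedVariables false

namespace Cfsg.Agent.H840.L34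

open Cfsg.Agent.Lib.FieldFour

variable {G : Type*} [Group G] {C : Cv G}
variable {F : Type*} [Field F] {V : Type*} [AddCommGroup V] [Module F V]

/-- the matrix of `b` -/
def Mb (r : F) (x y : F4 × F4) : F :=
  match x.1, x.2, y.1, y.2 with
  | F4.o, _, F4.o, _ => 4⁻¹
  | F4.o, j, d, _ => r⁻¹ * ps F (d * d * j) * 4⁻¹
  | c, _, F4.o, b => r * ps F (c * c * b) * 2⁻¹
  | c, j, d, k => if d = c⁻¹ then (if (j = 0 ↔ k = 0) then 2⁻¹ else -2⁻¹) else 0

namespace Dt

variable {ρ : G →* Module.End F V} {c : Conf C}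
variable (D : Dt C c ρ) {a b : G} (ha : RH.IsA ρ C a) (hb : RH.IsB ρ C b)
variable {v0 : V} (hv : v0 ∈ W (RH.Ta ρ c) (0, 0)) (h0 : v0 ≠ 0)

include D ha hv h0 in
/-- the trace in the monomial basis -/
theorem trace_eq (f : V →ₗ[F] V) (N : Om → Om → F)
    (h : ∀ k : Om, f (vv ρ c a v0 k.1.1 k.1.2) = ∑ l : Om, N k l • vv ρ c a v0 l.1.1 l.1.2) :
    LinearMap.trace F V f = ∑ k, N k k := by
  rw [LinearMap.trace_eq_matrix_trace F (D.B ha hv h0), Matrix.trace]
  apply Finset.sum_congr rfl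
  intro k _
  rw [Matrix.diag_apply, LinearMap.toMatrix_apply, D.B_apply ha hv h0, h k]
  have e : ∀ l : Om, vv ρ c a v0 l.1.1 l.1.2 = D.B ha hv h0 l := fun l => (D.B_apply ha hv h0 l).symm
  simp only [e]
  rw [map_sum, Finsupp.finsetSum_apply, Finset.sum_eq_single k]
  · rw [map_smul, (D.B ha hv h0).repr_self, Finsupp.smul_apply, Finsupp.single_eq_same, smul_eq_mul, mul_one]
  · intro l _ hl
    rw [map_smul, (D.B ha hv h0).repr_self, Finsupp.smul_apply, Finsupp.single_eq_of_ne hl.symm, smul_zero]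
  · intro hk; exact absurd (Finset.mem_univ _) hk

include D in
theorem b_vv {r : F} (e0 : ρ b (ff ρ c a v0 0 0) = ff ρ c a v0 0 0)
    (e1 : ∀ j, j ≠ 0 → ρ b (ff ρ c a v0 j 0) = r • ff ρ c a v0 0 j)
    (e2 : ∀ j, j ≠ 0 → ρ b (ff ρ c a v0 0 j) = r⁻¹ • ff ρ c a v0 j 0)
    (e3 : ∀ j, j ≠ 0 → ρ b (ff ρ c a v0 j j⁻¹) = ff ρ c a v0 j⁻¹ j) (k : Om) :
    ρ b (vv ρ c a v0 k.1.1 k.1.2) = ∑ l : Om, Mb r k.1 l.1 • vv ρ c a v0 l.1.1 l.1.2 := by
  have h2 : (2 : F) ≠ 0 := D.R.two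
  have h4 : (4 : F) ≠ 0 := by
    have : (4 : F) = 2 * 2 := by norm_num
    rw [this]; exact mul_ne_zero h2 h2
  set f := ff ρ c a v0 with hf
  set v := vv ρ c a v0 with hvv
  have x00 : f 0 0 = v 0 0 + v 0 1 + v 0 F4.w + v 0 F4.v := ff00 a v0
  have x01 : f 0 1 = v 0 0 + v 0 1 - v 0 F4.w - v 0 F4.v := ff01 a v0
  have x0w : f 0 F4.w = v 0 0 - v 0 1 + v 0 F4.w - v 0 F4.v := ff0w a v0
  have x0v : f 0 F4.v = v 0 0 - v 0 1 - v 0 F4.w + v 0 F4.v := ff0v a v0
  have y10 : f 1 0 = v 1 0 + v 1 1 := ffj0 a v0 (by decide)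
  have yw0 : f F4.w 0 = v F4.w 0 + v F4.w F4.v := ffj0 a v0 (by decide)
  have yv0 : f F4.v 0 = v F4.v 0 + v F4.v F4.w := ffj0 a v0 (by decide)
  have y11 : f 1 1 = v 1 0 - v 1 1 := ffji a v0 (by decide)
  have ywv : f F4.w F4.v = v F4.w 0 - v F4.w F4.v := ffji a v0 (by decide)
  have yvw : f F4.v F4.w = v F4.v 0 - v F4.v F4.w := ffji a v0 (by decide)
  have e11 := e1 1 (by decide)
  have e1w := e1 F4.w (by decide)
  have e1v := e1 F4.v (by decide)
  have e21 := e2 1 (by decide)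
  have e2w := e2 F4.w (by decide)
  have e2v := e2 F4.v (by decide)
  have e31 : ρ b (f 1 1) = f 1 1 := e3 1 (by decide)
  have e32 : ρ b (f F4.w F4.v) = f F4.v F4.w := e3 F4.w (by decide)
  have e33 : ρ b (f F4.v F4.w) = f F4.w F4.v := e3 F4.v (by decide)
  have z00 : v 0 0 = (4 : F)⁻¹ • (f 0 0 + f 0 1 + f 0 F4.w + f 0 F4.v) := by
    rw [x00, x01, x0w, x0v, eq_inv_smul_iff₀ h4]; module
  have z01 : v 0 1 = (4 : F)⁻¹ • (f 0 0 + f 0 1 - f 0 F4.w - f 0 F4.v) := by
    rw [x00, x01, x0w, x0v, eq_inv_smul_iff₀ h4]; module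
  have z0w : v 0 F4.w = (4 : F)⁻¹ • (f 0 0 - f 0 1 + f 0 F4.w - f 0 F4.v) := by
    rw [x00, x01, x0w, x0v, eq_inv_smul_iff₀ h4]; module
  have z0v : v 0 F4.v = (4 : F)⁻¹ • (f 0 0 - f 0 1 - f 0 F4.w + f 0 F4.v) := by
    rw [x00, x01, x0w, x0v, eq_inv_smul_iff₀ h4]; module
  have z10 : v 1 0 = (2 : F)⁻¹ • (f 1 0 + f 1 1) := by rw [y10, y11, eq_inv_smul_iff₀ h2]; module
  have z11 : v 1 1 = (2 : F)⁻¹ • (f 1 0 - f 1 1) := by rw [y10, y11, eq_inv_smul_iff₀ h2]; module
  have zw0 : v F4.w 0 = (2 : F)⁻¹ • (f F4.w 0 + f F4.w F4.v) := by rw [yw0, ywv, eq_inv_smul_iff₀ h2]; module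
  have zwv : v F4.w F4.v = (2 : F)⁻¹ • (f F4.w 0 - f F4.w F4.v) := by rw [yw0, ywv, eq_inv_smul_iff₀ h2]; module
  have zv0 : v F4.v 0 = (2 : F)⁻¹ • (f F4.v 0 + f F4.v F4.w) := by rw [yv0, yvw, eq_inv_smul_iff₀ h2]; module
  have zvw : v F4.v F4.w = (2 : F)⁻¹ • (f F4.v 0 - f F4.v F4.w) := by rw [yv0, yvw, eq_inv_smul_iff₀ h2]; module
  rw [sum_Om]
  obtain ⟨⟨i, j⟩, hk⟩ := k
  cases i <;> cases j <;> try (exfalso; revert hk; decide)
  · change ρ b (v 0 0) = (4 : F)⁻¹ • v 0 0 + ((4 : F)⁻¹ • v 0 1 + ((4 : F)⁻¹ • v 0 F4.w + ((4 : F)⁻¹ • v 0 F4.v + ((r⁻¹ * 1 * 4⁻¹) • v 1 0 + ((r⁻¹ * 1 * 4⁻¹) • v 1 1 + ((r⁻¹ * 1 * 4⁻¹) • v F4.w 0 + ((r⁻¹ * 1 * 4⁻¹) • v F4.w F4.v + ((r⁻¹ * 1 * 4⁻¹) • v F4.v 0 + ((r⁻¹ * 1 * 4⁻¹) • v F4.v F4.w)))))))))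
    rw [congrArg (ρ b) z00]
    simp only [map_smul, map_add, map_sub]
    rw [e0, e21, e2w, e2v, x00, y10, yw0, yv0]
    module
  · change ρ b (v 0 1) = (4 : F)⁻¹ • v 0 0 + ((4 : F)⁻¹ • v 0 1 + ((4 : F)⁻¹ • v 0 F4.w + ((4 : F)⁻¹ • v 0 F4.v + ((r⁻¹ * 1 * 4⁻¹) • v 1 0 + ((r⁻¹ * 1 * 4⁻¹) • v 1 1 + ((r⁻¹ * -1 * 4⁻¹) • v F4.w 0 + ((r⁻¹ * -1 * 4⁻¹) • v F4.w F4.v + ((r⁻¹ * -1 * 4⁻¹) • v F4.v 0 + ((r⁻¹ * -1 * 4⁻¹) • v F4.v F4.w)))))))))
    rw [congrArg (ρ b) z01]
    simp only [map_smul, map_add, map_sub]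
    rw [e0, e21, e2w, e2v, x00, y10, yw0, yv0]
    module
  · change ρ b (v 0 F4.w) = (4 : F)⁻¹ • v 0 0 + ((4 : F)⁻¹ • v 0 1 + ((4 : F)⁻¹ • v 0 F4.w + ((4 : F)⁻¹ • v 0 F4.v + ((r⁻¹ * -1 * 4⁻¹) • v 1 0 + ((r⁻¹ * -1 * 4⁻¹) • v 1 1 + ((r⁻¹ * 1 * 4⁻¹) • v F4.w 0 + ((r⁻¹ * 1 * 4⁻¹) • v F4.w F4.v + ((r⁻¹ * -1 * 4⁻¹) • v F4.v 0 + ((r⁻¹ * -1 * 4⁻¹) • v F4.v F4.w)))))))))
    rw [congrArg (ρ b) z0w]
    simp only [map_smul, map_add, map_sub]
    rw [e0, e21, e2w, e2v, x00, y10, yw0, yv0]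
    module
  · change ρ b (v 0 F4.v) = (4 : F)⁻¹ • v 0 0 + ((4 : F)⁻¹ • v 0 1 + ((4 : F)⁻¹ • v 0 F4.w + ((4 : F)⁻¹ • v 0 F4.v + ((r⁻¹ * -1 * 4⁻¹) • v 1 0 + ((r⁻¹ * -1 * 4⁻¹) • v 1 1 + ((r⁻¹ * -1 * 4⁻¹) • v F4.w 0 + ((r⁻¹ * -1 * 4⁻¹) • v F4.w F4.v + ((r⁻¹ * 1 * 4⁻¹) • v F4.v 0 + ((r⁻¹ * 1 * 4⁻¹) • v F4.v F4.w)))))))))
    rw [congrArg (ρ b) z0v]
    simp only [map_smul, map_add, map_sub]
    rw [e0, e21, e2w, e2v, x00, y10, yw0, yv0]
    module
  · change ρ b (v 1 0) = (r * 1 * 2⁻¹) • v 0 0 + ((r * 1 * 2⁻¹) • v 0 1 + ((r * -1 * 2⁻¹) • v 0 F4.w + ((r * -1 * 2⁻¹) • v 0 F4.v + ((2 : F)⁻¹ • v 1 0 + ((-(2 : F)⁻¹) • v 1 1 + ((0 : F) • v F4.w 0 + ((0 : F) • v F4.w F4.v + ((0 : F) • v F4.v 0 + ((0 : F) • v F4.v F4.w)))))))))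
    rw [congrArg (ρ b) z10]
    simp only [map_smul, map_add, map_sub]
    rw [e11, e31, x01, y11]
    module
  · change ρ b (v 1 1) = (r * 1 * 2⁻¹) • v 0 0 + ((r * 1 * 2⁻¹) • v 0 1 + ((r * -1 * 2⁻¹) • v 0 F4.w + ((r * -1 * 2⁻¹) • v 0 F4.v + ((-(2 : F)⁻¹) • v 1 0 + ((2 : F)⁻¹ • v 1 1 + ((0 : F) • v F4.w 0 + ((0 : F) • v F4.w F4.v + ((0 : F) • v F4.v 0 + ((0 : F) • v F4.v F4.w)))))))))
    rw [congrArg (ρ b) z11]
    simp only [map_smul, map_add, map_sub]
    rw [e11, e31, x01, y11]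
    module
  · change ρ b (v F4.w 0) = (r * 1 * 2⁻¹) • v 0 0 + ((r * -1 * 2⁻¹) • v 0 1 + ((r * 1 * 2⁻¹) • v 0 F4.w + ((r * -1 * 2⁻¹) • v 0 F4.v + ((0 : F) • v 1 0 + ((0 : F) • v 1 1 + ((0 : F) • v F4.w 0 + ((0 : F) • v F4.w F4.v + ((2 : F)⁻¹ • v F4.v 0 + ((-(2 : F)⁻¹) • v F4.v F4.w)))))))))
    rw [congrArg (ρ b) zw0]
    simp only [map_smul, map_add, map_sub]
    rw [e1w, e32, x0w, yvw]
    module
  · change ρ b (v F4.w F4.v) = (r * 1 * 2⁻¹) • v 0 0 + ((r * -1 * 2⁻¹) • v 0 1 + ((r * 1 * 2⁻¹) • v 0 F4.w + ((r * -1 * 2⁻¹) • v 0 F4.v + ((0 : F) • v 1 0 + ((0 : F) • v 1 1 + ((0 : F) • v F4.w 0 + ((0 : F) • v F4.w F4.v + ((-(2 : F)⁻¹) • v F4.v 0 + ((2 : F)⁻¹ • v F4.v F4.w)))))))))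
    rw [congrArg (ρ b) zwv]
    simp only [map_smul, map_add, map_sub]
    rw [e1w, e32, x0w, yvw]
    module
  · change ρ b (v F4.v 0) = (r * 1 * 2⁻¹) • v 0 0 + ((r * -1 * 2⁻¹) • v 0 1 + ((r * -1 * 2⁻¹) • v 0 F4.w + ((r * 1 * 2⁻¹) • v 0 F4.v + ((0 : F) • v 1 0 + ((0 : F) • v 1 1 + ((2 : F)⁻¹ • v F4.w 0 + ((-(2 : F)⁻¹) • v F4.w F4.v + ((0 : F) • v F4.v 0 + ((0 : F) • v F4.v F4.w)))))))))
    rw [congrArg (ρ b) zv0]
    simp only [map_smul, map_add, map_sub]
    rw [e1v, e33, x0v, ywv]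
    module
  · change ρ b (v F4.v F4.w) = (r * 1 * 2⁻¹) • v 0 0 + ((r * -1 * 2⁻¹) • v 0 1 + ((r * -1 * 2⁻¹) • v 0 F4.w + ((r * 1 * 2⁻¹) • v 0 F4.v + ((0 : F) • v 1 0 + ((0 : F) • v 1 1 + ((-(2 : F)⁻¹) • v F4.w 0 + ((2 : F)⁻¹ • v F4.w F4.v + ((0 : F) • v F4.v 0 + ((0 : F) • v F4.v F4.w)))))))))
    rw [congrArg (ρ b) zvw]
    simp only [map_smul, map_add, map_sub]
    rw [e1v, e33, x0v, ywv]
    module

/-- swapping the coordinates -/
def sw (k : Om) : Om := ⟨(k.1.2, k.1.1), by rw [mul_comm]; exact k.2⟩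

theorem sw_sw (k : Om) : sw (sw k) = k := rfl

/-- the permutation of the weights given by `a X12(1)` -/
def s12 (k : Om) : Om := ⟨(k.1.2 + k.1.1 + 1, k.1.1), by revert k; decide⟩

include D ha hv hb h0 in
theorem trace_1 {r : F} (hr0 : r ≠ 0) (hr : 2 * r * r + r + 1 = 0) (e0 : ρ b (ff ρ c a v0 0 0) = ff ρ c a v0 0 0)
    (e1 : ∀ j, j ≠ 0 → ρ b (ff ρ c a v0 j 0) = r • ff ρ c a v0 0 j)
    (e2 : ∀ j, j ≠ 0 → ρ b (ff ρ c a v0 0 j) = r⁻¹ • ff ρ c a v0 j 0)
    (e3 : ∀ j, j ≠ 0 → ρ b (ff ρ c a v0 j j⁻¹) = ff ρ c a v0 j⁻¹ j) :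
    LinearMap.trace F V (ρ (a * b * c.X23 1)) = 2 * r := by
  have h2 : (2 : F) ≠ 0 := D.R.two
  have h4 : (4 : F) ≠ 0 := by
    have : (4 : F) = 2 * 2 := by norm_num
    rw [this]; exact mul_ne_zero h2 h2
  have key := D.trace_eq ha hv h0 (ρ (a * b * c.X23 1)) (fun k l => ps F k.1.2 * Mb r k.1 (sw l).1) (by
    intro k
    rw [RH.mul_apply, RH.mul_apply, ((RH.mem_a c).1 (D.mem_vv ha hv k.2)).2, mul_one, map_smul, D.b_vv e0 e1 e2 e3,
      map_smul, map_sum, Finset.smul_sum]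
    have hb : Function.Bijective sw := ⟨fun x y h => by rw [← sw_sw x, h, sw_sw], fun x => ⟨sw x, sw_sw x⟩⟩
    rw [← hb.sum_comp]
    refine Finset.sum_congr rfl fun l _ => ?_
    rw [map_smul, smul_smul, D.a_vv ha hv (sw l).2]
    rfl)
  rw [key, sum_Om]
  have hri : r⁻¹ = -(2 * r + 1) := inv_eq_of_mul_eq_one_right (by linear_combination -hr)
  change (1 : F) * 4⁻¹ + (1 * (r⁻¹ * 1 * 4⁻¹) + (-1 * (r⁻¹ * 1 * 4⁻¹) + (-1 * (r⁻¹ * 1 * 4⁻¹) + (1 * (r * 1 * 2⁻¹) +
    (1 * 2⁻¹ + (1 * (r * 1 * 2⁻¹) + (-1 * 2⁻¹ + (1 * (r * 1 * 2⁻¹) + -1 * 2⁻¹)))))))) = 2 * r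
  rw [hri]
  field_simp
  ring_nf

include D ha hv hb h0 in
theorem trace_2 {r : F} (hr0 : r ≠ 0) (hr : 2 * r * r + r + 1 = 0) (e0 : ρ b (ff ρ c a v0 0 0) = ff ρ c a v0 0 0)
    (e1 : ∀ j, j ≠ 0 → ρ b (ff ρ c a v0 j 0) = r • ff ρ c a v0 0 j)
    (e2 : ∀ j, j ≠ 0 → ρ b (ff ρ c a v0 0 j) = r⁻¹ • ff ρ c a v0 j 0)
    (e3 : ∀ j, j ≠ 0 → ρ b (ff ρ c a v0 j j⁻¹) = ff ρ c a v0 j⁻¹ j) :
    LinearMap.trace F V (ρ (b * a * c.X12 1)) = -(2 * r) - 1 := by
  have h2 : (2 : F) ≠ 0 := D.R.two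
  have h4 : (4 : F) ≠ 0 := by
    have : (4 : F) = 2 * 2 := by norm_num
    rw [this]; exact mul_ne_zero h2 h2
  have key := D.trace_eq ha hv h0 (ρ (b * a * c.X12 1)) (fun k l => Mb r (s12 k).1 l.1) (by
    intro k
    rw [RH.mul_apply, RH.mul_apply, D.x_vv ha hv 1 k.2, D.a_vv ha hv (gx _ _ 1 k.2)]
    have h := D.b_vv e0 e1 e2 e3 (s12 k)
    rw [← h]
    congr 2
    change k.1.2 + k.1.1 * 1 + 1 * 1 = k.1.2 + k.1.1 + 1
    rw [mul_one, mul_one])
  rw [key, sum_Om]
  have hri : r⁻¹ = -(2 * r + 1) := inv_eq_of_mul_eq_one_right (by linear_combination -hr)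
  change (r * 1 * 2⁻¹) + (4⁻¹ + ((r * -1 * 2⁻¹) + ((r * -1 * 2⁻¹) + ((r⁻¹ * 1 * 4⁻¹) +
    (2⁻¹ + (-2⁻¹ + ((r⁻¹ * 1 * 4⁻¹) + (-2⁻¹ + (r⁻¹ * 1 * 4⁻¹))))))))) = -(2 * r) - 1
  rw [hri]
  field_simp
  ring_nf

include D ha hv hb h0 in
theorem trace_ne (h7 : (7 : F) ≠ 0) : LinearMap.trace F V (ρ (a * b * c.X23 1)) ≠ LinearMap.trace F V (ρ (b * a * c.X12 1)) := by
  obtain ⟨r, hr0, e0, e1, e2, e3⟩ := D.b_ff ha hv hb h0
  have hr := D.eq_r ha hb hv h0 hr0 e0 e1 e2 e3
  rw [D.trace_1 ha hb hv h0 hr0 hr e0 e1 e2 e3, D.trace_2 ha hb hv h0 hr0 hr e0 e1 e2 e3]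
  intro h
  apply h7
  have h1 : 4 * r + 1 = 0 := by linear_combination h
  linear_combination 8 * hr - (4 * r + 1) * h1

end Dt

end Cfsg.Agent.H840.L34
end

-- part: H840/L34/Inst
section
/-!
# Ten-dimensional representations of double covers of `PSL_3(4)` : matrices
-/

set_option autoImplicit false
set_option linter.constructorNameAsVariable false
set_option linter.unusedSectionVars false

namespace Cfsg.Agent.H840.L34

open Cfsg.Agent.Lib.FieldFour Cfsg Cfsg.Geo
open scoped Matrix MatrixGroups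

universe u

variable {ι : Type} [Fintype ι] [DecidableEq ι] {F : Type u} [Field F] {P : Subgroup (GL ι F)}

/-- the natural representation -/
noncomputable def rp (P : Subgroup (GL ι F)) : P →* Module.End F (ι → F) :=
  ((Matrix.toLinAlgEquiv' (R := F) (n := ι)).toAlgHom : Matrix ι ι F →* Module.End F (ι → F)).comp
    ((Units.coeHom _).comp P.subtype)

theorem rp_apply (p : P) (v : ι → F) : rp P p v = ((p : GL ι F) : Matrix ι ι F) *ᵥ v := rfl

theorem ext_vec {x y : GL ι F} (h : ∀ v, (x : Matrix ι ι F) *ᵥ v = (y : Matrix ι ι F) *ᵥ v) : x = y := by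
  apply Units.ext
  exact Matrix.ext_of_mulVec_single fun i => h _

theorem mul_vec (x y : GL ι F) (v : ι → F) : ((x * y : GL ι F) : Matrix ι ι F) *ᵥ v =
    (x : Matrix ι ι F) *ᵥ ((y : Matrix ι ι F) *ᵥ v) := by
  rw [Units.val_mul, Matrix.mulVec_mulVec]

/-- the matrix of a linear automorphism -/
noncomputable def mk (E : (ι → F) ≃ₗ[F] (ι → F)) : GL ι F :=
  ⟨LinearMap.toMatrix' (E : (ι → F) →ₗ[F] (ι → F)), LinearMap.toMatrix' (E.symm : (ι → F) →ₗ[F] (ι → F)),
    by rw [← LinearMap.toMatrix'_mul]; simp [Module.End.mul_eq_comp], by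
      rw [← LinearMap.toMatrix'_mul]; simp [Module.End.mul_eq_comp]⟩

theorem mk_vec (E : (ι → F) ≃ₗ[F] (ι → F)) (v : ι → F) : (mk E : Matrix ι ι F) *ᵥ v = E v := by
  have := LinearMap.toMatrix'_mulVec (E : (ι → F) →ₗ[F] (ι → F)) v
  exact this

theorem tr_rp (p : P) : LinearMap.trace F (ι → F) (rp P p) = H915.LD.tr (p : GL ι F) := by
  change LinearMap.trace F (ι → F) (Matrix.toLin' ((p : GL ι F) : Matrix ι ι F)) = _
  rw [LinearMap.trace_eq_matrix_trace _ (Pi.basisFun _ _), LinearMap.toMatrix_eq_toMatrix', LinearMap.toMatrix'_toLin']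
  rfl

theorem rh (C : Cv P) (hz : ((C.z : GL ι F) : Matrix ι ι F) = -1) (h2 : (2 : F) ≠ 0) (hn : Fintype.card ι = 10) :
    RH C (rp P) where
  z := by
    apply LinearMap.ext
    intro v
    rw [rp_apply, hz, Matrix.neg_mulVec, Matrix.one_mulVec]
    rfl
  two := h2
  dim := by rw [Module.finrank_fintype_fun_eq_card, hn]
  faith := by
    intro g hg
    apply Subtype.ext
    apply ext_vec
    intro v
    rw [← rp_apply, hg, Subgroup.coe_one, Units.val_one, Matrix.one_mulVec]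
    rfl

/-! ### forms -/

/-- a form linear in the first variable and semilinear in the second one -/
structure Sq (τ : F → F) (f : (ι → F) → (ι → F) → F) : Prop where
  add_left : ∀ x y v, f (x + y) v = f x v + f y v
  smul_left : ∀ (c : F) (x v : ι → F), f (c • x) v = c * f x v
  add_right : ∀ x y v, f v (x + y) = f v x + f v y
  smul_right : ∀ (c : F) (x v : ι → F), f v (c • x) = τ c * f v x

/-- `f` is fixed by `P` -/
def Fx (P : Subgroup (GL ι F)) (f : (ι → F) → (ι → F) → F) : Prop :=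
  ∀ p ∈ P, ∀ u v, f ((p : Matrix ι ι F) *ᵥ u) ((p : Matrix ι ι F) *ᵥ v) = f u v

namespace Sq

variable {τ : F → F} {f : (ι → F) → (ι → F) → F} (hf : Sq τ f)

include hf in
theorem zero_left (v : ι → F) : f 0 v = 0 := by
  have := hf.smul_left 0 0 v
  rwa [zero_smul, zero_mul] at this

include hf in
theorem zero_right (v : ι → F) : f v 0 = 0 := by
  have := hf.add_right 0 0 v
  rw [add_zero] at this
  exact left_eq_add.1 this

include hf in
theorem neg_right (v w : ι → F) : f v (-w) = -f v w := by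
  have := hf.add_right w (-w) v
  rw [add_neg_cancel, hf.zero_right] at this
  exact (neg_eq_of_add_eq_zero_right this.symm).symm

include hf in
theorem ps_right (t : F4) (v w : ι → F) : f v (ps F t • w) = ps F t * f v w := by
  cases t
  · rw [ps_o, one_smul, one_mul]
  · rw [ps_i, one_smul, one_mul]
  · rw [ps_w, neg_one_smul, neg_one_mul, hf.neg_right]
  · rw [ps_v, neg_one_smul, neg_one_mul, hf.neg_right]

include hf in
/-- a map preserving the form on a basis preserves the form -/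
theorem of_basis {κ : Type*} (B : Module.Basis κ F (ι → F)) (g : GL ι F)
    (h : ∀ k l, f ((g : Matrix ι ι F) *ᵥ B k) ((g : Matrix ι ι F) *ᵥ B l) = f (B k) (B l)) (x y : ι → F) :
    f ((g : Matrix ι ι F) *ᵥ x) ((g : Matrix ι ι F) *ᵥ y) = f x y := by
  have h1 : ∀ k y, f ((g : Matrix ι ι F) *ᵥ B k) ((g : Matrix ι ι F) *ᵥ y) = f (B k) y := by
    intro k y
    have hy : y ∈ Submodule.span F (Set.range B) := by rw [B.span_eq]; trivial
    induction hy using Submodule.span_induction with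
    | mem y hy => obtain ⟨l, rfl⟩ := hy; exact h k l
    | zero => rw [Matrix.mulVec_zero, hf.zero_right, hf.zero_right]
    | add x y _ _ hx hy => rw [Matrix.mulVec_add, hf.add_right, hf.add_right, hx, hy]
    | smul c x _ hx => rw [Matrix.mulVec_smul, hf.smul_right, hf.smul_right, hx]
  have hx : x ∈ Submodule.span F (Set.range B) := by rw [B.span_eq]; trivial
  induction hx using Submodule.span_induction with
  | mem x hx => obtain ⟨k, rfl⟩ := hx; exact h1 k y
  | zero => rw [Matrix.mulVec_zero, hf.zero_left, hf.zero_left]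
  | add x x' _ _ hx hx' => rw [Matrix.mulVec_add, hf.add_left, hf.add_left, hx, hx']
  | smul c x _ hx => rw [Matrix.mulVec_smul, hf.smul_left, hf.smul_left, hx]

end Sq

section inst

variable {C : Cv P} {c : Conf C} (D : Dt C c (rp P)) {a b : P} (ha : RH.IsA (rp P) C a) (hb : RH.IsB (rp P) C b)
variable {v0 : ι → F} (hv : v0 ∈ W (RH.Ta (rp P) c) (0, 0)) (h0 : v0 ≠ 0)

include D ha hb hv h0 in
theorem ov (hz : ((C.z : GL ι F) : Matrix ι ι F) = -1) : Ov c a b (mk (D.G0 ha hv h0)) (mk (D.U ha hv h0)) where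
  aπ := ha.π
  bπ := hb.π
  zc x := by
    apply Units.ext
    rw [Units.val_mul, Units.val_mul, hz, neg_mul, mul_neg, one_mul, mul_one]
  gg := by
    apply ext_vec; intro v
    rw [mul_vec, mk_vec, mk_vec, D.G0_G0, Units.val_one, Matrix.one_mulVec]
  g12 t := by
    apply ext_vec; intro v
    rw [mul_vec, mul_vec, mk_vec, mk_vec, ← rp_apply, ← rp_apply, D.G0_12]
  g13 t := by
    apply ext_vec; intro v
    rw [mul_vec, mul_vec, mk_vec, mk_vec, ← rp_apply, ← rp_apply, D.G0_13]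
  g23 t := by
    apply ext_vec; intro v
    rw [mul_vec, mul_vec, mul_vec, mk_vec, mk_vec, ← rp_apply, ← rp_apply, ← rp_apply, D.G0_23]
  gh := by
    apply ext_vec; intro v
    rw [mul_vec, mul_vec, mk_vec, mk_vec, ← rp_apply, ← rp_apply, D.G0_h]
  ga := by
    apply ext_vec; intro v
    rw [mul_vec, mul_vec, mul_vec, mul_vec, mk_vec, mk_vec, mk_vec, ← rp_apply, ← rp_apply, ← rp_apply, D.G0_a]
  gb := by
    apply ext_vec; intro v
    rw [mul_vec, mul_vec, mk_vec, mk_vec, ← rp_apply, ← rp_apply, D.G0_b ha hb hv h0]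
  uu := by
    apply ext_vec; intro v
    rw [mul_vec, mk_vec, mk_vec, D.U_U, Units.val_one, Matrix.one_mulVec]
  ug := by
    apply ext_vec; intro v
    rw [mul_vec, mul_vec, mk_vec, mk_vec, mk_vec, mk_vec, D.U_G0]
  u12 t := by
    apply ext_vec; intro v
    rw [mul_vec, mul_vec, mk_vec, mk_vec, ← rp_apply, ← rp_apply, D.U_12]
  u13 t := by
    apply ext_vec; intro v
    rw [mul_vec, mul_vec, mk_vec, mk_vec, ← rp_apply, ← rp_apply, D.U_13]
  u23 t := by
    apply ext_vec; intro v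
    rw [mul_vec, mul_vec, mk_vec, mk_vec, ← rp_apply, ← rp_apply, D.U_23]
  uh := by
    apply ext_vec; intro v
    rw [mul_vec, mul_vec, mk_vec, mk_vec, ← rp_apply, ← rp_apply, D.U_h]
  ua := by
    apply ext_vec; intro v
    rw [mul_vec, mul_vec, mk_vec, mk_vec, ← rp_apply, ← rp_apply, D.U_a]
  ub := by
    apply ext_vec; intro v
    rw [mul_vec, mul_vec, mk_vec, mk_vec, ← rp_apply, ← rp_apply, D.U_b ha hb hv h0]

/-- weight vectors are images of the first one -/
theorem vv_orbit (c : Conf C) (a : P) (v0 : ι → F) (i j : F4) : ∃ p : P, Dt.vv (rp P) c a v0 i j = rp P p v0 := by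
  by_cases hi : i = 0
  · subst hi
    exact ⟨_, Dt.vv_zero j⟩
  · refine ⟨c.X12 (if j = 0 then 0 else F4.w * i) * (a * c.X12 (i * i)), ?_⟩
    rw [Dt.vv_ne hi, RH.mul_apply, RH.mul_apply]
    rfl

theorem exists_ch : ∀ k l : F4 × F4, k ≠ l → ∃ x : F4 × F4,
    ((k.1 * x.1 = 0 ∨ k.1 * x.1 = 1) ↔ ¬ (l.1 * x.1 = 0 ∨ l.1 * x.1 = 1)) ∧ x.2 = 0 ∨
    ((k.2 * x.2 = 0 ∨ k.2 * x.2 = 1) ↔ ¬ (l.2 * x.2 = 0 ∨ l.2 * x.2 = 1)) ∧ x.1 = 0 := by decide +kernel

theorem ps_cases (t : F4) : (ps F t = 1 ∧ (t = 0 ∨ t = 1)) ∨ (ps F t = -1 ∧ ¬ (t = 0 ∨ t = 1)) := by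
  cases t
  · exact Or.inl ⟨rfl, by decide⟩
  · exact Or.inl ⟨rfl, by decide⟩
  · exact Or.inr ⟨rfl, by decide⟩
  · exact Or.inr ⟨rfl, by decide⟩

theorem ps_prod {s t : F4} (h : (s = 0 ∨ s = 1) ↔ ¬ (t = 0 ∨ t = 1)) : ps F s * ps F t = -1 := by
  rcases ps_cases (F := F) s with ⟨h1, h2⟩ | ⟨h1, h2⟩ <;> rcases ps_cases (F := F) t with ⟨h3, h4⟩ | ⟨h3, h4⟩
  · exact absurd h4 (h.1 h2)
  · rw [h1, h3, one_mul]
  · rw [h1, h3, mul_one]
  · exact absurd (h.2 h4) h2

variable {τ : F → F} {f : (ι → F) → (ι → F) → F} (hf : Sq τ f) (hP : Fx P f)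

include hf hP in
/-- weight vectors of different weights are orthogonal -/
theorem orth (c : Conf C) (h2 : (2 : F) ≠ 0) {k l : F4 × F4} (hkl : k ≠ l) {u v : ι → F} (hu : u ∈ W (RH.Ta (rp P) c) k)
    (hv : v ∈ W (RH.Ta (rp P) c) l) : f u v = 0 := by
  obtain ⟨i, j⟩ := k
  obtain ⟨i', j'⟩ := l
  rw [RH.mem_a] at hu hv
  have fin : f u v = -f u v → f u v = 0 := by
    intro h
    have h3 : (2 : F) * f u v = 0 := by linear_combination h
    exact (mul_eq_zero.1 h3).resolve_left h2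
  obtain ⟨⟨x, y⟩, hx | hx⟩ := exists_ch _ _ hkl
  · apply fin
    have h3 := hP _ (c.X13 x).2 u v
    rw [← rp_apply, ← rp_apply, hu.1, hv.1, hf.smul_left, hf.ps_right, ← mul_assoc, ps_prod hx.1] at h3
    linear_combination -h3
  · apply fin
    have h3 := hP _ (c.X23 y).2 u v
    rw [← rp_apply, ← rp_apply, hu.2, hv.2, hf.smul_left, hf.ps_right, ← mul_assoc, ps_prod hx.1] at h3
    linear_combination -h3

include D ha hv hf hP in
theorem g_form (x y : ι → F) : f ((mk (D.G0 ha hv h0) : Matrix ι ι F) *ᵥ x) ((mk (D.G0 ha hv h0) : Matrix ι ι F) *ᵥ y) =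
    f x y := by
  apply hf.of_basis (D.B ha hv h0)
  intro k l
  rw [mk_vec, mk_vec]
  have e : ∀ k, D.G0 ha hv h0 (D.B ha hv h0 k) = D.B ha hv h0 (σg k) := fun k => Module.Basis.equiv_apply _ _ _ _
  rw [e, e]
  have mem : ∀ k : Om, D.B ha hv h0 k ∈ W (RH.Ta (rp P) c) k.1 := by
    intro k
    rw [D.B_apply ha hv h0]
    exact D.mem_vv ha hv k.2
  have nrm : ∀ k : Om, f (D.B ha hv h0 k) (D.B ha hv h0 k) = f v0 v0 := by
    intro k
    rw [D.B_apply ha hv h0]
    obtain ⟨p, hp⟩ := vv_orbit c a v0 k.1.1 k.1.2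
    rw [hp, rp_apply]
    exact hP _ p.2 _ _
  by_cases hkl : k = l
  · subst hkl
    rw [nrm, nrm]
  · have h1 : k.1 ≠ l.1 := fun h => hkl (Subtype.ext h)
    have h2 : (σg k).1 ≠ (σg l).1 := fun h => hkl (σg.injective (Subtype.ext h))
    rw [orth hf hP c D.R.two h1 (mem k) (mem l), orth hf hP c D.R.two h2 (mem _) (mem _)]

end inst

/-- **The overgroup.** -/
theorem exists_ov (C : Cv P) (hz : ((C.z : GL ι F) : Matrix ι ι F) = -1) (h2 : (2 : F) ≠ 0) (h7 : (7 : F) ≠ 0)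
    (hn : Fintype.card ι = 10) :
    ∃ (α : MulAut L) (c : Conf (C.comp α)) (a b : P) (g u : GL ι F), Ov c a b g u ∧
      Ex c a b (H915.LD.tr : GL ι F → F) ∧
      ∀ (τ : F → F) (f : (ι → F) → (ι → F) → F), Sq τ f → Fx P f → ∀ x y,
        f ((g : Matrix ι ι F) *ᵥ x) ((g : Matrix ι ι F) *ᵥ y) = f x y := by
  obtain ⟨α, c, h1⟩ := exists_good C
  have D : Dt (C.comp α) c (rp P) := ⟨rh _ hz h2 hn, h1⟩
  obtain ⟨γ, hγ⟩ := c.exists_conj wa_g
  obtain ⟨δ, hδ⟩ := c.exists_conj wb_g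
  have ha : RH.IsA (rp P) (C.comp α) (γ * c.X23 1 * γ⁻¹) :=
    ⟨hγ, by rw [RH.trace_conj]; exact D.R.trace_23 c h1 one_ne_zero⟩
  have hb : RH.IsB (rp P) (C.comp α) (δ * c.X23 1 * δ⁻¹) :=
    ⟨hδ, by rw [RH.trace_conj]; exact D.R.trace_23 c h1 one_ne_zero⟩
  obtain ⟨v0, hv, h0⟩ : ∃ v, v ∈ W (RH.Ta (rp P) c) (0, 0) ∧ v ≠ 0 := by
    obtain ⟨u, hu, h0⟩ := D.R.exists_u c h1
    exact ⟨_, hu ⟨(0, 0), by decide⟩, h0 _⟩
  refine ⟨α, c, _, _, _, _, ov D ha hb hv h0 hz, ?_, fun τ f hf hP x y => g_form D ha hv h0 hf hP x y⟩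
  have t1 : H915.LD.tr ((c.X23 1 : P) : GL ι F) = 2 := by
    rw [← tr_rp]; exact D.R.trace_23 c h1 one_ne_zero
  have t2 : H915.LD.tr (((C.comp α).z * c.X23 1 : P) : GL ι F) = -2 := by
    have e : rp P ((C.comp α).z * c.X23 1) = -rp P (c.X23 1) := by
      rw [map_mul, D.R.z]
      exact LinearMap.ext fun v => rfl
    rw [← tr_rp, e, map_neg, D.R.trace_23 c h1 one_ne_zero]
  refine ⟨h1, D.R.not_triv c h1, ⟨γ, rfl⟩, ⟨δ, rfl⟩, fun x y => H915.LD.tr_conj x y, ?_, ?_⟩
  · rw [t1, t2]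
    intro h
    have h3 : (2 : F) * 2 = 0 := by linear_combination h
    rcases mul_eq_zero.1 h3 with h4 | h4 <;> exact h2 h4
  · rw [← tr_rp, ← tr_rp]
    exact D.trace_ne ha hb hv h0 h7

end Cfsg.Agent.H840.L34
end

-- part: H840/L34/Cnt
section
/-!
# The overgroup `2.M22` of `2.L3(4)` : counting
-/

set_option autoImplicit false
set_option linter.constructorNameAsVariable false

namespace Cfsg.Agent.H840.L34

open Cfsg.Agent.Lib.FieldFour

theorem card_L : Nat.card L = 20160 := by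
  have h := S0243.result (F := F4) F4.card 3 (by norm_num)
  rw [Fin.prod_univ_three] at h
  have h2 : Nat.gcd 3 (4 - 1) = 3 := by decide
  rw [h2] at h
  change 3 * (3 * Nat.card L) = (4 ^ 3 - 4 ^ 0) * (4 ^ 3 - 4 ^ 1) * (4 ^ 3 - 4 ^ 2) at h
  omega

variable {Γ : Type*} [Group Γ] {P : Subgroup Γ} {C : Cv P}

namespace Ov

variable {c : Conf C} {a b : P} {g u : Γ} (O : Ov c a b g u)

/-- the group `2.M22.2` times the scalars -/
def Mg (Z : Subgroup Γ) (hZ : ∀ z ∈ Z, ∀ x, z * x = x * z) : Subgroup Γ where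
  carrier := {x | ∃ y ∈ O.Q, ∃ k, (k = 1 ∨ k = u) ∧ ∃ z ∈ Z, x = y * k * z}
  one_mem' := ⟨1, O.Q.one_mem, 1, Or.inl rfl, 1, Z.one_mem, by group⟩
  mul_mem' := by
    rintro _ _ ⟨y, hy, k, hk, z, hz, rfl⟩ ⟨y', hy', k', hk', z', hz', rfl⟩
    have h1 : k * y' * k⁻¹ ∈ O.Q := by
      rcases hk with rfl | rfl
      · simpa using hy'
      · rw [O.uinv]; exact O.u_conj_Q hy'
    have h2 : k * k' = 1 ∨ k * k' = u := by
      rcases hk with rfl | rfl
      · rw [one_mul]; exact hk'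
      · rcases hk' with rfl | rfl
        · rw [mul_one]; exact Or.inr rfl
        · exact Or.inl O.uu
    refine ⟨y * (k * y' * k⁻¹), O.Q.mul_mem hy h1, k * k', h2, z * z', Z.mul_mem hz hz', ?_⟩
    calc y * k * z * (y' * k' * z') = y * k * (z * (y' * k')) * z' := by group
      _ = y * k * ((y' * k') * z) * z' := by rw [hZ z hz]
      _ = _ := by group
  inv_mem' := by
    rintro _ ⟨y, hy, k, hk, z, hz, rfl⟩
    have h1 : k⁻¹ * y⁻¹ * k ∈ O.Q := by
      rcases hk with rfl | rfl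
      · simpa using hy
      · rw [O.uinv]; exact O.u_conj_Q (O.Q.inv_mem hy)
    have h2 : k⁻¹ = 1 ∨ k⁻¹ = u := by
      rcases hk with rfl | rfl
      · left; group
      · right; exact O.uinv
    refine ⟨k⁻¹ * y⁻¹ * k, h1, k⁻¹, h2, z⁻¹, Z.inv_mem hz, ?_⟩
    calc (y * k * z)⁻¹ = z⁻¹ * (k⁻¹ * y⁻¹) := by group
      _ = (k⁻¹ * y⁻¹) * z⁻¹ := hZ _ (Z.inv_mem hz) _
      _ = _ := by group

variable {Z : Subgroup Γ} {hZ : ∀ z ∈ Z, ∀ x, z * x = x * z}

theorem g_mem_Mg : g ∈ O.Mg Z hZ := ⟨g, O.g_mem, 1, Or.inl rfl, 1, Z.one_mem, by group⟩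

/-- the parameters of an element -/
def Rel (C : Cv P) (g u : Γ) (Z : Subgroup Γ) (x : Γ) : (L ⊕ L × L) × Bool → Prop
  | (Sum.inl l, k) => ∃ p : P, C.π p = l ∧ ∃ z ∈ Z, x = p * (if k then u else 1) * z
  | (Sum.inr (l, l'), k) => ∃ p r : P, C.π p = l ∧ C.π r = l' ∧ ∃ z ∈ Z, x = p * g * r * (if k then u else 1) * z

theorem exists_rel {x : Γ} (hx : x ∈ O.Mg Z hZ) : ∃ t, Rel C g u Z x t := by
  obtain ⟨y, hy, k, hk, z, hz, rfl⟩ := hx
  obtain ⟨β, hβ⟩ : ∃ β : Bool, k = if β then u else 1 := by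
    rcases hk with rfl | rfl
    · exact ⟨false, rfl⟩
    · exact ⟨true, rfl⟩
  rcases O.mem_Q.1 hy with hy | ⟨p, hp, r, hr, rfl⟩
  · exact ⟨(Sum.inl (C.π ⟨y, hy⟩), β), ⟨y, hy⟩, rfl, z, hz, by rw [hβ]⟩
  · exact ⟨(Sum.inr (C.π ⟨p, hp⟩, C.π ⟨r, hr⟩), β), ⟨p, hp⟩, ⟨r, hr⟩, rfl, rfl, z, hz, by rw [hβ]⟩

theorem rel_unique (hCz : (C.z : Γ) ∈ Z) (hZ : ∀ z ∈ Z, ∀ x, z * x = x * z) {x x' : Γ} {t : (L ⊕ L × L) × Bool}
    (h : Rel C g u Z x t) (h' : Rel C g u Z x' t) : ∃ z ∈ Z, x = x' * z := by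
  have key : ∀ p p' : P, C.π p = C.π p' → ∃ z ∈ Z, (p : Γ) = z * p' := by
    intro p p' hp
    rcases C.eq_or hp with h | h
    · exact ⟨1, Z.one_mem, by rw [h, one_mul]⟩
    · exact ⟨C.z, hCz, by rw [h]; rfl⟩
  rcases t with ⟨l | ⟨l, l'⟩, k⟩
  · obtain ⟨p, hp, z, hz, rfl⟩ := h
    obtain ⟨p', hp', z', hz', rfl⟩ := h'
    obtain ⟨w, hw, h1⟩ := key p p' (hp.trans hp'.symm)
    refine ⟨w * z * z'⁻¹, Z.mul_mem (Z.mul_mem hw hz) (Z.inv_mem hz'), ?_⟩
    rw [h1]
    generalize (if k = true then u else 1) = κ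
    calc w * (p' : Γ) * κ * z = w * (p' * κ * z) := by group
      _ = (p' * κ * z) * w := hZ _ hw _
      _ = p' * κ * (z * w) := by group
      _ = p' * κ * (w * z) := by rw [hZ z hz]
      _ = p' * κ * (w * z) * z'⁻¹ * z' := by group
      _ = p' * κ * ((w * z * z'⁻¹) * z') := by group
      _ = p' * κ * (z' * (w * z * z'⁻¹)) := by rw [hZ z' hz']
      _ = _ := by group
  · obtain ⟨p, r, hp, hr, z, hz, rfl⟩ := h
    obtain ⟨p', r', hp', hr', z', hz', rfl⟩ := h'
    obtain ⟨w, hw, h1⟩ := key p p' (hp.trans hp'.symm)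
    obtain ⟨w', hw', h2⟩ := key r r' (hr.trans hr'.symm)
    refine ⟨w * w' * z * z'⁻¹, Z.mul_mem (Z.mul_mem (Z.mul_mem hw hw') hz) (Z.inv_mem hz'), ?_⟩
    rw [h1, h2]
    generalize (if k = true then u else 1) = κ
    calc w * (p' : Γ) * g * (w' * (r' : Γ)) * κ * z = (w * (p' * g)) * (w' * (r' * κ * z)) := by group
      _ = (p' * g * w) * (r' * κ * z * w') := by rw [hZ w hw, hZ w' hw']
      _ = p' * g * (w * (r' * κ * z)) * w' := by group
      _ = p' * g * ((r' * κ * z) * w) * w' := by rw [hZ w hw]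
      _ = p' * g * r' * κ * (z * (w * w')) := by group
      _ = p' * g * r' * κ * ((w * w') * z) := by rw [hZ z hz]
      _ = p' * g * r' * κ * ((w * w' * z * z'⁻¹) * z') := by group
      _ = p' * g * r' * κ * (z' * (w * w' * z * z'⁻¹)) := by rw [hZ z' hz']
      _ = _ := by group

/-- `M` is small modulo scalars -/
theorem card_bound (hCz : (C.z : Γ) ∈ Z) {X : Type*} (φ : X → Γ) (hφ : ∀ x, φ x ∈ O.Mg Z hZ)
    (hinj : ∀ x y, ∀ z ∈ Z, φ x = φ y * z → x = y) : Nat.card X ≤ 812891520 := by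
  choose t ht using fun x => O.exists_rel (hφ x)
  have h1 : Function.Injective t := by
    intro x y hxy
    obtain ⟨z, hz, h⟩ := rel_unique hCz hZ (ht x) (by rw [hxy]; exact ht y)
    exact hinj x y z hz h
  have hL : Finite L := Nat.finite_of_card_ne_zero (by rw [card_L]; norm_num)
  have h2 := Nat.card_le_card_of_injective t h1
  rw [Nat.card_prod, Nat.card_sum, Nat.card_prod, card_L, Nat.card_eq_fintype_card (α := Bool), Fintype.card_bool] at h2
  exact h2

theorem q_eq {A B : S} (h : q A = q B) : ∃ k : F4, ∀ i j, A.1 i j = k * B.1 i j := by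
  have h1 : B⁻¹ * A ∈ Subgroup.center S := QuotientGroup.eq.1 h.symm
  rw [Matrix.SpecialLinearGroup.mem_center_iff] at h1
  obtain ⟨k, -, hk⟩ := h1
  refine ⟨k, fun i j => ?_⟩
  have h2 : A.1 = B.1 * (B⁻¹ * A : S).1 := by
    rw [← Matrix.SpecialLinearGroup.coe_mul, mul_inv_cancel_left]
  rw [h2, ← hk, Matrix.scalar_apply, Matrix.mul_diagonal, mul_comm]

theorem no_x13 (A : S) (h : ∀ t, q (A * x13 t) = q (x13 (t * t) * A)) : False := by
  have key : ∀ t, ∃ k : F4, ∀ i j, (A * x13 t).1 i j = k * (x13 (t * t) * A).1 i j := fun t => q_eq (h t)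
  have r1 : ∀ t i, (A * x13 t).1 i 0 = A.1 i 0 ∧ (A * x13 t).1 i 1 = A.1 i 1 ∧ (A * x13 t).1 i 2 = A.1 i 0 * t + A.1 i 2 := by
    intro t i
    rw [row, row, row]
    refine ⟨?_, ?_, ?_⟩ <;> simp only [x13, _root_.Fin.isValue, _root_.Cfsg.Agent.H840.L34.x13, _root_.Matrix.of_apply, _root_.Matrix.cons_val', _root_.Matrix.cons_val_zero, _root_.Matrix.cons_val_fin_one, _root_.mul_one, _root_.Matrix.cons_val_one, _root_.MulZeroClass.mul_zero, _root_.add_zero, _root_.Matrix.cons_val, _root_.zero_add]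
  have r2 : ∀ t j, (x13 t * A).1 0 j = A.1 0 j + t * A.1 2 j ∧ (x13 t * A).1 1 j = A.1 1 j ∧ (x13 t * A).1 2 j = A.1 2 j := by
    intro t j
    rw [row, row, row]
    refine ⟨?_, ?_, ?_⟩ <;> simp only [x13, _root_.Cfsg.Agent.H840.L34.x13, _root_.Fin.isValue, _root_.Matrix.of_apply, _root_.Matrix.cons_val', _root_.Matrix.cons_val_zero, _root_.Matrix.cons_val_fin_one, _root_.one_mul, _root_.Matrix.cons_val_one, _root_.MulZeroClass.zero_mul, _root_.add_zero, _root_.Matrix.cons_val, _root_.zero_add]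
  have rel : ∀ t, (∀ i, i ≠ 0 → A.1 i 0 * t = 0) ∧ A.1 0 0 * t = t * t * A.1 2 2 := by
    intro t
    obtain ⟨k, hk⟩ := key t
    have hk1 : k = 1 := by
      by_contra hne
      have e0 : A.1 1 0 = k * A.1 1 0 := by have := hk 1 0; rwa [(r1 t 1).1, (r2 (t * t) 0).2.1] at this
      have e1 : A.1 1 1 = k * A.1 1 1 := by have := hk 1 1; rwa [(r1 t 1).2.1, (r2 (t * t) 1).2.1] at this
      have e2 : A.1 1 0 * t + A.1 1 2 = k * A.1 1 2 := by have := hk 1 2; rwa [(r1 t 1).2.2, (r2 (t * t) 2).2.1] at this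
      have z : ∀ x : F4, x = k * x → x = 0 := by
        intro x hx
        have : (1 - k) * x = 0 := by linear_combination hx
        exact (mul_eq_zero.1 this).resolve_left (fun h => hne (sub_eq_zero.1 h).symm)
      have z0 := z _ e0
      have z1 := z _ e1
      have z2 := z _ (by rw [z0, zero_mul, zero_add] at e2; exact e2)
      have hdet := A.2
      rw [Matrix.det_fin_three, z0, z1, z2] at hdet
      simp at hdet
    subst hk1
    constructor
    · intro i hi
      have h3 := hk i 2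
      rw [(r1 t i).2.2, one_mul] at h3
      have h4 : (x13 (t * t) * A).1 i 2 = A.1 i 2 := by
        fin_cases i
        · exact absurd rfl hi
        · exact (r2 (t * t) 2).2.1
        · exact (r2 (t * t) 2).2.2
      rw [h4] at h3
      exact add_eq_right.1 h3
    · have h3 := hk 0 2
      rw [(r1 t 0).2.2, one_mul, (r2 (t * t) 2).1, add_comm] at h3
      exact add_left_cancel h3
  have a1 := (rel 1).1 1 (by decide)
  have a2 := (rel 1).1 2 (by decide)
  have b1 := (rel 1).2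
  have b2 := (rel F4.w).2
  rw [mul_one] at a1 a2 b1
  rw [one_mul, one_mul] at b1
  rw [b1] at b2
  have b3 : A.1 2 2 = 0 := by
    have e : ∀ x : F4, x * F4.w = F4.w * F4.w * x → x = 0 := by decide
    exact e _ b2
  rw [b3] at b1
  have hdet := A.2
  rw [Matrix.det_fin_three, a1, a2, b1] at hdet
  simp at hdet

include O in
/-- `g` does not normalise `P` -/
theorem not_nm : ¬ Nm P g := by
  intro h
  have h1 : a * g * (a : Γ) ∈ P := by
    rw [← O.ga]
    have := h.h1 a a.2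
    rwa [O.ginv] at this
  have h2 : g ∈ P := by
    have := P.mul_mem (P.mul_mem (P.inv_mem a.2) h1) (P.inv_mem a.2)
    have e : (a : Γ)⁻¹ * (a * g * a) * (a : Γ)⁻¹ = g := by group
    rwa [e] at this
  obtain ⟨A, hA⟩ := QuotientGroup.mk'_surjective (Subgroup.center S) (C.π ⟨g, h2⟩)
  apply no_x13 A
  intro t
  have h4 : (⟨g, h2⟩ : P) * c.X13 t = c.X13 (t * t) * ⟨g, h2⟩ := Subtype.ext (O.g13 t)
  have h5 := congrArg C.π h4
  rw [map_mul, map_mul, c.f13.lift, c.f13.lift, ← hA] at h5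
  rw [map_mul, map_mul]
  exact h5

end Ov

end Cfsg.Agent.H840.L34
end

-- part: H840/L34/Kill
section
/-!
# `PSL_3(4)` in degree ten : not maximal
-/

set_option autoImplicit false
set_option linter.constructorNameAsVariable false
set_option linter.unusedSectionVars false

namespace Cfsg.Agent.H840.L34

open Cfsg.Agent.Lib.FieldFour Cfsg Cfsg.Geo H915.LD H906.T14
open scoped Matrix MatrixGroups

universe u v

section cover

variable {ι : Type} [Fintype ι] [DecidableEq ι] {F : Type u} [Field F] {P : Subgroup (GL ι F)}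
  {K : Type v} [Field K] [Fintype K]

/-- the projection onto `PSL_3(4)` -/
noncomputable def phi (hK : Fintype.card K = 4) (e : Soc P ≃* Matrix.ProjectiveSpecialLinearGroup (Fin 3) K) : P →* L :=
  (Cfsg.Agent.LieClassical.FieldTransfer.pslCongr (equivOfCard hK)).toMonoidHom.comp (ph e)

variable (hK : Fintype.card K = 4) (e : Soc P ≃* Matrix.ProjectiveSpecialLinearGroup (Fin 3) K)

theorem phi_surj : Function.Surjective (phi hK e) :=
  (Cfsg.Agent.LieClassical.FieldTransfer.pslCongr (equivOfCard hK)).surjective.comp (ph_surj e)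

theorem phi_ker (g : P) : phi hK e g = 1 ↔ g ∈ (ph e).ker := by
  rw [MonoidHom.mem_ker]
  exact (Cfsg.Agent.LieClassical.FieldTransfer.pslCongr (equivOfCard hK)).map_eq_one_iff

include hK in
/-- the kernel -/
theorem ker_cases [Finite F] (hC : Core P) (hn : Fintype.card ι = 10) {g : P} (hg : g ∈ (ph e).ker) :
    g = 1 ∨ ((g : GL ι F) : Matrix ι ι F) = -1 := by
  have hfin : Finite P := inferInstance
  have h1 := ph_pow e hC hg
  rw [hn] at h1
  have hcop := coprime_ker_five hK (ph_surj e) (ph_cen e) hC.commutator_top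
  have h5 : (orderOf g).Coprime 5 := by
    apply Nat.Coprime.coprime_dvd_left _ hcop
    rw [← Subgroup.orderOf_mk g hg]
    exact orderOf_dvd_natCard _
  have h2 : orderOf g ∣ 2 := by
    have h3 : orderOf g ∣ 2 * 5 := orderOf_dvd_of_pow_eq_one h1
    exact h5.dvd_of_dvd_mul_right h3
  have h3 : g ^ 2 = 1 := orderOf_dvd_iff_pow_eq_one.1 h2
  obtain ⟨c, -, hc⟩ := ph_scalar e hg
  have hne := hC.nonempty
  have h4 : (((g ^ 2 : P) : GL ι F) : Matrix ι ι F) = (c ^ 2) • 1 := by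
    rw [Subgroup.coe_pow, Units.val_pow_eq_pow_val, hc, smul_pow, one_pow]
  rw [h3] at h4
  have h5 : (c ^ 2 : F) = 1 := by
    apply smul_ext (ι := ι)
    rw [← h4, one_smul]
    rfl
  have h6 : (c - 1) * (c + 1) = 0 := by linear_combination h5
  rcases mul_eq_zero.1 h6 with h7 | h7
  · left
    apply Subtype.ext
    apply Units.ext
    rw [hc, sub_eq_zero.1 h7, one_smul]
    rfl
  · right
    rw [hc, eq_neg_of_add_eq_zero_left h7, neg_one_smul]

/-- families consist of commutators -/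
theorem fam_one {G : Type*} [Group G] {C : Cv G} {h : G} {m : F4} (hm : ∃ n, m * n + n = 1) {x : F4 → L} {X : F4 → G}
    (f : C.Fam h m x X) (χ : G →* ℤˣ) (t : F4) : χ (X t) = 1 := by
  obtain ⟨n, hn⟩ := hm
  have h1 : X t = X (m * (n * t)) * X (n * t) := by
    rw [← f.add]
    congr 1
    have : t = (m * n + n) * t := by rw [hn, one_mul]
    linear_combination this
  have h2 : ∀ x : ℤˣ, x * x = 1 := fun x => by rcases Int.units_eq_one_or x with h | h <;> rw [h] <;> rfl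
  rw [h1, map_mul, ← f.conj, map_mul, map_mul, map_inv, mul_comm (χ h), mul_inv_cancel_right, h2]

theorem e_one {G : Type*} [Group G] {C : Cv G} (c : Conf C) (χ : G →* ℤˣ) (t : F4) : χ (c.e t) = 1 := by
  change χ (c.X12 1 * c.X23 t * c.X12 1 * c.X23 t * c.X13 (1 * t)) = 1
  rw [map_mul, map_mul, map_mul, map_mul, fam_one ⟨F4.v, by decide⟩ c.f12 χ, fam_one ⟨F4.v, by decide⟩ c.f23 χ,
    fam_one ⟨F4.w, by decide⟩ c.f13 χ, mul_one, mul_one, mul_one, mul_one]

/-- the cover when `-1 ∈ P` -/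
noncomputable def cv1 [Finite F] (hC : Core P) (hn : Fintype.card ι = 10) (h2 : (2 : F) ≠ 0) {z : P}
    (hz : ((z : GL ι F) : Matrix ι ι F) = -1) : Cv P where
  π := phi hK e
  z := z
  surj := phi_surj hK e
  zc g := by
    apply Subtype.ext; apply Units.ext
    change ((z : GL ι F) : Matrix ι ι F) * _ = _ * ((z : GL ι F) : Matrix ι ι F)
    rw [hz, neg_mul, mul_neg, one_mul, mul_one]
  zz := by
    apply Subtype.ext; apply Units.ext
    change ((z : GL ι F) : Matrix ι ι F) * ((z : GL ι F) : Matrix ι ι F) = 1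
    rw [hz, neg_mul, mul_neg, one_mul, neg_neg]
  z1 := by
    intro h
    rw [h] at hz
    have hne := hC.nonempty
    obtain ⟨i⟩ := hne
    have h3 : (1 : Matrix ι ι F) i i = (-1 : Matrix ι ι F) i i := congrFun (congrFun hz i) i
    rw [Matrix.neg_apply, Matrix.one_apply_eq] at h3
    apply h2
    linear_combination h3
  ker g := by
    rw [phi_ker]
    constructor
    · intro h
      rcases ker_cases hK e hC hn h with h | h
      · exact Or.inl h
      · right
        apply Subtype.ext; apply Units.ext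
        rw [h, hz]
    · rintro (rfl | rfl)
      · exact Subgroup.one_mem _
      · rw [H915.LD.ker_comp e, Subgroup.mem_subgroupOf, mem_scalars_iff]
        exact ⟨-1, by rw [hz, Units.val_neg, Units.val_one, neg_one_smul]⟩

/-- the cover when `-1 ∉ P` -/
noncomputable def cv2 [Finite F] (hC : Core P) (hn : Fintype.card ι = 10)
    (hz : ∀ z : P, ((z : GL ι F) : Matrix ι ι F) ≠ -1) : Cv (P × ℤˣ) where
  π := (phi hK e).comp (MonoidHom.fst P ℤˣ)
  z := (1, -1)
  surj l := by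
    obtain ⟨p, hp⟩ := phi_surj hK e l
    exact ⟨(p, 1), hp⟩
  zc g := by
    apply Prod.ext
    · change 1 * g.1 = g.1 * 1
      rw [one_mul, mul_one]
    · exact mul_comm _ _
  zz := by
    apply Prod.ext
    · exact one_mul 1
    · rfl
  z1 := by
    intro h
    have h1 : (-1 : ℤˣ) = 1 := congrArg Prod.snd h
    exact absurd h1 (by decide)
  ker g := by
    rw [MonoidHom.comp_apply, MonoidHom.coe_fst, phi_ker]
    constructor
    · intro h
      rcases ker_cases hK e hC hn h with h | h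
      · rcases Int.units_eq_one_or g.2 with h1 | h1
        · exact Or.inl (Prod.ext h h1)
        · exact Or.inr (Prod.ext h h1)
      · exact absurd h (hz _)
    · rintro (rfl | rfl)
      · exact Subgroup.one_mem _
      · exact Subgroup.one_mem _

/-- the representation of `P × {1, -1}` -/
noncomputable def rp2 (P : Subgroup (GL ι F)) : P × ℤˣ →* Module.End F (ι → F) where
  toFun g := ((g.2 : ℤ) : F) • rp P g.1
  map_one' := by
    change (((1 : ℤˣ) : ℤ) : F) • rp P 1 = 1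
    rw [map_one, Units.val_one, Int.cast_one, one_smul]
  map_mul' g g' := by
    change (((g.2 * g'.2 : ℤˣ) : ℤ) : F) • rp P (g.1 * g'.1) = _
    rw [map_mul, Units.val_mul, Int.cast_mul, smul_mul_smul_comm]

include hK in
theorem neg_one_mem [Finite F] (hC : Core P) (hn : Fintype.card ι = 10) (h2 : (2 : F) ≠ 0)
    (e : Soc P ≃* Matrix.ProjectiveSpecialLinearGroup (Fin 3) K) :
    ∃ z : P, ((z : GL ι F) : Matrix ι ι F) = -1 := by
  by_contra hcon
  push Not at hcon
  obtain ⟨α, c, h1⟩ := exists_good (cv2 hK e hC hn hcon)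
  have R : RH ((cv2 hK e hC hn hcon).comp α) (rp2 P) := {
    z := by
      apply LinearMap.ext
      intro v
      change (((-1 : ℤˣ) : ℤ) : F) • (rp P 1) v = -v
      rw [map_one, Units.val_neg, Units.val_one, Int.cast_neg, Int.cast_one, neg_one_smul]
      rfl
    two := h2
    dim := by rw [Module.finrank_fintype_fun_eq_card, hn]
    faith := by
      rintro ⟨p, ε⟩ hg
      have h3 : ∀ v, ((ε : ℤ) : F) • (((p : GL ι F) : Matrix ι ι F) *ᵥ v) = v := fun v => LinearMap.congr_fun hg v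
      rcases Int.units_eq_one_or ε with h4 | h4
      · subst h4
        have h5 : p = 1 := by
          apply Subtype.ext; apply ext_vec
          intro v
          have := h3 v
          rw [Units.val_one, Int.cast_one, one_smul] at this
          rw [this, Subgroup.coe_one, Units.val_one, Matrix.one_mulVec]
        rw [h5]; rfl
      · subst h4
        exfalso
        apply hcon p
        apply Matrix.ext_of_mulVec_single
        intro i
        have := h3 (Pi.single i 1)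
        rw [Units.val_neg, Units.val_one, Int.cast_neg, Int.cast_one, neg_one_smul] at this
        rw [Matrix.neg_mulVec, Matrix.one_mulVec, ← neg_eq_iff_eq_neg, this] }
  have h3 := R.not_triv c h1
  have h4 := e_one c (MonoidHom.snd P ℤˣ) F4.w
  rw [h3] at h4
  revert h4
  change ¬ ((-1 : ℤˣ) = 1)
  decide

end cover

section sperm

variable {F : Type u} [Field F]

/-- signed permutation matrices -/
def sgm (F : Type u) [Field F] (δ : Fin 10 → ℤˣ) (π : Equiv.Perm (Fin 10)) : Matrix (Fin 10) (Fin 10) F :=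
  Matrix.of fun i j => if π i = j then (((δ i : ℤˣ) : ℤ) : F) else 0

theorem sgm_eq (δ : Fin 10 → ℤˣ) (π : Equiv.Perm (Fin 10)) :
    sgm F δ π = Matrix.diagonal (fun i => (((δ i : ℤˣ) : ℤ) : F)) * π.permMatrix F := by
  ext i j
  rw [Matrix.diagonal_mul, Equiv.Perm.permMatrix, PEquiv.toMatrix_apply]
  simp [sgm, Equiv.toPEquiv, eq_comm]

theorem sgm_det (δ : Fin 10 → ℤˣ) (π : Equiv.Perm (Fin 10)) (h : (∏ i, δ i) * Equiv.Perm.sign π = 1) :
    (sgm F δ π).det = 1 := by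
  rw [sgm_eq, Matrix.det_mul, Matrix.det_diagonal, Matrix.det_permutation]
  have h1 : ((((∏ i, δ i) * Equiv.Perm.sign π : ℤˣ) : ℤ) : F) = 1 := by rw [h, Units.val_one, Int.cast_one]
  rw [Units.val_mul, Int.cast_mul, Units.coe_prod, Int.cast_prod] at h1
  exact h1

/-- the invertible signed permutation matrices -/
def sgl (F : Type u) [Field F] (δ : Fin 10 → ℤˣ) (π : Equiv.Perm (Fin 10)) (h : (∏ i, δ i) * Equiv.Perm.sign π = 1) :
    GL (Fin 10) F := Matrix.SpecialLinearGroup.toGL ⟨sgm F δ π, sgm_det δ π h⟩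

theorem sgl_val (δ : Fin 10 → ℤˣ) (π : Equiv.Perm (Fin 10)) (h : (∏ i, δ i) * Equiv.Perm.sign π = 1) :
    (sgl F δ π h : Matrix (Fin 10) (Fin 10) F) = sgm F δ π := rfl

theorem sgl_det (δ : Fin 10 → ℤˣ) (π : Equiv.Perm (Fin 10)) (h : (∏ i, δ i) * Equiv.Perm.sign π = 1) :
    Matrix.GeneralLinearGroup.det (sgl F δ π h) = 1 := by
  apply Units.ext
  rw [Matrix.GeneralLinearGroup.val_det_apply, sgl_val, sgm_det δ π h, Units.val_one]

theorem sgm_vec (δ : Fin 10 → ℤˣ) (π : Equiv.Perm (Fin 10)) (v : Fin 10 → F) (i : Fin 10) :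
    (sgm F δ π *ᵥ v) i = (((δ i : ℤˣ) : ℤ) : F) * v (π i) := by
  change ∑ j, (if π i = j then (((δ i : ℤˣ) : ℤ) : F) else 0) * v j = _
  simp

theorem unit_ne (h2 : (2 : F) ≠ 0) {x y : ℤˣ} (h : ((x : ℤ) : F) = ((y : ℤ) : F)) : x = y := by
  rcases Int.units_eq_one_or x with rfl | rfl <;> rcases Int.units_eq_one_or y with rfl | rfl
  · rfl
  · exfalso; apply h2
    rw [Units.val_neg, Units.val_one, Int.cast_neg, Int.cast_one] at h
    linear_combination h
  · exfalso; apply h2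
    rw [Units.val_neg, Units.val_one, Int.cast_neg, Int.cast_one] at h
    linear_combination -h
  · rfl

theorem unit_ne_zero (x : ℤˣ) : ((x : ℤ) : F) ≠ 0 := by
  rcases Int.units_eq_one_or x with rfl | rfl <;> simp

/-- the signs determined by eight of them -/
def dl (ε : Fin 8 → ℤˣ) (π : Equiv.Perm (Fin 10)) : Fin 10 → ℤˣ :=
  Fin.cons 1 (Fin.cons ((∏ i, ε i) * Equiv.Perm.sign π) ε)

theorem dl_prod (ε : Fin 8 → ℤˣ) (π : Equiv.Perm (Fin 10)) : (∏ i, dl ε π i) * Equiv.Perm.sign π = 1 := by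
  unfold dl
  rw [Fin.prod_cons, Fin.prod_cons, one_mul]
  have h2 : ∀ x : ℤˣ, x * x = 1 := fun x => by rcases Int.units_eq_one_or x with h | h <;> rw [h] <;> rfl
  have h3 := h2 (∏ i, ε i)
  have h4 := h2 (Equiv.Perm.sign π)
  calc (∏ i, ε i) * Equiv.Perm.sign π * (∏ i, ε i) * Equiv.Perm.sign π
      = ((∏ i, ε i) * (∏ i, ε i)) * (Equiv.Perm.sign π * Equiv.Perm.sign π) := by
        rw [mul_assoc, mul_assoc, mul_assoc]
        congr 1
        rw [mul_left_comm]
    _ = 1 := by rw [h3, h4, one_mul]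

/-- the family of signed permutation matrices -/
def spf (F : Type u) [Field F] (x : (Fin 8 → ℤˣ) × Equiv.Perm (Fin 10)) : GL (Fin 10) F :=
  sgl F (dl x.1 x.2) x.2 (dl_prod x.1 x.2)

theorem spf_inj (h2 : (2 : F) ≠ 0) (x y : (Fin 8 → ℤˣ) × Equiv.Perm (Fin 10)) (z : GL (Fin 10) F)
    (hz : z ∈ scalars (Fin 10) F) (h : spf F x = spf F y * z) : x = y := by
  rw [mem_scalars_iff] at hz
  obtain ⟨c, hc⟩ := hz
  have h1 := congrArg (fun g : GL (Fin 10) F => (g : Matrix (Fin 10) (Fin 10) F)) h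
  have h3 : ∀ i j, sgm F (dl x.1 x.2) x.2 i j = (c : F) * sgm F (dl y.1 y.2) y.2 i j := by
    intro i j
    have h4 := congrFun (congrFun h1 i) j
    change sgm F (dl x.1 x.2) x.2 i j = ((spf F y * z : GL (Fin 10) F) : Matrix (Fin 10) (Fin 10) F) i j at h4
    rw [h4, Units.val_mul, hc, Matrix.mul_smul, Matrix.mul_one, Matrix.smul_apply, smul_eq_mul]
    rfl
  have h4 : ∀ i, y.2 i = x.2 i := by
    intro i
    by_contra hne
    have h5 := h3 i (x.2 i)
    change (if x.2 i = x.2 i then (((dl x.1 x.2 i : ℤˣ) : ℤ) : F) else 0) =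
      (c : F) * (if y.2 i = x.2 i then (((dl y.1 y.2 i : ℤˣ) : ℤ) : F) else 0) at h5
    rw [if_pos rfl, if_neg hne, mul_zero] at h5
    exact unit_ne_zero _ h5
  have h5 : ∀ i, (((dl x.1 x.2 i : ℤˣ) : ℤ) : F) = c * (((dl y.1 y.2 i : ℤˣ) : ℤ) : F) := by
    intro i
    have h5 := h3 i (x.2 i)
    change (if x.2 i = x.2 i then (((dl x.1 x.2 i : ℤˣ) : ℤ) : F) else 0) =
      (c : F) * (if y.2 i = x.2 i then (((dl y.1 y.2 i : ℤˣ) : ℤ) : F) else 0) at h5
    rwa [if_pos rfl, if_pos (h4 i)] at h5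
  have h6 : (c : F) = 1 := by
    have := h5 0
    change (((1 : ℤˣ) : ℤ) : F) = c * (((1 : ℤˣ) : ℤ) : F) at this
    rw [Units.val_one, Int.cast_one, mul_one] at this
    exact this.symm
  apply Prod.ext
  · funext i
    have := h5 i.succ.succ
    rw [h6, one_mul] at this
    exact unit_ne h2 this
  · exact Equiv.ext fun i => (h4 i).symm

theorem card_X : Nat.card ((Fin 8 → ℤˣ) × Equiv.Perm (Fin 10)) = 928972800 := by
  rw [Nat.card_eq_fintype_card, Fintype.card_prod, Fintype.card_perm, Fintype.card_fun, Fintype.card_fin,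
    Fintype.card_fin, Fintype.card_units_int]
  rfl

end sperm

section kill

variable {F : Type u} [Field F] [Finite F] {K : Type v} [Field K] [Fintype K]

/-- **General form** : `A` contains the signed permutation matrices of determinant one, and the elements of determinant
one preserving all forms fixed by `P`. -/
theorem kill_gen {A H P : Subgroup (GL (Fin 10) F)} (hH : IsMaximalIn A H) (hR : IsResidualCore H P)
    (hK : Fintype.card K = 4) (e : Soc P ≃* Matrix.ProjectiveSpecialLinearGroup (Fin 3) K)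
    (h2 : (2 : F) ≠ 0) (h7 : (7 : F) ≠ 0) (hW : ∀ x, spf F x ∈ A)
    (hA : ∀ g : GL (Fin 10) F, Matrix.GeneralLinearGroup.det g = 1 →
      (∀ (τ : F → F) (f : (Fin 10 → F) → (Fin 10 → F) → F), Sq τ f → Fx P f → ∀ x y,
        f ((g : Matrix (Fin 10) (Fin 10) F) *ᵥ x) ((g : Matrix (Fin 10) (Fin 10) F) *ᵥ y) = f x y) → g ∈ A) : False := by
  have hC := core_of_residual hR
  obtain ⟨z, hz⟩ := neg_one_mem hK hC (Fintype.card_fin 10) h2 e
  obtain ⟨α, c, a, b, g, u, O, E, hform⟩ := exists_ov (cv1 hK e hC (Fintype.card_fin 10) h2 hz) hz h2 h7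
    (Fintype.card_fin 10)
  have hZ : ∀ z ∈ scalars (Fin 10) F, ∀ x, z * x = x * z := fun z hz x => H920.scalars_comm hz x
  have hCz : (((cv1 hK e hC (Fintype.card_fin 10) h2 hz).comp α).z : GL (Fin 10) F) ∈ scalars (Fin 10) F := by
    rw [mem_scalars_iff]
    exact ⟨-1, by
      change ((z : GL (Fin 10) F) : Matrix (Fin 10) (Fin 10) F) = _
      rw [hz, Units.val_neg, Units.val_one, neg_one_smul]⟩
  have hg : g ∈ A := by
    apply hA g _ hform
    have h3 := congrArg Matrix.GeneralLinearGroup.det O.ga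
    simp only [map_mul] at h3
    rw [hC.det a.2, mul_one, one_mul, mul_one] at h3
    exact mul_eq_right.1 h3
  have hHM : H ≤ O.Mg (scalars (Fin 10) F) hZ := by
    intro h hh
    have hnm : Nm P h := ⟨fun y hy => hR.normal h hh y hy, fun y hy => by
      have := hR.normal h⁻¹ (H.inv_mem hh) y hy
      rwa [inv_inv] at this⟩
    obtain ⟨p, hp, k, hk, hcomm⟩ := norm_thm O E hnm
    have h3 := H920.mem_scalars_of_comm' hC.absIrred hcomm
    have hk' : k⁻¹ = 1 ∨ k⁻¹ = u := by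
      rcases hk with rfl | rfl
      · left; group
      · right; exact O.uinv
    refine ⟨p⁻¹, O.P_le (P.inv_mem hp), k⁻¹, hk', p * h * k, h3, ?_⟩
    rw [mul_assoc, ← hZ _ h3]
    group
  rcases hH.2 (O.Mg (scalars (Fin 10) F) hZ ⊓ A) (le_inf hHM hH.1.le) inf_le_right with h3 | h3
  · have h4 : g ∈ H := by
      rw [← h3]
      exact ⟨O.g_mem_Mg, hg⟩
    apply O.not_nm
    exact ⟨fun y hy => hR.normal g h4 y hy, fun y hy => by
      have := hR.normal g⁻¹ (H.inv_mem h4) y hy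
      rwa [inv_inv] at this⟩
  · have h4 : ∀ x, spf F x ∈ O.Mg (scalars (Fin 10) F) hZ := by
      intro x
      have := hW x
      rw [← h3] at this
      exact this.1
    have h5 := O.card_bound hCz (spf F) h4 (fun x y z hz h => spf_inj h2 x y z hz h)
    rw [card_X] at h5
    norm_num at h5

/-- **`SL_10(F)` : cores with socle `PSL_3(4)` are not maximal.** -/
theorem kill_linear {H P : Subgroup (GL (Fin 10) F)} (hH : IsMaximalIn (specialLinear (Fin 10) F) H)
    (hR : IsResidualCore H P) (hK : Fintype.card K = 4)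
    (e : Soc P ≃* Matrix.ProjectiveSpecialLinearGroup (Fin 3) K) (h2 : (2 : F) ≠ 0) (h7 : (7 : F) ≠ 0) : False :=
  kill_gen hH hR hK e h2 h7 (fun _ => sgl_det _ _ _) (fun _ h _ => h)

omit [Finite F] in
theorem exists_pow [Fintype F] {q : ℕ} (hF : Fintype.card F = q ^ 2) :
    ∃ (p k : ℕ), p.Prime ∧ CharP F p ∧ q = p ^ k := by
  obtain ⟨p, hp⟩ := CharP.exists F
  obtain ⟨n, hn, h⟩ := FiniteField.card F p
  refine ⟨p, ?_⟩
  have h1 : q ∣ p ^ (n : ℕ) := by rw [← h, hF]; exact dvd_pow_self q two_ne_zero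
  obtain ⟨k, -, hk⟩ := (Nat.dvd_prime_pow hn).1 h1
  exact ⟨k, hn, hp, hk⟩

omit [Finite F] in
theorem sq_herm [Fintype F] {q : ℕ} (hF : Fintype.card F = q ^ 2) (n : ℕ) : Sq (fun x : F => x ^ q) (hermForm n F q) := by
  obtain ⟨p, k, hp, hc, hq⟩ := exists_pow hF
  have : Fact p.Prime := ⟨hp⟩
  constructor
  · intro x y v
    unfold hermForm
    rw [← Finset.sum_add_distrib]
    exact Finset.sum_congr rfl fun i _ => by rw [Pi.add_apply, add_mul]
  · intro c x v
    unfold hermForm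
    rw [Finset.mul_sum]
    exact Finset.sum_congr rfl fun i _ => by rw [Pi.smul_apply, smul_eq_mul, mul_assoc]
  · intro x y v
    unfold hermForm
    rw [← Finset.sum_add_distrib]
    exact Finset.sum_congr rfl fun i _ => by rw [Pi.add_apply, hq, add_pow_char_pow, mul_add]
  · intro c x v
    unfold hermForm
    rw [Finset.mul_sum]
    exact Finset.sum_congr rfl fun i _ => by rw [Pi.smul_apply, smul_eq_mul, mul_pow]; ring

/-- **`SU_10(q)` : cores with socle `PSL_3(4)` are not maximal.** -/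
theorem kill_unitary [Fintype F] {q : ℕ} (hF : Fintype.card F = q ^ 2) {H P : Subgroup (GL (Fin 10) F)}
    (hH : IsMaximalIn (GU 10 F q ⊓ specialLinear (Fin 10) F) H)
    (hR : IsResidualCore H P) (hK : Fintype.card K = 4)
    (e : Soc P ≃* Matrix.ProjectiveSpecialLinearGroup (Fin 3) K) (h2 : (2 : F) ≠ 0) (h7 : (7 : F) ≠ 0) : False := by
  have hodd : Odd q := by
    rcases Nat.even_or_odd q with h | h
    · exfalso
      apply h2
      obtain ⟨m, hm⟩ := h
      have h3 : ((Fintype.card F : ℕ) : F) = 0 := FiniteField.cast_card_eq_zero F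
      rw [hF, hm] at h3
      have h4 : (2 : F) * 2 * ((m : F) * m) = 0 := by
        have : (((m + m) ^ 2 : ℕ) : F) = 2 * 2 * ((m : F) * m) := by push_cast; ring
        rw [← this, h3]
      obtain ⟨p, k, hp, hc, hq⟩ := exists_pow hF
      have h5 : 2 ∣ p ^ k := by rw [← hq, hm]; exact ⟨m, by ring⟩
      have h6 : p = 2 := ((Nat.prime_dvd_prime_iff_eq Nat.prime_two hp).1 (Nat.prime_two.dvd_of_dvd_pow h5)).symm
      subst h6
      exact CharTwo.two_eq_zero
    · exact h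
  refine kill_gen hH hR hK e h2 h7 ?_ ?_
  · intro x
    refine ⟨?_, sgl_det _ _ _⟩
    intro u v
    change hermForm 10 F q (sgm F (dl x.1 x.2) x.2 *ᵥ u) (sgm F (dl x.1 x.2) x.2 *ᵥ v) = hermForm 10 F q u v
    unfold hermForm
    rw [← Equiv.sum_comp x.2 (fun i => u i * v i ^ q)]
    refine Finset.sum_congr rfl fun i _ => ?_
    rw [sgm_vec, sgm_vec, mul_pow]
    have h3 : (((dl x.1 x.2 i : ℤˣ) : ℤ) : F) * (((dl x.1 x.2 i : ℤˣ) : ℤ) : F) ^ q = 1 := by
      rcases Int.units_eq_one_or (dl x.1 x.2 i) with h | h <;> rw [h]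
      · simp
      · rw [Units.val_neg, Units.val_one, Int.cast_neg, Int.cast_one, hodd.neg_one_pow]; ring
    linear_combination (u (x.2 i) * v (x.2 i) ^ q) * h3
  · intro g hg h
    refine ⟨?_, hg⟩
    intro u v
    refine h (fun x => x ^ q) (hermForm 10 F q) (sq_herm hF 10) ?_ u v
    intro p hp u v
    exact (hH.1.le (hR.le hp)).1 u v

end kill

end Cfsg.Agent.H840.L34
end

private theorem dce_342d61e9fe94 : _root_.True := by
  try have : _root_.True := by simp only [_root_.Cfsg.Agent.H840.L34.x32.eq_1]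
  try have : _root_.True := by simp only [_root_.Cfsg.Agent.H840.L34.wb.eq_1]
  try have : _root_.True := by simp only [_root_.Cfsg.Agent.H840.L34.ch.eq_1]
  try have : _root_.True := by simp only [_root_.Cfsg.Agent.H840.L34.wa.eq_1]
  try have : _root_.True := by simp only [_root_.Cfsg.Agent.H840.L34.x31.eq_1]
  try have : _root_.True := by simp only [_root_.Cfsg.Agent.H840.L34.x12.eq_1]
  try have : _root_.True := by simp only [_root_.Cfsg.Agent.H840.L34.Ov.Q.congr_simp]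
  try have : _root_.True := by simp only [_root_.Cfsg.Agent.H840.L34.Dt.B.congr_simp]
  try have : _root_.True := by simp only [_root_.Cfsg.Agent.H840.L34.x21.eq_1]
  try have : _root_.True := by simp only [_root_.Cfsg.Agent.H840.L34.sgm.eq_1]
  try have : _root_.True := by simp only [_root_.Cfsg.Agent.H840.L34.x13.eq_1]
  try have : _root_.True := by simp only [_root_.Cfsg.Agent.H840.L34.x23.eq_1]
  try have : _root_.True := by simp only [_root_.Equiv.toPEquiv.eq_1]
  exact _root_.True.intro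
end
end

-- part: H13/M22/Ten
section
set_option linter.all false
open scoped Cfsg.Agent.FastGrp

-- part: H13/M22/CoreCov
section
/-!
# Cores as covers acting with scalar kernel (helper13)
-/

set_option autoImplicit false
set_option linter.unusedSectionVars false

namespace Cfsg.Agent.H13.M22

open Module Cfsg Cfsg.Geo H915.LD Cfsg.Agent.H906 Cfsg.Agent.H906.Wt

universe u v

variable {ι : Type} [Fintype ι] [DecidableEq ι] {F : Type u} [Field F] {P : Subgroup (GL ι F)}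
  {T : Type v} [Group T]

/-- the projection of the core -/
abbrev phT (e : Soc P ≃* T) : P →* T := e.toMonoidHom.comp (toSoc P)

variable (e : Soc P ≃* T)

lemma phT_surj : Function.Surjective (phT e) := e.surjective.comp (toSoc_surjective P)

lemma phT_ker : (phT e).ker = (scalars ι F).subgroupOf P := ker_comp e

lemma phT_cen : (phT e).ker ≤ Subgroup.center P := by
  rw [phT_ker e]
  exact H915.LD.scalars_le_center (P := P)

lemma phT_scalar {z : P} (hz : z ∈ (phT e).ker) : ∃ c : F, c ≠ 0 ∧ ((z : GL ι F) : Matrix ι ι F) = c • 1 := by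
  rw [phT_ker e, Subgroup.mem_subgroupOf, mem_scalars_iff] at hz
  obtain ⟨c, hc⟩ := hz
  exact ⟨c, c.ne_zero, hc⟩

lemma phT_pow (hC : Core P) {z : P} (hz : z ∈ (phT e).ker) : z ^ Fintype.card ι = 1 := by
  rw [phT_ker e] at hz
  exact hC.pow_card hz

lemma phT_rep {z : P} (hz : z ∈ (phT e).ker) : ∃ c : AlgebraicClosure F, T14.rep P z = c • 1 := by
  obtain ⟨c, -, hc⟩ := phT_scalar e hz
  refine ⟨algebraMap F _ c, ?_⟩
  rw [T14.rep_apply, hc]
  have h1 : (c • (1 : Matrix ι ι F)).map (algebraMap F (AlgebraicClosure F)) =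
      algebraMap F (AlgebraicClosure F) c • (1 : Matrix ι ι (AlgebraicClosure F)) := by
    ext i j
    by_cases hij : i = j
    · subst hij; simp
    · simp [hij]
  rw [h1, map_smul, Matrix.toLin'_one]
  rfl

/-- the order of the scalars is prime to the characteristic -/
theorem card_scalars_ne [Finite F] (p : ℕ) [hp : Fact p.Prime] [CharP F p] (R : Type*) [Field R] [CharP R p] :
    (Nat.card (phT e).ker : R) ≠ 0 := by
  intro h0
  rw [CharP.cast_eq_zero_iff R p] at h0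
  obtain ⟨z, hz⟩ := exists_prime_orderOf_dvd_card' (G := (phT e).ker) p h0
  obtain ⟨c, hc0, hc⟩ := phT_scalar e z.2
  have h1 : (z : P) ^ p = 1 := by
    have h2 : z ^ p = 1 := by rw [← hz]; exact pow_orderOf_eq_one z
    exact congrArg Subtype.val h2
  have h2 : ((((z : P) ^ p : P) : GL ι F) : Matrix ι ι F) = (c ^ p) • 1 := by
    rw [Subgroup.coe_pow, Units.val_pow_eq_pow_val, hc, smul_pow, one_pow]
  rw [h1] at h2
  have h5 : z = 1 := by
    apply Subtype.ext
    apply Subtype.ext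
    apply Units.ext
    rw [hc]
    by_cases hne : Nonempty ι
    · have h3 : c ^ p = 1 := by
        obtain ⟨i⟩ := hne
        have := congrFun (congrFun h2 i) i
        simp only [_root_.OneMemClass.coe_one, _root_.Units.val_one, _root_.Matrix.one_apply_eq, _root_.Matrix.smul_apply, _root_.smul_eq_mul, _root_.mul_one] at this
        exact this.symm
      have h4 : c = 1 := by
        have h5 : (c - 1) ^ p = 0 := by rw [sub_pow_char, h3, one_pow, sub_self]
        exact sub_eq_zero.1 (pow_eq_zero_iff hp.out.ne_zero |>.1 h5)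
      rw [h4, one_smul]
      rfl
    · rw [not_nonempty_iff] at hne
      exact Subsingleton.elim _ _
  rw [h5, orderOf_one] at hz
  exact hp.out.one_lt.ne hz

/-- the covering structure of a core -/
theorem core_cov [Finite F] (p : ℕ) [hp : Fact p.Prime] [CharP F p] : Cov (phT e) (T14.rep P) where
  surj := phT_surj e
  cen := phT_cen e
  scal := fun z hz => phT_rep e hz
  inj := T14.rep_injective
  card := by
    have : CharP (AlgebraicClosure F) p :=
      charP_of_injective_algebraMap (algebraMap F (AlgebraicClosure F)).injective p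
    exact card_scalars_ne e p _

lemma finrank_rep {n : ℕ} (hn : Fintype.card ι = n) :
    finrank (AlgebraicClosure F) (ι → AlgebraicClosure F) = n := by
  rw [Module.finrank_fintype_fun_eq_card, hn]

/-- irreducibility and spanning -/
theorem span_of_irred [Nonempty ι] (Q : Subgroup P)
    (hirr : ∀ W' : Submodule (AlgebraicClosure F) (ι → AlgebraicClosure F),
      (∀ g ∈ Q, ∀ v ∈ W', T14.rep P g v ∈ W') → W' = ⊥ ∨ W' = ⊤) :
    Submodule.span (AlgebraicClosure F) (T14.mrep P '' (Q : Set P)) = ⊤ := by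
  let RB : Subgroup (GL ι (AlgebraicClosure F)) :=
    Q.map ((Matrix.GeneralLinearGroup.map (algebraMap F (AlgebraicClosure F))).comp P.subtype)
  have hset : matrixSet RB = T14.mrep P '' (Q : Set P) := by
    ext M
    constructor
    · rintro ⟨_, ⟨g, hg, rfl⟩, rfl⟩
      exact ⟨g, hg, rfl⟩
    · rintro ⟨g, hg, rfl⟩
      exact ⟨_, ⟨g, hg, rfl⟩, rfl⟩
  rw [← hset]
  apply Cfsg.Agent.H920.span_eq_top
  constructor
  · intro W' hW'
    apply hirr W'
    intro g hg v hv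
    have h1 := hW' (T14.mrep P g) (by rw [hset]; exact ⟨g, hg, rfl⟩)
    exact h1 ⟨v, hv, rfl⟩
  · intro M hM
    have hnt : Nontrivial (ι → AlgebraicClosure F) := inferInstance
    obtain ⟨c, hc⟩ := Module.End.exists_eigenvalue (Matrix.toLin' M)
    refine ⟨c, ?_⟩
    have h1 := hirr (Module.End.eigenspace (Matrix.toLin' M) c) (by
      intro g hg v hv
      rw [Module.End.mem_eigenspace_iff] at hv ⊢
      have h3 := hM (T14.mrep P g) (by rw [hset]; exact ⟨g, hg, rfl⟩)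
      have h4 := congrArg Matrix.toLin' h3
      rw [Matrix.toLin'_mul, Matrix.toLin'_mul] at h4
      have h5 := congrArg (fun f : (ι → AlgebraicClosure F) →ₗ[AlgebraicClosure F] (ι → AlgebraicClosure F) => f v) h4
      change Matrix.toLin' M (T14.rep P g v) = T14.rep P g (Matrix.toLin' M v) at h5
      rw [h5, hv, map_smul])
    have h3 : Module.End.eigenspace (Matrix.toLin' M) c = ⊤ := by
      rcases h1 with h1 | h1
      · exact absurd h1 hc
      · exact h1
    have h4 : Matrix.toLin' M = Matrix.toLin' (c • (1 : Matrix ι ι (AlgebraicClosure F))) := by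
      ext1 v
      rw [map_smul, Matrix.toLin'_one]
      have h5 : (LinearMap.single (AlgebraicClosure F) (fun _ : ι => AlgebraicClosure F) v 1) ∈
        Module.End.eigenspace (Matrix.toLin' M) c := by rw [h3]; trivial
      rw [Module.End.mem_eigenspace_iff] at h5
      apply LinearMap.ext_ring
      exact h5
    exact Matrix.toLin'.injective h4

/-- glueing two subgroups along their intersection -/
theorem glue [Nonempty ι] {ρ₁ ρ₂ : P →* Matrix ι ι (AlgebraicClosure F)} (D H1 H2 : Subgroup P)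
    (d1 : D ≤ H1) (d2 : D ≤ H2) (hgen : H1 ⊔ H2 = ⊤)
    (s₁ : Submodule.span (AlgebraicClosure F) (ρ₁ '' (D : Set P)) = ⊤)
    (s₂ : Submodule.span (AlgebraicClosure F) (ρ₂ '' (D : Set P)) = ⊤)
    (ta : ∀ g ∈ H1, (ρ₁ g).trace = (ρ₂ g).trace) (tb : ∀ g ∈ H2, (ρ₁ g).trace = (ρ₂ g).trace) (g : P) :
    (ρ₁ g).trace = (ρ₂ g).trace := by
  have mono : ∀ (ρ : P →* Matrix ι ι (AlgebraicClosure F)) (Q : Subgroup P), D ≤ Q →
      Submodule.span (AlgebraicClosure F) (ρ '' (D : Set P)) = ⊤ →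
      Submodule.span (AlgebraicClosure F) (ρ '' (Q : Set P)) = ⊤ := by
    intro ρ Q hQ hs
    rw [eq_top_iff, ← hs]
    exact Submodule.span_mono (Set.image_mono hQ)
  obtain ⟨B₁, hB₁⟩ := L34.exists_agree ρ₁ ρ₂ H1 (mono _ _ d1 s₁) (mono _ _ d1 s₂) ta
  obtain ⟨B₂, hB₂⟩ := L34.exists_agree ρ₁ ρ₂ H2 (mono _ _ d2 s₁) (mono _ _ d2 s₂) tb
  have h1 := L34.agree_eq s₁ (d1.trans hB₁) (d2.trans hB₂)
  have h2 : (⊤ : Subgroup P) ≤ L34.agree ρ₁ ρ₂ B₁ := by
    rw [← hgen]
    exact sup_le hB₁ (by rw [h1]; exact hB₂)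
  have h3 : L34.cjB B₁ ρ₁ g = ρ₂ g := h2 (Subgroup.mem_top g)
  rw [← h3, L34.cjB_apply, Matrix.trace_mul_comm, ← mul_assoc, ← Units.val_mul, inv_mul_cancel, Units.val_one, one_mul]

end Cfsg.Agent.H13.M22
end

-- part: H13/M22/L34Sub
section
/-!
# Traces of subgroups of `GL_10` with socle `PSL_3(4)` and scalars of order two (after helper906; helper13)
-/

set_option autoImplicit false
set_option linter.unusedSectionVars false

namespace Cfsg.Agent.H13.M22

open Cfsg Cfsg.Geo Cfsg.Agent.H906 Cfsg.Agent.H906.SL3Par Cfsg.Agent.H906.L34 H915.LD Cfsg.Agent.H906.T14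
open scoped MatrixGroups commutatorElement Matrix

universe u v

variable {ι : Type} [Fintype ι] [DecidableEq ι] {F : Type u} [Field F] {P : Subgroup (GL ι F)}
  {K : Type v} [Field K] [Fintype K] (e : Soc P ≃* Matrix.ProjectiveSpecialLinearGroup (Fin 3) K)

theorem coprime_of_sq {L : Type*} [Group L] [Finite L] (Z : Subgroup L) (hz : ∀ z ∈ Z, z ^ 2 = 1) {r : ℕ}
    (hr : r.Prime) (hr2 : r ≠ 2) : (Nat.card Z).Coprime r := by
  rw [Nat.coprime_comm, hr.coprime_iff_not_dvd]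
  intro hd
  have : Fact r.Prime := ⟨hr⟩
  obtain ⟨z, hz'⟩ := exists_prime_orderOf_dvd_card' (G := Z) r hd
  have h1 : z ^ 2 = 1 := Subtype.ext (hz z.1 z.2)
  have h2 := orderOf_dvd_of_pow_eq_one h1
  rw [hz'] at h2
  exact hr2 ((Nat.prime_dvd_prime_iff_eq hr Nat.prime_two).1 h2)

theorem two_of' [Nonempty ι] (hz2 : ∀ z ∈ (ph e).ker, z ^ 2 = 1) : Two (ph e) where
  surj := ph_surj e
  cen := ph_cen e
  four := fun z hz _ => hz2 z hz
  uniq := by
    intro z hz z' hz' h2 h2' h1 h1'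
    have key : ∀ z : P, z ∈ (ph e).ker → z ^ 2 = 1 → z ≠ 1 → ((z : GL ι F) : Matrix ι ι F) = (-1 : F) • 1 := by
      intro z hz h2 h1
      obtain ⟨c, -, hc⟩ := ph_scalar e hz
      have h3 : (((z ^ 2 : P) : GL ι F) : Matrix ι ι F) = (c ^ 2) • 1 := by
        rw [Subgroup.coe_pow, Units.val_pow_eq_pow_val, hc, smul_pow, one_pow]
      rw [h2] at h3
      have h4 : (c ^ 2 : F) = 1 := by
        apply smul_ext (ι := ι)
        rw [← h3, one_smul]
        rfl
      have h5 : (c - 1) * (c + 1) = 0 := by linear_combination h4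
      rcases mul_eq_zero.1 h5 with h6 | h6
      · exfalso
        apply h1
        apply Subtype.ext
        apply Units.ext
        rw [hc, sub_eq_zero.1 h6, one_smul]
        rfl
      · rw [hc, eq_neg_of_add_eq_zero_left h6]
    apply Subtype.ext
    apply Units.ext
    rw [key z hz h2 h1, key z' hz' h2' h1']

/-- the shape of the elements of order prime to `p` -/
theorem classify' [Finite F] (p : ℕ) [hp : Fact p.Prime] [CharP F p] (hp2 : p ≠ 2)
    (hK : Fintype.card K = 4) (hcop5 : (Nat.card (ph e).ker).Coprime 5) (hcop7 : (Nat.card (ph e).ker).Coprime 7)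
    (h : Two (ph e)) (hnine : ∀ z ∈ (ph e).ker, z ^ 9 = 1 → z ^ 3 = 1)
    (h5 : ∀ g : P, g ^ 5 = 1 → ph e g ≠ 1 → p ≠ 5 → tr (g : GL ι F) ^ p = tr (g : GL ι F))
    (g : P) (hg : ¬ p ∣ orderOf g) :
    ∃ g' : P, ph e g = ph e g' ∧
      (((ph e g' ^ 3 = 1 ∨ ph e g' ^ 4 = 1 ∨ ph e g' ^ 5 = 1) ∧ tr (g' : GL ι F) ^ p = tr (g' : GL ι F) ∧
        tr ((g' : GL ι F)⁻¹) = tr (g' : GL ι F)) ∨
      (p ≠ 7 ∧ ph e g' ^ 7 = 1 ∧ g' ^ 7 = 1 ∧ IsConj g' (g' ^ 2))) := by
  have hfin : Finite P := inferInstance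
  have hord : orderOf (ph e g) ∣ orderOf g := orderOf_map_dvd _ _
  have four : ∀ t, ph e g = t → t ^ 4 = 1 → ∃ g' : P, ph e g = ph e g' ∧
      (((ph e g' ^ 3 = 1 ∨ ph e g' ^ 4 = 1 ∨ ph e g' ^ 5 = 1) ∧ tr (g' : GL ι F) ^ p = tr (g' : GL ι F) ∧
        tr ((g' : GL ι F)⁻¹) = tr (g' : GL ι F)) ∨
      (p ≠ 7 ∧ ph e g' ^ 7 = 1 ∧ g' ^ 7 = 1 ∧ IsConj g' (g' ^ 2))) := by
    rintro t ht ht4
    obtain ⟨g', h1, h2, h3⟩ := h.two_part hK t ht4
    refine ⟨g', by rw [ht, h1], Or.inl ⟨Or.inr (Or.inl (by rw [h1, ht4])), tr_real p h2 h3 ?_ (by norm_num), tr_inv_real h3⟩⟩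
    have hodd := hp.out.eq_two_or_odd.resolve_left hp2
    omega
  rcases pow_cases hK (ph e g) with ht | ht | ht | ht
  · by_cases hp3 : p = 3
    · have h1 := eq_one_of_pow ht Nat.prime_three hord (by rw [← hp3]; exact hg)
      exact four _ rfl (by rw [h1, one_pow])
    · obtain ⟨g', h1, h2, h3⟩ := three_part (ph_surj e) (ph_cen e) hnine hK _ ht
      refine ⟨g', by rw [h1], Or.inl ⟨Or.inl (by rw [h1, ht]), tr_real p h2 h3 ?_ (by norm_num), tr_inv_real h3⟩⟩
      have h4 : p % 3 ≠ 0 := fun h0 => hp3 ((Nat.prime_dvd_prime_iff_eq Nat.prime_three hp.out).1 (Nat.dvd_of_mod_eq_zero h0)).symm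
      omega
  · exact four _ rfl ht
  · by_cases h1 : ph e g = 1
    · exact four _ rfl (by rw [h1, one_pow])
    · have hp5 : p ≠ 5 := by
        intro hp5
        exact h1 (eq_one_of_pow ht Nat.prime_five hord (by rw [← hp5]; exact hg))
      obtain ⟨g', h2, h3, h4⟩ := five_part (ph_surj e) (ph_cen e)
        hcop5 hK _ ht
      exact ⟨g', by rw [h2], Or.inl ⟨Or.inr (Or.inr (by rw [h2, ht])), h5 g' h3 (by rw [h2]; exact h1) hp5, tr_inv_real h4⟩⟩
  · by_cases h1 : ph e g = 1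
    · exact four _ rfl (by rw [h1, one_pow])
    · have hp7 : p ≠ 7 := by
        intro hp7
        exact h1 (eq_one_of_pow ht (by norm_num) hord (by rw [← hp7]; exact hg))
      obtain ⟨g', h2, h3, h4⟩ := seven_part (ph_surj e) (ph_cen e)
        hcop7 hK _ ht
      exact ⟨g', by rw [h2], Or.inr ⟨hp7, by rw [h2, ht], h3, h4⟩⟩

/-- **Cores with socle `PSL_3(4)` in degree ten.** -/
theorem l34_ten' [Finite F] (p : ℕ) [hp : Fact p.Prime] [CharP F p] (hp2 : p ≠ 2)
    (hK : Fintype.card K = 4) (hn : Fintype.card ι = 10)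
    (e : Soc P ≃* Matrix.ProjectiveSpecialLinearGroup (Fin 3) K) (hz2 : ∀ z ∈ (ph e).ker, z ^ 2 = 1) :
    ((p % 7 = 1 ∨ p % 7 = 2 ∨ p % 7 = 4) → Fr P p) ∧ ((p % 7 = 3 ∨ p % 7 = 5 ∨ p % 7 = 6) → Cj P p) ∧
      (p = 7 → SD P ∧ Fr P 7) := by
  have hfin : Finite P := inferInstance
  have hne : Nonempty ι := by rw [← Fintype.card_pos_iff, hn]; norm_num
  have h := two_of' e hz2
  have hcop := coprime_of_sq (ph e).ker hz2 Nat.prime_five (by norm_num)
  have hcop7 := coprime_of_sq (ph e).ker hz2 (by norm_num : Nat.Prime 7) (by norm_num)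
  have h2Ω := two_ne (F := F) p hp2 (AlgebraicClosure F)
  have h5 : ∀ g : P, g ^ 5 = 1 → ph e g ≠ 1 → p ≠ 5 → tr (g : GL ι F) ^ p = tr (g : GL ι F) := by
    intro g hg5 hg1 _
    have h6 := five_trace_ten h hK (rep P) rep_injective (fun z hz => rep_scalar e hz) h2Ω hcop
      (by rw [Module.finrank_fintype_fun_eq_card, hn]) hg5 hg1
    rw [trace_rep, map_eq_zero] at h6
    rw [h6, zero_pow hp.out.ne_zero]
  have hcl := classify' e p hp2 hK hcop hcop7 h (fun z hz h9 => by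
    have h1 : z ^ 9 = z := by
      calc z ^ 9 = (z ^ 2) ^ 4 * z := by rw [← pow_mul, ← pow_succ]
        _ = z := by rw [hz2 z hz, one_pow, one_mul]
    rw [h1] at h9
    rw [h9, one_pow]) h5
  have hodd : p % 2 = 1 := hp.out.eq_two_or_odd.resolve_left hp2
  -- signs
  have sgn : ∀ z ∈ (ph e).ker, ∀ c : F, ((z : GL ι F) : Matrix ι ι F) = c • 1 → c ^ p = c ∧ c⁻¹ = c := by
    intro z hz c hc
    have h1 := hz2 z hz
    have h3 : (((z ^ 2 : P) : GL ι F) : Matrix ι ι F) = (c ^ 2) • 1 := by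
      rw [Subgroup.coe_pow, Units.val_pow_eq_pow_val, hc, smul_pow, one_pow]
    rw [h1] at h3
    have h4 : (c ^ 2 : F) = 1 := by
      apply smul_ext (ι := ι)
      rw [← h3, one_smul]
      rfl
    constructor
    · have h5 : p = 2 * (p / 2) + 1 := by omega
      rw [h5, pow_succ, pow_mul, h4, one_pow, one_mul]
    · exact inv_eq_of_mul_eq_one_right (by rw [← pow_two, h4])
  -- real elements
  have real : ∀ g : P, ¬ p ∣ orderOf g → (p % 7 = 0 ∨ ∃ g', ph e g = ph e g' ∧ tr (g' : GL ι F) ^ p = tr (g' : GL ι F) ∧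
        tr ((g' : GL ι F)⁻¹) = tr (g' : GL ι F)) → tr (g : GL ι F) ^ p = tr (g : GL ι F) ∧ tr ((g : GL ι F)⁻¹) = tr (g : GL ι F) := by
    intro g hg hor
    have hex : ∃ g', ph e g = ph e g' ∧ tr (g' : GL ι F) ^ p = tr (g' : GL ι F) ∧
        tr ((g' : GL ι F)⁻¹) = tr (g' : GL ι F) := by
      rcases hor with h0 | h0
      · obtain ⟨g', h1, h2 | h2⟩ := hcl g hg
        · exact ⟨g', h1, h2.2⟩
        · exfalso
          apply h2.1
          exact ((Nat.prime_dvd_prime_iff_eq (by norm_num) hp.out).1 (Nat.dvd_of_mod_eq_zero h0)).symm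
      · exact h0
    obtain ⟨g', h1, h2, h3⟩ := hex
    obtain ⟨z, hz, c, hc0, hc, t1, t2⟩ := tr_twist e h1
    obtain ⟨s1, s2⟩ := sgn z hz c hc
    rw [t1, t2, s2, h3, mul_pow, s1, h2]
    exact ⟨rfl, rfl⟩
  refine ⟨?_, ?_, ?_⟩
  · intro h7
    apply Fr.of_reg' p
    intro g hg hord
    have hord' : ¬ p ∣ orderOf (⟨g, hg⟩ : P) := by rwa [← Subgroup.orderOf_coe]
    obtain ⟨g', h1, h2 | h2⟩ := hcl ⟨g, hg⟩ hord'
    · exact (real ⟨g, hg⟩ hord' (Or.inr ⟨g', h1, h2.2⟩)).1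
    · obtain ⟨z, hz, c, hc0, hc, t1, t2⟩ := tr_twist e h1
      obtain ⟨s1, s2⟩ := sgn z hz c hc
      change tr ((⟨g, hg⟩ : P) : GL ι F) ^ p = tr ((⟨g, hg⟩ : P) : GL ι F)
      rw [t1, mul_pow, s1, (tr_seven p h2.2.2.1 h2.2.2.2).1 h7]
  · intro h7
    apply Cj.of_reg' p
    intro g hg hord
    have hord' : ¬ p ∣ orderOf (⟨g, hg⟩ : P) := by rwa [← Subgroup.orderOf_coe]
    obtain ⟨g', h1, h2 | h2⟩ := hcl ⟨g, hg⟩ hord'
    · have h3 := real ⟨g, hg⟩ hord' (Or.inr ⟨g', h1, h2.2⟩)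
      change tr ((⟨g, hg⟩ : P) : GL ι F) ^ p = tr ((⟨g, hg⟩ : P) : GL ι F)⁻¹
      rw [h3.1, h3.2]
    · obtain ⟨z, hz, c, hc0, hc, t1, t2⟩ := tr_twist e h1
      obtain ⟨s1, s2⟩ := sgn z hz c hc
      change tr ((⟨g, hg⟩ : P) : GL ι F) ^ p = tr ((⟨g, hg⟩ : P) : GL ι F)⁻¹
      rw [t1, t2, mul_pow, s1, s2, (tr_seven p h2.2.2.1 h2.2.2.2).2 h7]
  · rintro rfl
    constructor
    · apply SD.of_reg 7
      intro g hg hord
      have hord' : ¬ 7 ∣ orderOf (⟨g, hg⟩ : P) := by rwa [← Subgroup.orderOf_coe]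
      exact (real ⟨g, hg⟩ hord' (Or.inl rfl)).2
    · apply Fr.of_reg' 7
      intro g hg hord
      have hord' : ¬ 7 ∣ orderOf (⟨g, hg⟩ : P) := by rwa [← Subgroup.orderOf_coe]
      exact (real ⟨g, hg⟩ hord' (Or.inl rfl)).1

end Cfsg.Agent.H13.M22
end

-- part: H13/M22/Ten
section
/-!
# Cores with socle `M22` in degree ten, odd characteristic (helper13)
-/

set_option autoImplicit false
set_option linter.unusedSectionVars false

namespace Cfsg.Agent.H13.M22

open Module Cfsg Cfsg.Geo H915.LD Cfsg.Agent.H906 Cfsg.Agent.H906.Wt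
open Cfsg.Agent.SporadicA.GolayBase Cfsg.Agent.SporadicA.GolayPerm

universe u v w

section irred

variable {L Ω V : Type*} [Group L] [Finite L] [Field Ω] [IsAlgClosed Ω] [AddCommGroup V] [Module Ω V]
  [FiniteDimensional Ω V] {φ : L →* Spor.M22} {ρ : L →* Module.End Ω V}

/-- the two-point stabiliser is irreducible in degree ten -/
theorem ten_irred (h : Cov φ ρ) (h2 : (2 : Ω) ≠ 0) (hn : finrank Ω V = 10) (W' : Submodule Ω V)
    (hW' : ∀ g ∈ (st (pt 1) ⊓ st (pt 2)).comap φ, ∀ v ∈ W', ρ g v ∈ W') : W' = ⊥ ∨ W' = ⊤ := by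
  have hab := E_ab h h2 (Or.inl hn)
  obtain ⟨g5, h5⟩ := h.surj (em s5P)
  obtain ⟨g3, h3⟩ := h.surj (em s3P)
  have hFT := f53.ft h hab h5 h3
  set D : Subgroup L := (st (pt 1) ⊓ st (pt 2)).comap φ with hD
  have hAD : E22.comap φ ≤ D := Subgroup.comap_mono E22_le_st
  have hFD := hFT.sub D hAD (show φ g5 ∈ _ by rw [h5]; exact s5_mem) (show φ g3 ∈ _ by rw [h3]; exact s3_mem)
  have hcard : (Nat.card ((E22.comap φ).subgroupOf D) : Ω) ≠ 0 := by
    rw [Nat.card_congr (Subgroup.subgroupOfEquivOfLe hAD).toEquiv]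
    exact f53.card h h2
  have hns : ∀ χ : (E22.comap φ).subgroupOf D →* Ωˣ, W (rs (ρ.comp D.subtype) ((E22.comap φ).subgroupOf D)) χ ≠ ⊤ := by
    intro χ htop
    obtain ⟨e, he, hne⟩ := f53.ne
    obtain ⟨f, hf, hef⟩ := f53.u5 e he
    obtain ⟨b, rfl⟩ := h.surj f
    have hb : b ∈ E22.comap φ := hf
    have hbD : b ∈ D := hAD hb
    have hsc : ρ b = (χ ⟨⟨b, hbD⟩, hb⟩ : Ω) • 1 := by
      apply LinearMap.ext
      intro v
      have hv : v ∈ W (rs (ρ.comp D.subtype) ((E22.comap φ).subgroupOf D)) χ := by rw [htop]; trivial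
      exact mem_W.1 hv ⟨⟨b, hbD⟩, hb⟩
    have h1 := h.central_of_scalar hsc g5
    apply hne
    rw [hef, ← h5, ← map_mul, ← h1, map_mul]
    group
  exact hFD.irred (ρ := ρ.comp D.subtype) (fun z hz => h.scal z.1 hz) hcard hns hn W' (fun g => hW' g.1 g.2)

end irred

section sub

variable {ι : Type} [Fintype ι] [DecidableEq ι] {F : Type u} [Field F] {P : Subgroup (GL ι F)}
  {T : Type v} [Group T] (e : Soc P ≃* T)

/-- the subgroup of `GL` over a subgroup of `T` -/
def subG (S : Subgroup T) : Subgroup (GL ι F) := (S.comap (phT e)).map P.subtype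

lemma subG_le (S : Subgroup T) : subG e S ≤ P := by
  rintro _ ⟨g, -, rfl⟩
  exact g.2

lemma mem_subG {S : Subgroup T} {g : P} : (g : GL ι F) ∈ subG e S ↔ phT e g ∈ S := by
  constructor
  · rintro ⟨k, hk, hkg⟩
    have : k = g := Subtype.ext hkg
    rw [← this]; exact hk
  · intro hg
    exact ⟨g, hg, rfl⟩

/-- the projection of the subgroup -/
def subPr (S : Subgroup T) : subG e S →* S where
  toFun g := ⟨phT e ⟨g.1, subG_le e S g.2⟩, (mem_subG e (g := ⟨g.1, subG_le e S g.2⟩)).1 g.2⟩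
  map_one' := Subtype.ext (map_one (phT e))
  map_mul' a b := Subtype.ext ((map_mul (phT e) ⟨a.1, subG_le e S a.2⟩ ⟨b.1, subG_le e S b.2⟩ :))

lemma subPr_surj (S : Subgroup T) : Function.Surjective (subPr e S) := by
  rintro ⟨s, hs⟩
  obtain ⟨g, hg⟩ := phT_surj e s
  refine ⟨⟨g.1, (mem_subG e).2 (by rw [hg]; exact hs)⟩, Subtype.ext ?_⟩
  exact hg

lemma subPr_ker (S : Subgroup T) : (scalars ι F).subgroupOf (subG e S) = (subPr e S).ker := by
  ext g
  have h1 : (⟨g.1, subG_le e S g.2⟩ : P) ∈ (phT e).ker ↔ (g : GL ι F) ∈ scalars ι F := by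
    rw [phT_ker e, Subgroup.mem_subgroupOf]
  rw [Subgroup.mem_subgroupOf, ← h1, MonoidHom.mem_ker, MonoidHom.mem_ker]
  constructor
  · intro h; exact Subtype.ext h
  · intro h; exact congrArg Subtype.val h

/-- the quotient of the subgroup modulo scalars -/
noncomputable def subIso {T' : Type w} [Group T'] (S : Subgroup T) (f : S ≃* T') : Soc (subG e S) ≃* T' :=
  ((QuotientGroup.quotientMulEquivOfEq (subPr_ker e S)).trans
    (QuotientGroup.quotientKerEquivOfSurjective _ (subPr_surj e S))).trans f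

end sub

section main

variable {ι : Type} [Fintype ι] [DecidableEq ι] {F : Type u} [Field F] {P : Subgroup (GL ι F)}

instance finite_M22_inst : Finite Spor.M22 := inferInstance

theorem sq_ker [Finite F] (hC : Core P) (e : Soc P ≃* Spor.M22) (hn : Fintype.card ι = 10) :
    ∀ z ∈ (phT e).ker, z ^ 2 = 1 := by
  intro z hz
  have h1 := phT_pow e hC hz
  rw [hn] at h1
  have hf : Fact (Nat.Prime 5) := ⟨Nat.prime_five⟩
  obtain ⟨t, ht⟩ := exists_prime_orderOf_dvd_card' (G := Spor.M22) 5 (by rw [card_M22]; norm_num)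
  have hcop := T14.coprime_ker (phT_surj e) (phT_cen e) hC.commutator_top Nat.prime_five ht (m := 88704)
    (by rw [card_M22]) (by norm_num)
  have h2 : orderOf z ∣ Nat.card (phT e).ker := by
    have h3 : orderOf (⟨z, hz⟩ : (phT e).ker) ∣ Nat.card (phT e).ker := orderOf_dvd_natCard _
    rwa [← Subgroup.orderOf_coe] at h3
  have h3 : orderOf z ∣ 10 := orderOf_dvd_of_pow_eq_one h1
  have h4 : (orderOf z).Coprime 5 := Nat.Coprime.coprime_dvd_left h2 hcop
  rw [← orderOf_dvd_iff_pow_eq_one]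
  have h5 : orderOf z ∣ 5 * 2 := by norm_num; exact h3
  exact h4.dvd_of_dvd_mul_left h5

/-- **Cores with socle `M22` in degree ten.** -/
theorem ten [Finite F] (p : ℕ) [hp : Fact p.Prime] [CharP F p] (hC : Core P) (hp2 : p ≠ 2)
    (hn : Fintype.card ι = 10) (e : Soc P ≃* Spor.M22) :
    ((p % 7 = 1 ∨ p % 7 = 2 ∨ p % 7 = 4) → Fr P p) ∧ ((p % 7 = 3 ∨ p % 7 = 5 ∨ p % 7 = 6) → Cj P p) ∧
      (p = 7 → SD P ∧ Fr P 7) := by
  classical
  have hfin : Finite P := inferInstance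
  have hne := hC.nonempty
  have hz2 := sq_ker hC e hn
  have h2Ω := T14.two_ne (F := F) p hp2 (AlgebraicClosure F)
  have hcharΩ : CharP (AlgebraicClosure F) p := charP_of_injective_algebraMap (algebraMap F (AlgebraicClosure F)).injective p
  have hcov := core_cov e p
  -- the two subgroups
  have iK : Fintype (GaloisField 2 2) := Fintype.ofFinite _
  have hK : Fintype.card (GaloisField 2 2) = 4 := by
    rw [← Nat.card_eq_fintype_card, GaloisField.card 2 2 (by norm_num)]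
    norm_num
  obtain ⟨a1, a2, b1, b2, -⟩ := pt1
  have sub : ∀ q : GolayPt, q ≠ none → q ≠ some 0 →
      ((p % 7 = 1 ∨ p % 7 = 2 ∨ p % 7 = 4) → Fr (subG e (st q)) p) ∧
      ((p % 7 = 3 ∨ p % 7 = 5 ∨ p % 7 = 6) → Cj (subG e (st q)) p) ∧
      (p = 7 → SD (subG e (st q)) ∧ Fr (subG e (st q)) 7) := by
    intro q hq hq'
    obtain ⟨f⟩ := st_iso hq hq' (GaloisField 2 2) hK
    apply l34_ten' p hp2 hK hn (subIso e (st q) f)
    intro z hz
    have h1 : (z : GL ι F) ∈ scalars ι F := by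
      rw [ker_comp, Subgroup.mem_subgroupOf] at hz
      exact hz
    have h2 : (⟨z.1, subG_le e _ z.2⟩ : P) ∈ (phT e).ker := by
      rw [phT_ker e, Subgroup.mem_subgroupOf]; exact h1
    have h3 := hz2 _ h2
    exact Subtype.ext (congrArg (fun y : P => (y : GL ι F)) h3)
  have sa := sub (pt 1) a1 a2
  have sb := sub (pt 2) b1 b2
  let H1 : Subgroup P := (st (pt 1)).comap (phT e)
  let H2 : Subgroup P := (st (pt 2)).comap (phT e)
  let D : Subgroup P := (st (pt 1) ⊓ st (pt 2)).comap (phT e)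
  have d1 : D ≤ H1 := Subgroup.comap_mono inf_le_left
  have d2 : D ≤ H2 := Subgroup.comap_mono inf_le_right
  have hgen : H1 ⊔ H2 = ⊤ := by
    change (st (pt 1)).comap (phT e) ⊔ (st (pt 2)).comap (phT e) = ⊤
    rw [Subgroup.comap_sup_eq _ _ _ (phT_surj e), st_sup, Subgroup.comap_top]
  have m1 : ∀ g ∈ H1, (g : GL ι F) ∈ subG e (st (pt 1)) := fun g hg => (mem_subG e).2 hg
  have m2 : ∀ g ∈ H2, (g : GL ι F) ∈ subG e (st (pt 2)) := fun g hg => (mem_subG e).2 hg
  have hspan : Submodule.span (AlgebraicClosure F) (T14.mrep P '' (D : Set P)) = ⊤ := by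
    apply span_of_irred
    intro W' hW'
    exact ten_irred hcov h2Ω (finrank_rep hn) W' hW'
  let Ω := AlgebraicClosure F
  let σ : Ω ≃+* Ω := frobeniusEquiv Ω p
  have hσ : ∀ x : Ω, σ x = x ^ p := fun x => rfl
  have sT : ∀ τ : Ω ≃+* Ω, Submodule.span Ω (twist τ (T14.mrep P) '' (D : Set P)) = ⊤ := by
    intro τ
    rw [← T14.range_image] at hspan ⊢
    have h1 := span_twist τ hspan
    have h3 : twist τ ((T14.mrep P).comp D.subtype) = (twist τ (T14.mrep P)).comp D.subtype :=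
      MonoidHom.ext fun _ => rfl
    rwa [h3] at h1
  have sC : Submodule.span Ω (contra (T14.mrep P) '' (D : Set P)) = ⊤ := by
    rw [← T14.range_image] at hspan ⊢
    have h1 := span_contra hspan
    have h3 : contra ((T14.mrep P).comp D.subtype) = (contra (T14.mrep P)).comp D.subtype :=
      MonoidHom.ext fun _ => rfl
    rwa [h3] at h1
  have tT : ∀ (τ : Ω ≃+* Ω) (g : P), (twist τ (T14.mrep P) g).trace = τ (algebraMap F Ω (tr (g : GL ι F))) := by
    intro τ g
    rw [twist_apply, map_trace', T14.trace_mrep]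
  have tC : ∀ g : P, (contra (T14.mrep P) g).trace = algebraMap F Ω (tr ((g : GL ι F)⁻¹)) := by
    intro g
    rw [contra_apply, Matrix.trace_transpose, T14.trace_mrep]
    rfl
  have inj := (algebraMap F Ω).injective
  refine ⟨?_, ?_, ?_⟩
  · intro h3 g hg
    have h4 := glue D H1 H2 d1 d2 hgen (sT σ) hspan (fun g hg => by
      rw [tT, T14.trace_mrep, hσ, ← map_pow, sa.1 h3 g (m1 g hg)]) (fun g hg => by
      rw [tT, T14.trace_mrep, hσ, ← map_pow, sb.1 h3 g (m2 g hg)]) ⟨g, hg⟩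
    rw [tT, T14.trace_mrep, hσ, ← map_pow] at h4
    exact inj h4
  · intro h3 g hg
    have h4 := glue D H1 H2 d1 d2 hgen (sT σ) sC (fun g hg => by
      rw [tT, tC, hσ, ← map_pow, sa.2.1 h3 g (m1 g hg)]) (fun g hg => by
      rw [tT, tC, hσ, ← map_pow, sb.2.1 h3 g (m2 g hg)]) ⟨g, hg⟩
    rw [tT, tC, hσ, ← map_pow] at h4
    exact inj h4
  · rintro rfl
    constructor
    · intro g hg
      have h4 := glue D H1 H2 d1 d2 hgen sC hspan (fun g hg => by
        rw [tC, T14.trace_mrep, (sa.2.2 rfl).1 g (m1 g hg)]) (fun g hg => by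
        rw [tC, T14.trace_mrep, (sb.2.2 rfl).1 g (m2 g hg)]) ⟨g, hg⟩
      rw [tC, T14.trace_mrep] at h4
      exact inj h4
    · intro g hg
      have h4 := glue D H1 H2 d1 d2 hgen (sT σ) hspan (fun g hg => by
        rw [tT, T14.trace_mrep, hσ, ← map_pow, (sa.2.2 rfl).2 g (m1 g hg)]) (fun g hg => by
        rw [tT, T14.trace_mrep, hσ, ← map_pow, (sb.2.2 rfl).2 g (m2 g hg)]) ⟨g, hg⟩
      rw [tT, T14.trace_mrep, hσ, ← map_pow] at h4
      exact inj h4

end main

end Cfsg.Agent.H13.M22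
end
end
end
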